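import Cfsg.Agent.Lib.Fi22P.PermCheck

/-!
Kernel check that the relations fix a block of points.
-/

set_option autoImplicit false
set_option maxRecDepth 100000

namespace CfsgLib.Fi22P

open CfsgLib.PresCert

theorem relFix2a : (relData.take 44).all (fun w => tab.fixBlock w 2) = true := by decide +kernel

theorem relFix2b : ((relData.drop 44).take 2).all (fun w => tab.fixBlock w 2) = true := by decide +kernel

theorem relFix2c : (relData.drop 46).all (fun w => tab.fixBlock w 2) = true := by decide +kernel

end CfsgLib.Fi22P
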