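import Cfsg.Agent.Lib.Fi22P.PermCheck

/-!
Kernel check of the orbit forest.
-/

set_option autoImplicit false
set_option maxRecDepth 100000

namespace CfsgLib.Fi22P

open CfsgLib.PresCert

theorem forest_blocks0 : forestBlock tab forest 0 = true := by decide +kernel

theorem forest_blocks1 : forestBlock tab forest 1 = true := by decide +kernel

theorem forest_blocks2 : forestBlock tab forest 2 = true := by decide +kernel

theorem forest_blocks3 : forestBlock tab forest 3 = true := by decide +kernel

theorem forest_blocks : fourBlocks (forestBlock tab forest) = true := by
  simp only [fourBlocks, forest_blocks0, forest_blocks1, forest_blocks2, forest_blocks3, Bool.and_true]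

end CfsgLib.Fi22P
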