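import Cfsg.Agent.Lib.Fi22P.PermCheck

/-!
Kernel check of the levels.
-/

set_option autoImplicit false
set_option maxRecDepth 100000

namespace CfsgLib.Fi22P

open CfsgLib.PresCert

/-- A level by number. -/
def lev (k : ℕ) : Level := levels.getD k ⟨0, [], [], []⟩

/-- The base points of the earlier levels. -/
def fixedBefore (k : ℕ) : List ℕ := 0 :: (blockLevels.take k).map Level.base

theorem lev_ok0 : levelOk tab (fixedBefore 0) (lev 0) = true := by decide +kernel

theorem lev_ok1 : levelOk tab (fixedBefore 1) (lev 1) = true := by decide +kernel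

theorem lev_ok2 : levelOk tab (fixedBefore 2) (lev 2) = true := by decide +kernel

theorem lev_ok3 : levelOk tab (fixedBefore 3) (lev 3) = true := by decide +kernel

theorem lev_ok4 : levelOk tab (fixedBefore 4) (lev 4) = true := by decide +kernel

theorem lev_ok5 : levelOk tab (fixedBefore 5) (lev 5) = true := by decide +kernel

theorem lev_ok6 : levelOk tab (fixedBefore 6) (lev 6) = true := by decide +kernel

theorem lev_shape : levels.map (fun l => (l.base, l.pts.length)) =
    (List.range 7).map (fun k => ((lev k).base, (lev k).pts.length)) ∧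
    (levels.map fun l => l.pts.length).prod = 18393661440 := by
  decide +kernel

theorem levels_eq : levels = [lev 0, lev 1, lev 2, lev 3, lev 4, lev 5, lev 6] := rfl

theorem fixed_eq : fixedBefore 0 = [0] ∧ ∀ k < 6, fixedBefore k ++ [(lev k).base] = fixedBefore (k + 1) := by
  decide +kernel

theorem tab_levels : levelsOk tab [0] levels = true ∧
    (levels.map fun l => l.pts.length).prod = 18393661440 := by
  refine ⟨?_, lev_shape.2⟩
  obtain ⟨e, h⟩ := fixed_eq
  rw [levels_eq, ← e]
  simp only [levelsOk, h 0 (by norm_num), h 1 (by norm_num), h 2 (by norm_num), h 3 (by norm_num),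
    h 4 (by norm_num), h 5 (by norm_num), lev_ok0, lev_ok1, lev_ok2, lev_ok3, lev_ok4, lev_ok5,
    lev_ok6, Bool.and_true, Nat.reduceAdd]

end CfsgLib.Fi22P
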