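import Cfsg.Agent.Lib.Fi22P.Order
import Cfsg.Agent.Lib.Fi22P.PermFix0
import Cfsg.Agent.Lib.Fi22P.PermFix1
import Cfsg.Agent.Lib.Fi22P.PermFix2
import Cfsg.Agent.Lib.Fi22P.PermFix3
import Cfsg.Agent.Lib.Fi22P.PermLevels
import Cfsg.Agent.Lib.Fi22P.PermForest

/-!
The presented Fischer group on 3510 points: its order, the point stabiliser and simplicity.
-/

set_option autoImplicit false
set_option maxRecDepth 100000

namespace CfsgLib.Fi22P

open CfsgLib.PresCert Cfsg.Spor

attribute [local irreducible] relData levels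

theorem tabInv : tab.Inv := fun _ hb => four_blocks tab_inv0 hb

theorem relData_fix {w : List ℕ} (hw : w ∈ relData) : tab.Fix w := by
  intro b hb
  rw [← List.take_append_drop 44 relData, List.mem_append,
    ← List.take_append_drop 2 (relData.drop 44), List.drop_drop, List.mem_append] at hw
  have hb' : b = 0 ∨ b = 1 ∨ b = 2 ∨ b = 3 := by
    have : tab.n = 3510 := rfl
    omega
  rcases hb' with rfl | rfl | rfl | rfl
  · exact hw.elim (List.all_eq_true.1 relFix0a w)
      (fun h => h.elim (List.all_eq_true.1 relFix0b w) (List.all_eq_true.1 relFix0c w))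
  · exact hw.elim (List.all_eq_true.1 relFix1a w)
      (fun h => h.elim (List.all_eq_true.1 relFix1b w) (List.all_eq_true.1 relFix1c w))
  · exact hw.elim (List.all_eq_true.1 relFix2a w)
      (fun h => h.elim (List.all_eq_true.1 relFix2b w) (List.all_eq_true.1 relFix2c w))
  · exact hw.elim (List.all_eq_true.1 relFix3a w)
      (fun h => h.elim (List.all_eq_true.1 relFix3b w) (List.all_eq_true.1 relFix3c w))

theorem perm_rels : ∀ w ∈ fiData.rels, act (tab.perm tabInv) w = 1 :=
  CoxData.perm_rels tabInv (P := fiData) rfl rels_covered fun _ hw => relData_fix hw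

/-- The action on 3510 points. -/
def phi : Cfsg.Spor.Fi22 →* Equiv.Perm (Fin tab.n) := CoxData.toPerm tabInv perm_rels

theorem realised : Realised fiGen tab phi := CoxData.realised_toPerm tabInv fi_ok rfl perm_rels

theorem tree_ok : ∀ b, 1000 * b < tab.n → treeBlock tab 16 treePars b = true :=
  fun _ hb => four_blocks tab_tree hb

theorem tab_n : tab.n = 3510 := rfl

theorem zero_lt : 0 < tab.n := by rw [tab_n]; norm_num

theorem stab_le : (∀ i j : Fin tab.n, ∃ m, phi m i = j) ∧
    Nat.card (fixSub phi [0]) ≤ (levels.map fun l => l.pts.length).prod := by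
  haveI := fi_le.1
  obtain ⟨h1, h2⟩ := card_trans realised zero_lt tree_ok
  refine ⟨h1, ?_⟩
  have h3 := fi_le.2
  rw [h2, tab_n] at h3
  rw [tab_levels.2]
  omega

theorem card_stab : Nat.card (fixSub phi [0]) = 18393661440 := by
  haveI := fi_le.1
  rw [(base_tight realised tab_levels.1 stab_le.2).1, tab_levels.2]

/-- The order of the presented Fischer group. -/
theorem card_fi : Finite Cfsg.Spor.Fi22 ∧ Nat.card Cfsg.Spor.Fi22 = 64561751654400 := by
  haveI := fi_le.1
  exact ⟨fi_le.1, by rw [(card_trans realised zero_lt tree_ok).2, card_stab, tab_n]⟩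

theorem base_trivial : fixSub phi ([0] ++ levels.map Level.base) = ⊥ := by
  haveI := fi_le.1
  exact (base_tight realised tab_levels.1 stab_le.2).2

theorem phi_injective : Function.Injective phi := by
  refine (MonoidHom.ker_eq_bot_iff _).1 (eq_bot_iff.2 ?_)
  rw [← base_trivial]
  intro m hm i _
  rw [MonoidHom.mem_ker.1 hm]
  rfl

theorem baseL_eq : baseL = [0] ++ levels.map Level.base := by
  unfold baseL levels
  rw [List.map_map]
  rfl

/-- Words that agree on the base give the same element. -/
theorem eq_of_base {u v : List ℕ} (h : sameBase u v = true) : act fiGen u = act fiGen v := by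
  simp only [sameBase, Bool.and_eq_true, List.all_eq_true, Nat.beq_eq, Nat.blt_eq] at h
  obtain ⟨⟨hb, hu⟩, hv⟩ := h
  have hmem : (act fiGen v)⁻¹ * act fiGen u ∈ fixSub phi ([0] ++ levels.map Level.base) := by
    intro i hi
    rw [← baseL_eq] at hi
    rw [map_mul, Equiv.Perm.mul_apply, map_inv, Equiv.Perm.inv_def, Equiv.symm_apply_eq]
    refine Fin.ext ?_
    rw [realised.act_apply hu, realised.act_apply hv, hb _ hi]
  rw [base_trivial, Subgroup.mem_bot] at hmem
  exact (inv_mul_eq_one.1 hmem).symm

/-- The point stabiliser as printed. -/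
def subH : Subgroup Cfsg.Spor.Fi22 := genGrp sH fiGen

theorem expand_mem : ∀ w : List ℕ, act fiGen (expand w) ∈ subH
  | [] => by rw [expand, List.flatMap_nil, act_nil]; exact Subgroup.one_mem _
  | k :: w => by
    rw [expand, List.flatMap_cons, act_append]
    refine Subgroup.mul_mem _ (expand_mem w) ?_
    by_cases hk : k < sH.length
    · rw [List.getD_eq_getElem _ _ hk]
      exact Subgroup.subset_closure ⟨_, List.getElem_mem hk, rfl⟩
    · rw [List.getD_eq_default _ _ (Nat.le_of_not_lt hk), act_nil]
      exact Subgroup.one_mem _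

theorem subH_eq : subH = fixSub phi [0] := by
  haveI := fi_le.1
  refine le_antisymm ?_ ?_
  · refine (Subgroup.closure_le _).2 ?_
    rintro _ ⟨w, hw, rfl⟩
    intro i hi
    have h := letters_fix
    simp only [List.all_eq_true, Bool.and_eq_true, Nat.blt_eq, Nat.beq_eq] at h
    refine Fin.ext ?_
    rw [realised.act_apply (h w hw).2, List.mem_singleton.1 hi, (h w hw).1]
  · refine fixSub_le_of_gens realised tab_levels.1 (fun l hl w hw => ?_)
      (base_trivial ▸ bot_le) stab_le.2
    obtain ⟨l', hl', e1⟩ : ∃ l' ∈ blockLevels, l.gens = l'.gens.map expand := by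
      unfold levels at hl
      obtain ⟨l', hl', rfl⟩ := List.mem_map.1 hl
      exact ⟨l', hl', rfl⟩
    rw [e1] at hw
    obtain ⟨v, -, rfl⟩ := List.mem_map.1 hw
    exact expand_mem v

theorem index_subH : subH.index = 3510 := by
  haveI := card_fi.1
  have h := subH.card_mul_index
  rw [subH_eq, card_stab, card_fi.2] at h
  rw [subH_eq]
  omega

theorem forest_ok : ForestOk tab forest :=
  ⟨forest_shape, fun _ hb => four_blocks forest_blocks hb⟩

theorem forest_count {k : ℕ} (hk : k < 3) :
    ((List.range tab.n).filter fun q => Nat.beq (forest.lab q) k).length =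
      [1, 693, 2816].getD k 0 := by
  rw [← forest_counts.1, List.getD_eq_getElem _ _ (by simpa using hk)]
  simp [tab_n]

/-- The first generator commutes with the printed stabiliser. -/
theorem first_central {m : Cfsg.Spor.Fi22} (hm : m ∈ subH) : fiGen 0 * m = m * fiGen 0 := by
  suffices h : subH ≤ Subgroup.centralizer {fiGen 0} from
    (Subgroup.mem_centralizer_iff.1 (h hm) _ rfl)
  refine (Subgroup.closure_le _).2 ?_
  rintro _ ⟨w, hw, rfl⟩
  rw [SetLike.mem_coe, Subgroup.mem_centralizer_iff]
  rintro _ rfl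
  have h := List.all_eq_true.1 comm_base w hw
  have e := eq_of_base h
  rw [act_cons, act_append, act_cons, act_nil, one_mul] at e
  exact e.symm

/-- The presented Fischer group is simple. -/
theorem simple : IsSimpleGroup Cfsg.Spor.Fi22 := by
  haveI := card_fi.1
  haveI : Nontrivial Cfsg.Spor.Fi22 := Finite.one_lt_card_iff_nontrivial.1 (by
    rw [card_fi.2]; norm_num)
  refine ⟨fun N hN => or_iff_not_imp_left.2 fun hne => ?_⟩
  haveI := hN
  letI : MulAction Cfsg.Spor.Fi22 (Fin tab.n) := MulAction.compHom _ phi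
  haveI : MulAction.IsPretransitive Cfsg.Spor.Fi22 (Fin tab.n) := ⟨stab_le.1⟩
  set z : Fin tab.n := ⟨0, zero_lt⟩ with hz
  set O := MulAction.orbit N z with hO
  have hdvd : O.ncard ∣ 3510 := by
    have h := (MulAction.IsBlock.orbit_of_normal (G := Cfsg.Spor.Fi22) (N := N) z).ncard_dvd_card
      (MulAction.nonempty_orbit z)
    rw [Nat.card_fin] at h
    exact h
  have hinv : ∀ i ∈ O, ∀ m ∈ genGrp forest.words fiGen, phi m i ∈ O := by
    rintro _ ⟨⟨v, hv⟩, rfl⟩ m hm
    have hm' : m ∈ fixSub phi [0] := by rw [← subH_eq]; exact hm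
    refine ⟨⟨m * v * m⁻¹, hN.conj_mem v hv m⟩, ?_⟩
    show phi (m * v * m⁻¹) z = phi m (phi v z)
    rw [map_mul, map_mul, Equiv.Perm.mul_apply, Equiv.Perm.mul_apply]
    congr 2
    exact Subgroup.inv_mem _ hm' z (by simp [hz])
  have hsame : ∀ i j : Fin tab.n, forest.lab i.val = forest.lab j.val → i ∈ O → j ∈ O := by
    intro i j e hi
    obtain ⟨a, ha, hai⟩ := forest_ok.reach realised i
    obtain ⟨b, hb, hbj⟩ := forest_ok.reach realised j
    have hroot : phi a⁻¹ i = (⟨forest.roots.getD (forest.lab i.val) 0,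
        (forest_ok.root (forest_ok.spec i.isLt).2.1).1⟩ : Fin tab.n) := by
      rw [map_inv, Equiv.Perm.inv_def, Equiv.symm_apply_eq]
      exact hai.symm
    have h2 := hinv _ (hinv i hi a⁻¹ (Subgroup.inv_mem _ ha)) b hb
    rw [hroot] at h2
    simp only [e] at h2
    rwa [hbj] at h2
  have hlab0 : ∀ i : Fin tab.n, forest.lab i.val = 0 → i = z := by
    intro i h0
    obtain ⟨a, ha, hai⟩ := forest_ok.reach realised i
    have ha' : a ∈ fixSub phi [0] := by rw [← subH_eq]; exact ha
    simp only [h0, forest_counts.2.2.2] at hai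
    exact hai.symm.trans (ha' z (by simp [hz]))
  have hall : ∀ i, i ∈ O := by
    by_contra h
    obtain ⟨j, hj⟩ := not_forall.1 h
    obtain ⟨v, hv, hvne⟩ : ∃ v ∈ N, phi v z ≠ z := by
      by_contra hfix
      simp only [not_exists, not_and, ne_eq, not_not] at hfix
      refine hne (eq_bot_iff.2 fun v hv => Subgroup.mem_bot.2 (phi_injective ?_))
      rw [map_one]
      refine Equiv.ext fun i => ?_
      obtain ⟨m, hm⟩ := stab_le.1 z i
      have h2 := hfix (m⁻¹ * v * m) (hN.conj_mem' v hv m)
      rw [map_mul, map_mul, Equiv.Perm.mul_apply, Equiv.Perm.mul_apply, hm, map_inv,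
        Equiv.Perm.inv_def, Equiv.symm_apply_eq, hm] at h2
      exact h2
    set i := phi v z
    have hi : i ∈ O := ⟨⟨v, hv⟩, rfl⟩
    have hi0 : forest.lab i.val ≠ 0 := fun h0 => hvne (hlab0 i h0)
    have hj0 : forest.lab j.val ≠ 0 := fun h0 => hj (by
      rw [hlab0 j h0]; exact MulAction.mem_orbit_self z)
    have hij : forest.lab i.val ≠ forest.lab j.val := fun e => hj (hsame i j e hi)
    have hi3 : forest.lab i.val < 3 := forest_counts.2.1 ▸ (forest_ok.spec i.isLt).2.1
    have hj3 : forest.lab j.val < 3 := forest_counts.2.1 ▸ (forest_ok.spec j.isLt).2.1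
    have heq : O = insert z {q : Fin tab.n | ∃ m ∈ genGrp forest.words fiGen, phi m i = q} := by
      ext q
      constructor
      · intro hq
        have hq3 : forest.lab q.val < 3 := forest_counts.2.1 ▸ (forest_ok.spec q.isLt).2.1
        have hqj : forest.lab q.val ≠ forest.lab j.val := fun e => hj (hsame q j e hq)
        rcases Nat.eq_zero_or_pos (forest.lab q.val) with h0 | h0
        · exact Or.inl (hlab0 q h0)
        · right
          obtain ⟨a, ha, hai⟩ := forest_ok.reach realised i
          obtain ⟨b, hb, hbq⟩ := forest_ok.reach realised q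
          refine ⟨b * a⁻¹, Subgroup.mul_mem _ hb (Subgroup.inv_mem _ ha), ?_⟩
          rw [map_mul, Equiv.Perm.mul_apply, map_inv, Equiv.Perm.inv_def,
            (Equiv.symm_apply_eq _).2 hai.symm]
          have e : forest.lab i.val = forest.lab q.val := by omega
          simp only [e]
          exact hbq
      · rintro (rfl | ⟨m, hm, rfl⟩)
        · exact MulAction.mem_orbit_self z
        · exact hinv i hi m hm
    have hnot : z ∉ {q : Fin tab.n | ∃ m ∈ genGrp forest.words fiGen, phi m i = q} := by
      rintro ⟨m, hm, e⟩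
      have h1 := forest_ok.invariant realised hm i
      rw [e] at h1
      rw [show z.val = 0 from rfl, forest_counts.2.2.1] at h1
      exact hi0 h1.symm
    rw [heq, Set.ncard_insert_of_notMem hnot (Set.toFinite _), forest_ok.orbit_card realised i,
      forest_count hi3] at hdvd
    obtain h | h : forest.lab i.val = 1 ∨ forest.lab i.val = 2 := by omega
    all_goals (rw [h] at hdvd; norm_num at hdvd)
  have hprod : ∀ m, ∃ v ∈ N, ∃ h ∈ subH, v * h = m := by
    intro m
    obtain ⟨⟨v, hv⟩, e⟩ := hall (phi m z)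
    refine ⟨v, hv, v⁻¹ * m, ?_, by group⟩
    rw [subH_eq]
    intro i hi
    have hiz : i = z := Fin.ext (List.mem_singleton.1 hi)
    subst hiz
    rw [map_mul, Equiv.Perm.mul_apply, map_inv, Equiv.Perm.inv_def, Equiv.symm_apply_eq]
    exact e.symm
  refine eq_top_iff.2 fun x _ => (QuotientGroup.eq_one_iff x).1
    (hom_trivial (QuotientGroup.mk' N) (fun m => ?_) x)
  obtain ⟨v, hv, h, hh, rfl⟩ := hprod m
  have e0 : (PresentedGroup.of Fi22.Gen.a : Cfsg.Spor.Fi22) = fiGen 0 :=
    (CoxData.gen_ix (P := fiData) fi_ok Fi22.Gen.a).symm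
  rw [map_mul, show QuotientGroup.mk' N v = 1 from (QuotientGroup.eq_one_iff v).2 hv, one_mul, e0,
    ← map_mul, ← map_mul, first_central hh]

end CfsgLib.Fi22P
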