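import Cfsg.Agent.Lib.Fi22P.Pres
import Cfsg.Agent.Lib.Fi22P.PermData
import Cfsg.Agent.Lib.PresCert.Orbits

/-!
Kernel checks of the action on 3510 points.
-/

set_option autoImplicit false
set_option maxRecDepth 100000

namespace CfsgLib.Fi22P

open CfsgLib.PresCert Cfsg.Spor

/-- All checks of one kind for the four blocks. -/
def fourBlocks (P : ℕ → Bool) : Bool := P 0 && P 1 && P 2 && P 3

theorem four_blocks {P : ℕ → Bool} (h : fourBlocks P = true) {b : ℕ} (hb : 1000 * b < 3510) :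
    P b = true := by
  simp only [fourBlocks, Bool.and_eq_true] at h
  obtain rfl | rfl | rfl | rfl : b = 0 ∨ b = 1 ∨ b = 2 ∨ b = 3 := by omega
  exacts [h.1.1.1, h.1.1.2, h.1.2, h.2]

theorem tab_inv0 : fourBlocks tab.invBlock = true := by decide +kernel

/-- The defining relations, each once. -/
def relData : List (List ℕ) := [
  [0, 0],
  [0, 1, 0, 1, 0, 1],
  [0, 2, 0, 2],
  [0, 3, 0, 3],
  [0, 4, 0, 4],
  [0, 5, 0, 5],
  [0, 6, 0, 6],
  [0, 7, 0, 7],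
  [0, 8, 0, 8],
  [1, 1],
  [1, 2, 1, 2, 1, 2],
  [1, 3, 1, 3],
  [1, 4, 1, 4],
  [1, 5, 1, 5],
  [1, 6, 1, 6],
  [1, 7, 1, 7],
  [1, 8, 1, 8],
  [2, 2],
  [2, 3, 2, 3, 2, 3],
  [2, 4, 2, 4],
  [2, 5, 2, 5],
  [2, 6, 2, 6],
  [2, 7, 2, 7],
  [2, 8, 2, 8],
  [3, 3],
  [3, 4, 3, 4, 3, 4],
  [3, 5, 3, 5],
  [3, 6, 3, 6],
  [3, 7, 3, 7, 3, 7],
  [3, 8, 3, 8],
  [4, 4],
  [4, 5, 4, 5, 4, 5],
  [4, 6, 4, 6],
  [4, 7, 4, 7],
  [4, 8, 4, 8],
  [5, 5],
  [5, 6, 5, 6, 5, 6],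
  [5, 7, 5, 7],
  [5, 8, 5, 8],
  [6, 6],
  [6, 7, 6, 7],
  [6, 8, 6, 8],
  [7, 7],
  [7, 8, 7, 8, 7, 8],
  [8, 8],
  [3, 2, 1, 3, 4, 5, 3, 7, 8, 3, 2, 1, 3, 4, 5, 3, 7, 8, 3, 2, 1, 3, 4, 5, 3, 7, 8, 3, 2, 1, 3, 4, 5, 3, 7, 8, 3, 2, 1, 3, 4, 5, 3, 7, 8, 3, 2, 1, 3, 4, 5, 3, 7, 8, 3, 2, 1, 3, 4, 5, 3, 7, 8, 3, 2, 1, 3, 4, 5, 3, 7, 8, 3, 2, 1, 3, 4, 5, 3, 7, 8, 3, 2, 1, 3, 4, 5, 3, 7, 8],
  [0, 1, 2, 3, 4, 5, 7, 0, 1, 2, 3, 4, 5, 7, 0, 1, 2, 3, 4, 5, 7, 0, 1, 2, 3, 4, 5, 7, 0, 1, 2, 3, 4, 5, 7, 0, 1, 2, 3, 4, 5, 7, 0, 1, 2, 3, 4, 5, 7, 0, 1, 2, 3, 4, 5, 7, 0, 1, 2, 3, 4, 5, 7],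
  [1, 2, 3, 4, 5, 6, 7, 1, 2, 3, 4, 5, 6, 7, 1, 2, 3, 4, 5, 6, 7, 1, 2, 3, 4, 5, 6, 7, 1, 2, 3, 4, 5, 6, 7, 1, 2, 3, 4, 5, 6, 7, 1, 2, 3, 4, 5, 6, 7, 1, 2, 3, 4, 5, 6, 7, 1, 2, 3, 4, 5, 6, 7]]

theorem rels_covered : fiData.covered relData = true := by decide +kernel

theorem tab_tree : fourBlocks (treeBlock tab 16 treePars) = true := by decide +kernel

/-- The word of the printed involution of the stabiliser. -/
def wordH : List ℕ :=
  [7, 4, 3, 2, 1, 0, 7, 4, 3, 2, 1, 0, 7, 4, 3, 2, 1, 0, 7, 4, 3, 2, 1, 0, 7, 4, 3, 2, 1, 0]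

/-- The words of the generators of the point stabiliser. -/
def sH : List (List ℕ) := [[0], [2], [3], [4], [5], [6], [7], [8], wordH]

/-- A word in the generators of the point stabiliser, in letters. -/
def expand (w : List ℕ) : List ℕ := w.flatMap fun k => sH.getD k []

/-- The levels of the base, in letters. -/
def levels : List Level :=
  blockLevels.map fun l => ⟨l.base, l.gens.map expand, l.pts, l.par⟩

theorem letters_fix : sH.all (fun w => Nat.beq (tab.walk 0 w) 0 &&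
    w.all fun g => Nat.blt g tab.ng) = true := by
  decide +kernel

/-- The base points, the first point included. -/
def baseL : List ℕ := 0 :: blockLevels.map Level.base

/-- Two words agree on the base points. -/
def sameBase (u v : List ℕ) : Bool :=
  baseL.all (fun b => Nat.beq (tab.walk b u) (tab.walk b v)) &&
    u.all (fun g => Nat.blt g 9) && v.all (fun g => Nat.blt g 9)

theorem comm_base : sH.all (fun w => sameBase (0 :: w) (w ++ [0])) = true := by decide +kernel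

/-- The orbits of the stabiliser. -/
def forest : Forest where
  words := sH
  lab := look labels 256 2
  depth := look subDepth 256 8
  parent p := look subPars 256 16 p / 16
  via p := look subPars 256 16 p % 16
  roots := subRoots

theorem forest_shape : forestShape tab forest = true := by decide +kernel

theorem forest_counts : ((List.range 3).map fun k =>
    ((List.range 3510).filter fun q => Nat.beq (forest.lab q) k).length) = [1, 693, 2816] ∧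
    forest.roots.length = 3 ∧ forest.lab 0 = 0 ∧ forest.roots.getD 0 0 = 0 := by
  decide +kernel

end CfsgLib.Fi22P
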