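import Cfsg.Agent.Lib.PresCert.Bound
import Cfsg.Agent.Lib.Fi22P.DataG

/-!
Kernel checks of a certificate, part 0.
-/

set_option autoImplicit false
set_option maxRecDepth 100000

namespace CfsgLib.Fi22P

open CfsgLib.PresCert

theorem certG_block0 : block certG 0 = true := by decide +kernel

theorem certG_block1 : block certG 1 = true := by decide +kernel

theorem certG_block2 : block certG 2 = true := by decide +kernel

theorem certG_block3 : block certG 3 = true := by decide +kernel

theorem certG_block4 : block certG 4 = true := by decide +kernel

theorem certG_block5 : block certG 5 = true := by decide +kernel

end CfsgLib.Fi22P
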