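import Cfsg.Agent.Lib.PresCert.Bound
import Cfsg.Agent.Lib.Fi22P.DataG

/-!
Kernel checks of a certificate, part 1.
-/

set_option autoImplicit false
set_option maxRecDepth 100000

namespace CfsgLib.Fi22P

open CfsgLib.PresCert

theorem certG_block6 : block certG 6 = true := by decide +kernel

theorem certG_block7 : block certG 7 = true := by decide +kernel

theorem certG_block8 : block certG 8 = true := by decide +kernel

theorem certG_block9 : block certG 9 = true := by decide +kernel

theorem certG_block10 : block certG 10 = true := by decide +kernel

theorem certG_block11 : block certG 11 = true := by decide +kernel

end CfsgLib.Fi22P
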