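import Cfsg.Agent.Lib.PresCert.Bound
import Cfsg.Agent.Lib.Fi22P.DataG

/-!
Kernel checks of a certificate, part 2.
-/

set_option autoImplicit false
set_option maxRecDepth 100000

namespace CfsgLib.Fi22P

open CfsgLib.PresCert

theorem certG_block12 : block certG 12 = true := by decide +kernel

theorem certG_block13 : block certG 13 = true := by decide +kernel

theorem certG_block14 : block certG 14 = true := by decide +kernel

theorem certG_block15 : block certG 15 = true := by decide +kernel

theorem certG_block16 : block certG 16 = true := by decide +kernel

theorem certG_block17 : block certG 17 = true := by decide +kernel

end CfsgLib.Fi22P
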