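import Cfsg.Agent.Lib.PresCert.Bound
import Cfsg.Agent.Lib.Fi22P.DataG

/-!
Kernel checks of a certificate, part 5.
-/

set_option autoImplicit false
set_option maxRecDepth 100000

namespace CfsgLib.Fi22P

open CfsgLib.PresCert

theorem certG_closedBlock12 : closedBlock certG [[0], [1], [2], [3], [4], [5], [6], [7], [8]] 12 = true := by decide +kernel

theorem certG_closedBlock13 : closedBlock certG [[0], [1], [2], [3], [4], [5], [6], [7], [8]] 13 = true := by decide +kernel

theorem certG_closedBlock14 : closedBlock certG [[0], [1], [2], [3], [4], [5], [6], [7], [8]] 14 = true := by decide +kernel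

end CfsgLib.Fi22P
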