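import Cfsg.Agent.Lib.PresCert.Bound
import Cfsg.Agent.Lib.Fi22P.DataSmall
import Cfsg.Agent.Lib.Fi22P.CheckO7p0
import Cfsg.Agent.Lib.Fi22P.CheckO7p1
import Cfsg.Agent.Lib.Fi22P.CheckO7p2
import Cfsg.Agent.Lib.Fi22P.CheckGp0
import Cfsg.Agent.Lib.Fi22P.CheckGp1
import Cfsg.Agent.Lib.Fi22P.CheckGp2
import Cfsg.Agent.Lib.Fi22P.CheckGp3
import Cfsg.Agent.Lib.Fi22P.CheckGp4
import Cfsg.Agent.Lib.Fi22P.CheckGp5

/-!
Closed certificates.
-/

set_option autoImplicit false
set_option maxRecDepth 100000

namespace CfsgLib.Fi22P

open CfsgLib.PresCert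

theorem certD5_block0 : block certD5 0 = true := by decide +kernel

theorem certD5_block1 : block certD5 1 = true := by decide +kernel

theorem certD5_block2 : block certD5 2 = true := by decide +kernel

theorem certD5_closedBlock0 : closedBlock certD5 [[2], [3], [4], [5], [7]] 0 = true := by decide +kernel

theorem certD5_closedBlock1 : closedBlock certD5 [[2], [3], [4], [5], [7]] 1 = true := by decide +kernel

theorem certD5_shape : shapeOk certD5 = true ∧ ([[2], [3], [4], [5], [7]] : List (List ℕ)).all (fun w => w.all fun g => Nat.blt g certD5.ng) = true := by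
  decide +kernel

theorem certD5_closed : Closed certD5 [[2], [3], [4], [5], [7]] where
  shape := certD5_shape.1
  slots b hb := by
    have h : certD5.N = 2048 := rfl
    obtain rfl | rfl | rfl : b = 0 ∨ b = 1 ∨ b = 2 := by omega
    exacts [certD5_block0, certD5_block1, certD5_block2]
  words := certD5_shape.2
  closed b hb := by
    have h : certD5.n = 1920 := rfl
    obtain rfl | rfl : b = 0 ∨ b = 1 := by omega
    exacts [certD5_closedBlock0, certD5_closedBlock1]

theorem certE6_block0 : block certE6 0 = true := by decide +kernel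

theorem certE6_closedBlock0 : closedBlock certE6 [[1], [2], [3], [4], [5], [7]] 0 = true := by decide +kernel

theorem certE6_shape : shapeOk certE6 = true ∧ ([[1], [2], [3], [4], [5], [7]] : List (List ℕ)).all (fun w => w.all fun g => Nat.blt g certE6.ng) = true := by
  decide +kernel

theorem certE6_closed : Closed certE6 [[1], [2], [3], [4], [5], [7]] where
  shape := certE6_shape.1
  slots b hb := by
    have h : certE6.N = 512 := rfl
    obtain rfl : b = 0 := by omega
    exact certE6_block0
  words := certE6_shape.2
  closed b hb := by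
    have h : certE6.n = 27 := rfl
    obtain rfl : b = 0 := by omega
    exact certE6_closedBlock0

theorem certE7_block0 : block certE7 0 = true := by decide +kernel

theorem certE7_closedBlock0 : closedBlock certE7 [[1], [2], [3], [4], [5], [6], [7]] 0 = true := by decide +kernel

theorem certE7_shape : shapeOk certE7 = true ∧ ([[1], [2], [3], [4], [5], [6], [7]] : List (List ℕ)).all (fun w => w.all fun g => Nat.blt g certE7.ng) = true := by
  decide +kernel

theorem certE7_closed : Closed certE7 [[1], [2], [3], [4], [5], [6], [7]] where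
  shape := certE7_shape.1
  slots b hb := by
    have h : certE7.N = 512 := rfl
    obtain rfl : b = 0 := by omega
    exact certE7_block0
  words := certE7_shape.2
  closed b hb := by
    have h : certE7.n = 28 := rfl
    obtain rfl : b = 0 := by omega
    exact certE7_closedBlock0

theorem certO7_shape : shapeOk certO7 = true ∧ ([[1], [2], [3], [4], [5], [6], [7], [8]] : List (List ℕ)).all (fun w => w.all fun g => Nat.blt g certO7.ng) = true := by
  decide +kernel

theorem certO7_closed : Closed certO7 [[1], [2], [3], [4], [5], [6], [7], [8]] where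
  shape := certO7_shape.1
  slots b hb := by
    have h : certO7.N = 10752 := rfl
    obtain rfl | rfl | rfl | rfl | rfl | rfl | rfl | rfl | rfl | rfl | rfl : b = 0 ∨ b = 1 ∨ b = 2 ∨ b = 3 ∨ b = 4 ∨ b = 5 ∨ b = 6 ∨ b = 7 ∨ b = 8 ∨ b = 9 ∨ b = 10 := by omega
    exacts [certO7_block0, certO7_block1, certO7_block2, certO7_block3, certO7_block4, certO7_block5, certO7_block6, certO7_block7, certO7_block8, certO7_block9, certO7_block10]
  words := certO7_shape.2
  closed b hb := by
    have h : certO7.n = 3159 := rfl
    obtain rfl | rfl | rfl | rfl : b = 0 ∨ b = 1 ∨ b = 2 ∨ b = 3 := by omega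
    exacts [certO7_closedBlock0, certO7_closedBlock1, certO7_closedBlock2, certO7_closedBlock3]

theorem certG_shape : shapeOk certG = true ∧ ([[0], [1], [2], [3], [4], [5], [6], [7], [8]] : List (List ℕ)).all (fun w => w.all fun g => Nat.blt g certG.ng) = true := by
  decide +kernel

theorem certG_closed : Closed certG [[0], [1], [2], [3], [4], [5], [6], [7], [8]] where
  shape := certG_shape.1
  slots b hb := by
    have h : certG.N = 17920 := rfl
    obtain rfl | rfl | rfl | rfl | rfl | rfl | rfl | rfl | rfl | rfl | rfl | rfl | rfl | rfl | rfl | rfl | rfl | rfl : b = 0 ∨ b = 1 ∨ b = 2 ∨ b = 3 ∨ b = 4 ∨ b = 5 ∨ b = 6 ∨ b = 7 ∨ b = 8 ∨ b = 9 ∨ b = 10 ∨ b = 11 ∨ b = 12 ∨ b = 13 ∨ b = 14 ∨ b = 15 ∨ b = 16 ∨ b = 17 := by omega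
    exacts [certG_block0, certG_block1, certG_block2, certG_block3, certG_block4, certG_block5, certG_block6, certG_block7, certG_block8, certG_block9, certG_block10, certG_block11, certG_block12, certG_block13, certG_block14, certG_block15, certG_block16, certG_block17]
  words := certG_shape.2
  closed b hb := by
    have h : certG.n = 14080 := rfl
    obtain rfl | rfl | rfl | rfl | rfl | rfl | rfl | rfl | rfl | rfl | rfl | rfl | rfl | rfl | rfl : b = 0 ∨ b = 1 ∨ b = 2 ∨ b = 3 ∨ b = 4 ∨ b = 5 ∨ b = 6 ∨ b = 7 ∨ b = 8 ∨ b = 9 ∨ b = 10 ∨ b = 11 ∨ b = 12 ∨ b = 13 ∨ b = 14 := by omega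
    exacts [certG_closedBlock0, certG_closedBlock1, certG_closedBlock2, certG_closedBlock3, certG_closedBlock4, certG_closedBlock5, certG_closedBlock6, certG_closedBlock7, certG_closedBlock8, certG_closedBlock9, certG_closedBlock10, certG_closedBlock11, certG_closedBlock12, certG_closedBlock13, certG_closedBlock14]

end CfsgLib.Fi22P
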