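import Cfsg.Agent.Lib.Fi22P.MultU
import Cfsg.Agent.Lib.Fi22P.Closed

/-!
The kernel of the universal candidate over the presented Fischer group.
-/

set_option autoImplicit false
set_option maxRecDepth 100000

namespace CfsgLib.Fi22P

open CfsgLib.PresCert Cfsg.Spor
open scoped commutatorElement

attribute [local irreducible] shortW spiderComW certX7a certX7b certX6 certD5 certE6 levels exS exA exB

/-- The generators of the Fischer group, by name. -/
abbrev fOf (a : Fi22.Gen) : Cfsg.Spor.Fi22 := PresentedGroup.of a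

theorem fi_cox (a b : Fi22.Gen) : (fOf a * fOf b) ^ coxLabel Fi22.edges a b = 1 :=
  CoxData.cox_one (P := fiData) (node_mem a) (node_mem b)

theorem fi_extra {r : FreeGroup Fi22.Gen} (hr : r ∈ Fi22.extra) :
    FreeGroup.lift fOf r = 1 := by
  have h : (PresentedGroup.mk (coxRelators fiData.edges ∪ {r | r ∈ fiData.extra}) :
      FreeGroup Fi22.Gen →* Cfsg.Spor.Fi22) = FreeGroup.lift fOf :=
    FreeGroup.ext_hom _ _ fun a => by rw [FreeGroup.lift_apply_of]; rfl
  rw [← h]
  exact CoxData.relList_one (P := fiData) (List.mem_append_right _ hr)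

/-- The projection. -/
def uProj : UGrp →* Cfsg.Spor.Fi22 :=
  uLift fOf fi_cox fun r hr a => by rw [fi_extra hr, one_mul, mul_one]

theorem uProj_of (a : Fi22.Gen) : uProj (uOf a) = fOf a := uLift_of _ _ _ a

theorem uProj_gen {i : ℕ} (hi : i < 9) : uProj (uGen i) = fiGen i := by
  rw [uGen, uProj_of]
  interval_cases i <;> rfl

theorem uProj_act {w : List ℕ} (hw : ∀ g ∈ w, g < 9) : uProj (act uGen w) = act fiGen w := by
  induction w with
  | nil => exact map_one _
  | cons g w ih =>
    rw [act_cons, act_cons, map_mul, ih fun a ha => hw a (List.mem_cons_of_mem _ ha),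
      uProj_gen (hw g List.mem_cons_self)]

theorem uProj_surjective : Function.Surjective uProj := by
  rw [← MonoidHom.range_eq_top, eq_top_iff, ← PresentedGroup.closure_range_of, Subgroup.closure_le]
  rintro _ ⟨a, rfl⟩
  exact ⟨uOf a, uProj_of a⟩

theorem uProj_extra {r : FreeGroup Fi22.Gen} (hr : r ∈ Fi22.extra) :
    uProj (PresentedGroup.mk uRels r) = 1 := fi_extra hr

/-- One step of a chain, in any group with involutions satisfying the Coxeter relations. -/
theorem step_gen {M : Type*} [Group M] {x : ℕ → M} (hsq : ∀ g, g < 9 → x g * x g = 1)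
    {rels : List (List ℕ)} (hrel : ∀ w ∈ rels, act x w = 1)
    {D : Data} {S W : List (List ℕ)} {a b : ℕ} (hD : Closed D W) (hng : D.ng = 9)
    (hr : relsOk D rels = true) (hs : subsOk D S (16 * D.words.length) = true)
    (hS : Finite (genGrp S x) ∧ Nat.card (genGrp S x) ≤ a) (hab : D.n * a ≤ b) :
    Finite (genGrp W x) ∧ Nat.card (genGrp W x) ≤ b := by
  haveI := hS.1
  have fix : ∀ w ∈ S, act x w • ((1 : M) : M ⧸ genGrp S x) = ((1 : M) : M ⧸ genGrp S x) := by
    intro w h
    rw [MulAction.Quotient.smul_coe, smul_eq_mul, mul_one, QuotientGroup.eq, mul_one]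
    exact inv_mem (Subgroup.subset_closure ⟨w, h, rfl⟩)
  have H : Hyp D x ((1 : M) : M ⧸ genGrp S x) :=
    hyp_of_checks (fun g hg => hsq g (hng ▸ hg)) hrel fix hr hs
  obtain ⟨h1, h2⟩ := card_le hD H
  exact ⟨h1, h2.trans ((Nat.mul_le_mul_left _ hS.2).trans hab)⟩

theorem u6_le : Finite (genGrp w6 uGen) ∧ Nat.card (genGrp w6 uGen) ≤ 51840 := by
  obtain ⟨-, a2, a3, a4⟩ := certD5_words
  obtain ⟨-, b2, b3, b4⟩ := certE6_words
  have e : genGrp [] uGen = ⊥ := by
    rw [genGrp, eq_bot_iff, Subgroup.closure_le]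
    rintro x ⟨w, hw, -⟩
    exact absurd hw List.not_mem_nil
  have h0 : Finite (genGrp [] uGen) ∧ Nat.card (genGrp [] uGen) ≤ 1 := by
    rw [e]; exact ⟨inferInstance, le_of_eq Subgroup.card_bot⟩
  have hA := step_gen (b := 1920) (fun g _ => uGen_sq g) shortW_act certD5_closed a3
    small_words_ext.1 a2 h0 (by rw [a4])
  exact step_gen (b := 51840) (fun g _ => uGen_sq g) shortW_act certE6_closed b3
    small_words_ext.2 b2 hA (by rw [b4])

theorem image6 : 51840 ≤ Nat.card (genGrp w6 fiGen) := by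
  haveI := card_fi.1
  obtain ⟨c1, c2, c3, c4⟩ := certE7_words
  obtain ⟨d1, d2, d3, d4⟩ := certO7_words
  obtain ⟨e1, e2, e3, e4⟩ := certG_words
  have hC := step (b := 28 * Nat.card (genGrp w6 fiGen)) certE7_closed c3 c1 c2
    ⟨Subtype.finite, le_rfl⟩ (by rw [c4]; exact le_rfl)
  have hD := step (b := 3159 * (28 * Nat.card (genGrp w6 fiGen))) certO7_closed d3 d1 d2 hC
    (by rw [d4])
  have hE := step (b := 14080 * (3159 * (28 * Nat.card (genGrp w6 fiGen)))) certG_closed e3 e1 e2
    hD (by rw [e4])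
  have h := closure_all
  rw [show ((List.range 9).map fun g => [g]) =
    [[0], [1], [2], [3], [4], [5], [6], [7], [8]] from rfl] at h
  have hle := hE.2
  rw [h, Subgroup.card_top, card_fi.2] at hle
  omega

theorem w6_lt : ∀ w ∈ w6, ∀ g ∈ w, g < 9 := by decide

theorem map_u6 : (genGrp w6 uGen).map uProj = genGrp w6 fiGen := by
  rw [genGrp, MonoidHom.map_closure, genGrp]
  congr 1
  ext m
  constructor
  · rintro ⟨_, ⟨w, hw, rfl⟩, rfl⟩
    exact ⟨w, hw, (uProj_act (w6_lt w hw)).symm⟩
  · rintro ⟨w, hw, rfl⟩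
    exact ⟨_, ⟨w, hw, rfl⟩, uProj_act (w6_lt w hw)⟩

theorem eq_one_of_u6 {u : UGrp} (hu : u ∈ genGrp w6 uGen) (h1 : uProj u = 1) : u = 1 := by
  haveI := u6_le.1
  have hs := MonoidHom.subgroupMap_surjective uProj (genGrp w6 uGen)
  have hc : Nat.card (genGrp w6 uGen) ≤ Nat.card ((genGrp w6 uGen).map uProj) := by
    rw [map_u6]; exact u6_le.2.trans image6
  have hb : Function.Bijective (uProj.subgroupMap (genGrp w6 uGen)) :=
    (Nat.bijective_iff_surjective_and_card _).2
      ⟨hs, le_antisymm hc (Nat.card_le_card_of_surjective _ hs)⟩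
  exact congrArg Subtype.val
    (hb.1 (a₁ := ⟨u, hu⟩) (a₂ := 1) (Subtype.ext (by simpa using h1)))

theorem act_flatten' {M : Type*} [Group M] (gen : ℕ → M) (w : List ℕ) :
    ∀ k : ℕ, act gen (List.replicate k w).flatten = act gen w ^ k
  | 0 => by simp [act_nil]
  | k + 1 => by
    rw [List.replicate_succ, List.flatten_cons, act_append, act_flatten' gen w k, pow_succ]

theorem pow_of_cert {D : Data} {rels : List (List ℕ)} {r : FreeGroup Fi22.Gen} {k : ℕ}
    (hV : Valid D) (hrels : ∀ w ∈ rels, act uGen w = 1) (h1 : relsOk D rels = true)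
    (h2 : subsOk D w6 (16 * D.words.length) = true) (h3 : D.ng = 9)
    (h4 : endsAt D (D.rm - 1) (walk D (D.rm - 1) 0 (List.replicate k (wordOf r)).flatten) 0 = true)
    (h5 : (wordOf r).all (fun g => Nat.blt g 9) = true) (hr : r ∈ Fi22.extra) :
    PresentedGroup.mk uRels r ^ k = 1 := by
  have fix : ∀ w ∈ w6, act uGen w • ((1 : UGrp) : UGrp ⧸ genGrp w6 uGen) =
      ((1 : UGrp) : UGrp ⧸ genGrp w6 uGen) := by
    intro w h
    rw [MulAction.Quotient.smul_coe, smul_eq_mul, mul_one, QuotientGroup.eq, mul_one]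
    exact inv_mem (Subgroup.subset_closure ⟨w, h, rfl⟩)
  have H := hyp_of_checks (x₀ := ((1 : UGrp) : UGrp ⧸ genGrp w6 uGen)) (D := D)
    (fun g _ => uGen_sq g) hrels fix h1 h2
  have hlt : ∀ g ∈ (List.replicate k (wordOf r)).flatten, g < D.ng := by
    intro g hg
    obtain ⟨l, hl, hgl⟩ := List.mem_flatten.1 hg
    rw [List.eq_of_mem_replicate hl] at hgl
    rw [h3]
    simpa [Nat.blt_eq] using List.all_eq_true.1 h5 g hgl
  have h := word_fix hV H hlt h4
  rw [MulAction.Quotient.smul_coe, smul_eq_mul, mul_one, QuotientGroup.eq, mul_one,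
    act_flatten', ← mk_eq_act] at h
  refine eq_one_of_u6 (inv_inv (PresentedGroup.mk uRels r ^ k) ▸ inv_mem h) ?_
  rw [map_pow, uProj_extra hr, one_pow]

/-- The image of the spider relator. -/
def zS : UGrp := PresentedGroup.mk uRels exS

/-- The image of the first relator of type E7. -/
def zA : UGrp := PresentedGroup.mk uRels exA

/-- The image of the second relator of type E7. -/
def zB : UGrp := PresentedGroup.mk uRels exB

theorem zS_pow : zS ^ 3 = 1 := by
  obtain ⟨h1, h2, h3, h4, h5⟩ := x6_words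
  exact pow_of_cert certX6_valid (fun w hw => (List.mem_append.1 hw).elim (shortW_act w)
    (spiderComW_act w)) h1 h2 h3 h4 h5 exS_mem

theorem zA_pow : zA ^ 2 = 1 := by
  obtain ⟨h1, h2, h3, h4, h5⟩ := x7a_words
  exact pow_of_cert certX7a_valid shortW_act h1 h2 h3 h4 h5 exA_mem

theorem zB_pow : zB ^ 2 = 1 := by
  obtain ⟨h1, h2, h3, h4, h5⟩ := x7b_words
  exact pow_of_cert certX7b_valid shortW_act h1 h2 h3 h4 h5 exB_mem

theorem zS_central : zS ∈ Subgroup.center UGrp := extra_central exS_mem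

theorem zA_central : zA ∈ Subgroup.center UGrp := extra_central exA_mem

theorem zB_central : zB ∈ Subgroup.center UGrp := extra_central exB_mem

/-- The generator of the kernel on words of even length. -/
def zG : UGrp := zS * zA * zB

theorem zG_central : zG ∈ Subgroup.center UGrp :=
  mul_mem (mul_mem zS_central zA_central) zB_central

theorem zG_pow (n : ℕ) : zG ^ n = zS ^ n * zA ^ n * zB ^ n := by
  have h1 : Commute (zS * zA) zB := Subgroup.mem_center_iff.1 zB_central _
  have h2 : Commute zS zA := Subgroup.mem_center_iff.1 zA_central _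
  rw [zG, h1.mul_pow, h2.mul_pow]

theorem zG_six : zG ^ 6 = 1 := by
  rw [zG_pow, show zS ^ 6 = 1 by rw [show 6 = 3 * 2 from rfl, pow_mul, zS_pow, one_pow],
    show zA ^ 6 = 1 by rw [show 6 = 2 * 3 from rfl, pow_mul, zA_pow, one_pow],
    show zB ^ 6 = 1 by rw [show 6 = 2 * 3 from rfl, pow_mul, zB_pow, one_pow], one_mul, one_mul]

theorem zG_three : zG ^ 3 = zA * zB := by
  rw [zG_pow, zS_pow, one_mul, show (3 : ℕ) = 2 + 1 from rfl, pow_succ zA 2, pow_succ zB 2, zA_pow, zB_pow,
    one_mul, one_mul]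

theorem zG_two : zG ^ 2 = zS ^ 2 := by
  rw [zG_pow, zA_pow, zB_pow, mul_one, mul_one]

theorem zG_four : zG ^ 4 = zS := by
  rw [zG_pow, show zS ^ 4 = zS by rw [pow_succ, zS_pow, one_mul],
    show zA ^ 4 = 1 by rw [show 4 = 2 * 2 from rfl, pow_mul, zA_pow, one_pow],
    show zB ^ 4 = 1 by rw [show 4 = 2 * 2 from rfl, pow_mul, zB_pow, one_pow], mul_one, mul_one]

/-- The kernel as a product of two cyclic central subgroups. -/
def zK : Subgroup UGrp := Subgroup.zpowers zG ⊔ Subgroup.zpowers zA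

theorem zK_central : zK ≤ Subgroup.center UGrp :=
  sup_le (Subgroup.zpowers_le.2 zG_central) (Subgroup.zpowers_le.2 zA_central)

theorem zK_normal : zK.Normal :=
  ⟨fun n hn g => by
    rw [Subgroup.mem_center_iff.1 (zK_central hn) g, mul_inv_cancel_right]
    exact hn⟩

theorem zK_elim {k : UGrp} (hk : k ∈ zK) : ∃ i j : ℤ, k = zG ^ i * zA ^ j := by
  haveI : (Subgroup.zpowers zG).Normal := ⟨fun n hn g => by
    rw [Subgroup.mem_center_iff.1 (Subgroup.zpowers_le.2 zG_central hn) g, mul_inv_cancel_right]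
    exact hn⟩
  obtain ⟨y, hy, z, hz, rfl⟩ := Subgroup.mem_sup_of_normal_left.1 hk
  obtain ⟨i, rfl⟩ := Subgroup.mem_zpowers_iff.1 hy
  obtain ⟨j, rfl⟩ := Subgroup.mem_zpowers_iff.1 hz
  exact ⟨i, j, rfl⟩

theorem ker_uProj : uProj.ker = zK := by
  refine le_antisymm (fun k hk => ?_) (sup_le (Subgroup.zpowers_le.2 ?_) (Subgroup.zpowers_le.2 ?_))
  · haveI := zK_normal
    let f : Fi22.Gen → UGrp ⧸ zK := fun a => QuotientGroup.mk' zK (uOf a)
    have hf : FreeGroup.lift f = (QuotientGroup.mk' zK).comp (PresentedGroup.mk uRels) :=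
      FreeGroup.ext_hom _ _ fun a => by rw [FreeGroup.lift_apply_of]; rfl
    have hG : zG ∈ zK := Subgroup.mem_sup_left (Subgroup.mem_zpowers _)
    have hA : zA ∈ zK := Subgroup.mem_sup_right (Subgroup.mem_zpowers _)
    have hS : zS ∈ zK := zG_four ▸ zK.pow_mem hG 4
    have hB : zB ∈ zK := by
      have h := zK.mul_mem hA (zG_three ▸ zK.pow_mem hG 3)
      rwa [← mul_assoc, ← pow_two, zA_pow, one_mul] at h
    let s : Cfsg.Spor.Fi22 →* UGrp ⧸ zK := PresentedGroup.toGroup (f := f) fun r hr => by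
      rcases hr with ⟨a, -, b, -, rfl⟩ | hr
      · rw [map_pow, map_mul, FreeGroup.lift_apply_of, FreeGroup.lift_apply_of, ← map_mul, ← map_pow,
          u_cox a b, map_one]
      · rw [hf, MonoidHom.comp_apply]
        refine (QuotientGroup.eq_one_iff _).2 ?_
        simp only [Set.mem_ofPred_eq, extra_eq, List.mem_cons, List.not_mem_nil, or_false] at hr
        rcases hr with rfl | rfl | rfl
        exacts [hS, hA, hB]
    have hs : s.comp uProj = QuotientGroup.mk' zK := PresentedGroup.ext fun a => by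
      rw [MonoidHom.comp_apply, uProj_of]
      exact PresentedGroup.toGroup.of _
    have h := DFunLike.congr_fun hs k
    rw [MonoidHom.comp_apply, MonoidHom.mem_ker.1 hk, map_one] at h
    exact (QuotientGroup.eq_one_iff k).1 h.symm
  · rw [MonoidHom.mem_ker, zG, map_mul, map_mul, zS, zA, zB, uProj_extra exS_mem,
      uProj_extra exA_mem, uProj_extra exB_mem, one_mul, one_mul]
  · exact uProj_extra exA_mem

/-- The parity of a word. -/
def uDeg : UGrp →* Multiplicative (ZMod 2) :=
  uLift (fun _ => Multiplicative.ofAdd 1)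
    (fun a b => by
      rw [show Multiplicative.ofAdd (1 : ZMod 2) * Multiplicative.ofAdd 1 = 1 by decide, one_pow])
    (fun _ _ _ => mul_comm _ _)

theorem uDeg_extra : uDeg zS = 1 ∧ uDeg zA = Multiplicative.ofAdd 1 ∧
    uDeg zB = Multiplicative.ofAdd 1 := by
  set y : Multiplicative (ZMod 2) := Multiplicative.ofAdd 1
  have y2 : y ^ 2 = 1 := by decide
  have hS : uDeg zS = y ^ 90 := by
    rw [zS, uDeg, uLift_mk, exS]
    simp only [map_pow, map_mul, Fi22.d, Fi22.c, Fi22.b, Fi22.e, Fi22.f, Fi22.h, Fi22.i,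
      FreeGroup.lift_apply_of]
    decide
  have hA : uDeg zA = y ^ 63 := by
    rw [zA, uDeg, uLift_mk, exA]
    simp only [map_pow, map_mul, Fi22.a, Fi22.d, Fi22.c, Fi22.b, Fi22.e, Fi22.f, Fi22.h,
      FreeGroup.lift_apply_of]
    decide
  have hB : uDeg zB = y ^ 63 := by
    rw [zB, uDeg, uLift_mk, exB]
    simp only [map_pow, map_mul, Fi22.d, Fi22.c, Fi22.b, Fi22.e, Fi22.f, Fi22.g, Fi22.h,
      FreeGroup.lift_apply_of]
    decide
  refine ⟨hS.trans ?_, hA.trans ?_, hB.trans ?_⟩
  · rw [show (90 : ℕ) = 2 * 45 from rfl, pow_mul, y2, one_pow]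
  · rw [show (63 : ℕ) = 2 * 31 + 1 from rfl, pow_succ, pow_mul, y2, one_pow, one_mul]
  · rw [show (63 : ℕ) = 2 * 31 + 1 from rfl, pow_succ, pow_mul, y2, one_pow, one_mul]

theorem zG_deg : uDeg zG = 1 := by
  obtain ⟨h1, h2, h3⟩ := uDeg_extra
  rw [zG, map_mul, map_mul, h1, h2, h3]
  decide

/-- Kernel elements of even parity are powers of one element. -/
theorem mem_zG {k : UGrp} (hk : uProj k = 1) (hd : uDeg k = 1) : k ∈ Subgroup.zpowers zG := by
  obtain ⟨i, j, rfl⟩ := zK_elim (ker_uProj ▸ MonoidHom.mem_ker.2 hk)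
  rw [map_mul, map_zpow, map_zpow, zG_deg, one_zpow, one_mul, uDeg_extra.2.1,
    ← ofAdd_zsmul, zsmul_one, ofAdd_eq_one, ZMod.intCast_zmod_eq_zero_iff_dvd] at hd
  obtain ⟨m, rfl⟩ := hd
  refine Subgroup.mem_zpowers_iff.2 ⟨i, ?_⟩
  rw [Nat.cast_ofNat, zpow_mul, show zA ^ (2 : ℤ) = 1 from zA_pow, one_zpow, mul_one]

theorem u_finite : Finite UGrp := by
  haveI := card_fi.1
  have hA : IsOfFinOrder zA := isOfFinOrder_iff_pow_eq_one.2 ⟨2, by norm_num, zA_pow⟩
  have hG : IsOfFinOrder zG := isOfFinOrder_iff_pow_eq_one.2 ⟨6, by norm_num, zG_six⟩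
  haveI : Finite (Subgroup.zpowers zA) := hA.finite_zpowers.to_subtype
  haveI : Finite (Subgroup.zpowers zG) := hG.finite_zpowers.to_subtype
  haveI : Finite uProj.ker := by
    refine Finite.of_surjective (fun p : Subgroup.zpowers zG × Subgroup.zpowers zA =>
      (⟨p.1.1 * p.2.1, by
        rw [ker_uProj]
        exact zK.mul_mem (Subgroup.mem_sup_left p.1.2) (Subgroup.mem_sup_right p.2.2)⟩ : uProj.ker)) ?_
    rintro ⟨k, hk⟩
    obtain ⟨i, j, rfl⟩ := zK_elim (ker_uProj ▸ hk)
    exact ⟨(⟨_, Subgroup.zpow_mem_zpowers zG i⟩, ⟨_, Subgroup.zpow_mem_zpowers zA j⟩), rfl⟩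
  haveI : Finite (UGrp ⧸ uProj.ker) :=
    Finite.of_equiv _ (QuotientGroup.quotientKerEquivOfSurjective uProj uProj_surjective).symm.toEquiv
  exact Finite.of_equiv _ (Subgroup.groupEquivQuotientProdSubgroup (s := uProj.ker)).symm

theorem commutator_eq_deg : commutator UGrp = uDeg.ker := by
  refine le_antisymm (Abelianization.commutator_subset_ker _) (fun u hu => ?_)
  let ab : UGrp →* Abelianization UGrp := Abelianization.of
  have hsq : ∀ a, ab (uOf a) * ab (uOf a) = 1 := fun a => by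
    rw [← map_mul, sq_of_cox uOf u_cox, map_one]
  have eq : ∀ a b, coxLabel Fi22.edges a b = 3 → ab (uOf a) = ab (uOf b) := by
    intro a b h
    have e := congrArg ab (u_cox a b)
    rw [h, map_pow, map_mul, map_one, mul_pow, pow_succ, pow_two, hsq, one_mul, pow_succ, pow_two,
      hsq, one_mul] at e
    rw [eq_inv_of_mul_eq_one_left e]
    exact inv_eq_of_mul_eq_one_right (hsq b)
  have hall : ∀ a, ab (uOf a) = ab (uOf .a) := by
    have hb := (eq .a .b (by decide)).symm
    have hc := (eq .b .c (by decide)).symm.trans hb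
    have hd := (eq .c .d (by decide)).symm.trans hc
    have he := (eq .d .e (by decide)).symm.trans hd
    have hh := (eq .d .h (by decide)).symm.trans hd
    have hf := (eq .e .f (by decide)).symm.trans he
    have hg := (eq .f .g (by decide)).symm.trans hf
    have hi := (eq .h .i (by decide)).symm.trans hh
    intro a
    cases a <;> first | rfl | assumption
  let back : Multiplicative (ZMod 2) →* Abelianization UGrp := MonoidHom.mk'
    (fun x => ab (uOf .a) ^ (Multiplicative.toAdd x).val) fun x y => by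
      rw [toAdd_mul, ZMod.val_add, ← pow_add]
      exact pow_eq_pow_mod _ (by rw [pow_two, hsq]) |>.symm
  have hcomp : back.comp uDeg = ab := PresentedGroup.ext fun a => by
    rw [MonoidHom.comp_apply, show uDeg (uOf a) = Multiplicative.ofAdd 1 from uLift_of _ _ _ a]
    show ab (uOf .a) ^ 1 = ab (uOf a)
    rw [pow_one]
    exact (hall a).symm
  have h := DFunLike.congr_fun hcomp u
  rw [MonoidHom.comp_apply, MonoidHom.mem_ker.1 hu, map_one] at h
  rw [← Abelianization.ker_of]
  exact MonoidHom.mem_ker.2 h.symm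

end CfsgLib.Fi22P
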