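import Cfsg.Agent.Lib.Fi22P.ThreeT
import Cfsg.Agent.Lib.Fi22P.MultKer

/-!
Lifting transpositions of the presented Fischer group to a central extension.
-/

set_option autoImplicit false
set_option maxRecDepth 100000

namespace CfsgLib.Fi22P

open CfsgLib.PresCert Cfsg.Spor CfsgLib.He CfsgLib.J3
open scoped commutatorElement Pointwise

attribute [local irreducible] levels

section Field

variable {F : Type*} [Field F] [Fintype F] (K : Fld F) (hF : Fintype.card F = 4)

include K hF

theorem subH_perfect_of : commutator subH = ⊤ := by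
  haveI := fi_le.1
  have hF2 : Fintype.card F = 2 ^ 2 := by rw [hF]; norm_num
  have hsu : commutator (Cfsg.SU 6 F 2) = ⊤ := by
    refine eq_top_iff.2 ?_
    rw [← CfsgLib.Classical.Unitary.su_closure_transvections hF2 (by norm_num) (by norm_num),
      Subgroup.closure_le, commutator_eq_closure]
    rintro A ⟨v, t, hv, hA⟩
    exact Subgroup.subset_closure (CfsgLib.Classical.Unitary.su_transvection_mem_commutatorSet
      hF2 (by norm_num) A v t hv hA)
  let p : Cfsg.SU 6 F 2 →* tau.range :=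
    (rangeIso K hF).symm.toMonoidHom.comp (QuotientGroup.mk' _)
  have hp : Function.Surjective p :=
    (rangeIso K hF).symm.surjective.comp (QuotientGroup.mk'_surjective _)
  have hr : (commutator subH).map tau.rangeRestrict = ⊤ := by
    rw [commutator_def, Subgroup.map_commutator,
      Subgroup.map_top_of_surjective _ tau.rangeRestrict_surjective,
      ← Subgroup.map_top_of_surjective p hp, ← Subgroup.map_commutator, ← commutator_def, hsu]
  by_cases hd : Subgroup.center subH ≤ commutator subH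
  · refine eq_top_iff.2 fun x _ => ?_
    obtain ⟨y, hy, e⟩ : tau.rangeRestrict x ∈ (commutator subH).map tau.rangeRestrict := by
      rw [hr]; exact Subgroup.mem_top _
    have hk : y⁻¹ * x ∈ commutator subH := by
      refine hd ?_
      rw [center_subH K hF, MonoidHom.mem_ker]
      have e' := congrArg Subtype.val e
      simp only [MonoidHom.coe_rangeRestrict] at e'
      rw [map_mul, map_inv, e', inv_mul_cancel]
    simpa using (commutator subH).mul_mem hy hk
  · exfalso
    refine no_complement K hF (commutator subH)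
      (Subgroup.isComplement'_of_disjoint_and_mul_eq_univ ?_ ?_)
    · rw [disjoint_iff]
      by_contra hne
      apply hd
      haveI : Fact (Nat.Prime 2) := ⟨Nat.prime_two⟩
      have hc : Nat.card (Subgroup.center subH) = 2 := by rw [center_subH K hF, card_ker_tau]
      have h1 : 1 < Nat.card (Subgroup.center subH ⊓ commutator subH : Subgroup subH) :=
        Subgroup.one_lt_card_iff_ne_bot _ |>.2 hne
      have h2 := Subgroup.eq_of_le_of_card_ge (inf_le_left (a := Subgroup.center subH)
        (b := commutator subH)) (by rw [hc]; omega)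
      exact h2 ▸ inf_le_right
    · refine Set.eq_univ_iff_forall.2 fun x => ?_
      obtain ⟨y, hy, e⟩ : tau.rangeRestrict x ∈ (commutator subH).map tau.rangeRestrict := by
        rw [hr]; exact Subgroup.mem_top _
      have hk : x * y⁻¹ ∈ Subgroup.center subH := by
        rw [center_subH K hF, MonoidHom.mem_ker]
        have e' := congrArg Subtype.val e
        simp only [MonoidHom.coe_rangeRestrict] at e'
        rw [map_mul, map_inv, e', mul_inv_cancel]
      exact ⟨x * y⁻¹, hk, y, hy, inv_mul_cancel_right x y⟩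

end Field

/-- The centraliser of a transposition is perfect. -/
theorem subH_perfect : commutator subH = ⊤ := by
  haveI : Fintype (GaloisField 2 2) := Fintype.ofFinite _
  have hF : Fintype.card (GaloisField 2 2) = 4 := by
    rw [Fintype.card_eq_nat_card, GaloisField.card 2 2 two_ne_zero]; norm_num
  exact subH_perfect_of CfsgLib.He.fieldK hF

theorem subH_hom {A : Type*} [CommGroup A] (f : subH →* A) (x : subH) : f x = 1 :=
  MonoidHom.mem_ker.1 (Abelianization.commutator_subset_ker f
    (subH_perfect.symm ▸ Subgroup.mem_top x))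

theorem braid_conj {G : Type*} [Group G] {g h : G} (hg : g * g = 1) (hh : h * h = 1)
    (h3 : (g * h) ^ 3 = 1) : h = (g * h) * g * (g * h)⁻¹ := by
  have eg : g⁻¹ = g := inv_eq_of_mul_eq_one_right hg
  have eh : h⁻¹ = h := inv_eq_of_mul_eq_one_right hh
  have e : (g * h) * g * (g * h)⁻¹ * h = (g * h) ^ 3 := by
    rw [mul_inv_rev, eg, eh, pow_succ, pow_two]
    simp only [mul_assoc]
  rw [h3] at e
  rw [eq_inv_of_mul_eq_one_left e, eh]

theorem fA_eq : fA = fOf .a := by
  rw [fA, act_cons, act_nil, one_mul]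
  rfl

/-- Every generator is conjugate to the first. -/
theorem gen_conj : ∀ a, ∃ c, fOf a = c * fA * c⁻¹ := by
  have next' : ∀ a b, coxLabel Fi22.edges a b = 3 →
      (∃ c, fOf a = c * fA * c⁻¹) → ∃ c, fOf b = c * fA * c⁻¹ := by
    rintro a b h ⟨c, hc⟩
    have e := fi_cox a b
    rw [h] at e
    refine ⟨fOf a * fOf b * c, (braid_conj (sq_of_cox fOf fi_cox a) (sq_of_cox fOf fi_cox b) e).trans ?_⟩
    generalize fOf a * fOf b = p
    rw [hc]
    group
  have ca : ∃ c, fOf .a = c * fA * c⁻¹ := ⟨1, by rw [fA_eq]; group⟩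
  have cb := next' .a .b (by decide) ca
  have cc := next' .b .c (by decide) cb
  have cd := next' .c .d (by decide) cc
  have ce := next' .d .e (by decide) cd
  have ch := next' .d .h (by decide) cd
  have cf := next' .e .f (by decide) ce
  have cg := next' .f .g (by decide) cf
  have ci := next' .h .i (by decide) ch
  intro a
  cases a <;> assumption

variable {E : Type*} [Group E] {σ : E →* Cfsg.Spor.Fi22}

/-- A conjugate of the chosen lift. -/
def InD (τ p : E) : Prop := ∃ g, p = g * τ * g⁻¹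

theorem InD.conj {τ p : E} (h : InD τ p) (c : E) : InD τ (c * p * c⁻¹) := by
  obtain ⟨g, rfl⟩ := h
  exact ⟨c * g, by group⟩

theorem central_of_map (hc : σ.ker ≤ Subgroup.center E) {k : E} (hk : σ k = 1) (y : E) :
    y * k = k * y :=
  Subgroup.mem_center_iff.1 (hc hk) y

theorem center_cancel (hc : σ.ker ≤ Subgroup.center E) {a b : E} (h : σ a = σ b) :
    ∃ k ∈ Subgroup.center E, a = b * k :=
  ⟨b⁻¹ * a, hc (MonoidHom.mem_ker.2 (by rw [map_mul, map_inv, h, inv_mul_cancel])), by group⟩

variable (hs : Function.Surjective σ) (hc : σ.ker ≤ Subgroup.center E) {τ : E} (hτ : σ τ = fA)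

include hs hc hτ

theorem comm_tau {q : E} (hq : σ q * fA = fA * σ q) : q * τ = τ * q := by
  let l : subH → E := fun m => Function.surjInv hs m.1
  have hl : ∀ m : subH, σ (l m) = m.1 := fun m => Function.surjInv_eq hs m.1
  have hz : ∀ m : subH, τ * l m * τ⁻¹ * (l m)⁻¹ ∈ Subgroup.center E := fun m =>
    hc (MonoidHom.mem_ker.2 (by
      rw [map_mul, map_mul, map_mul, map_inv, map_inv, hτ, hl, fA_commute m.2]
      group))
  let f : subH →* Subgroup.center E := MonoidHom.mk' (fun m => ⟨_, hz m⟩) fun m n => by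
    refine Subtype.ext ?_
    show τ * l (m * n) * τ⁻¹ * (l (m * n))⁻¹ = τ * l m * τ⁻¹ * (l m)⁻¹ * (τ * l n * τ⁻¹ * (l n)⁻¹)
    obtain ⟨k, hk, e⟩ := center_cancel hc (a := l (m * n)) (b := l m * l n)
      (by rw [map_mul, hl, hl, hl, Subgroup.coe_mul])
    have hk' : ∀ y, y * k = k * y := Subgroup.mem_center_iff.1 hk
    have hn : ∀ y, y * (τ * l n * τ⁻¹ * (l n)⁻¹) = (τ * l n * τ⁻¹ * (l n)⁻¹) * y :=
      Subgroup.mem_center_iff.1 (hz n)
    calc τ * l (m * n) * τ⁻¹ * (l (m * n))⁻¹
        = τ * l m * l n * (k * τ⁻¹) * k⁻¹ * (l m * l n)⁻¹ := by rw [e]; group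
      _ = τ * l m * l n * (τ⁻¹ * k) * k⁻¹ * (l m * l n)⁻¹ := by rw [hk']
      _ = τ * l m * τ⁻¹ * ((τ * l n * τ⁻¹ * (l n)⁻¹) * (l m)⁻¹) := by group
      _ = τ * l m * τ⁻¹ * ((l m)⁻¹ * (τ * l n * τ⁻¹ * (l n)⁻¹)) := by rw [hn]
      _ = _ := by group
  have hmem : σ q ∈ subH := by
    rw [← centralizer_fA]
    exact Subgroup.mem_centralizer_singleton_iff.2 hq
  obtain ⟨k, hk, e⟩ := center_cancel hc (a := q) (b := l ⟨σ q, hmem⟩) (hl ⟨σ q, hmem⟩).symm
  letI : CommGroup (Subgroup.center E) :=
    { (inferInstance : Group (Subgroup.center E)) with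
      mul_comm := fun a b => Subtype.ext (Subgroup.mem_center_iff.1 b.2 a) }
  have h1 := congrArg Subtype.val (subH_hom (A := Subgroup.center E) f ⟨σ q, hmem⟩)
  change τ * l ⟨σ q, hmem⟩ * τ⁻¹ * (l ⟨σ q, hmem⟩)⁻¹ = 1 at h1
  have h2 : τ * l ⟨σ q, hmem⟩ = l ⟨σ q, hmem⟩ * τ := by
    rwa [mul_inv_eq_one, mul_inv_eq_iff_eq_mul] at h1
  rw [e, mul_assoc, (Subgroup.mem_center_iff.1 hk τ).symm, ← mul_assoc, ← h2, mul_assoc]

theorem InD.comm {p q : E} (hp : InD τ p) (h : σ q * σ p = σ p * σ q) : q * p = p * q := by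
  obtain ⟨g, rfl⟩ := hp
  have e := comm_tau hs hc hτ (q := g⁻¹ * q * g) (by
    simp only [map_mul, map_inv, hτ] at h ⊢
    calc (σ g)⁻¹ * σ q * σ g * fA
        = (σ g)⁻¹ * (σ q * (σ g * fA * (σ g)⁻¹)) * σ g := by group
      _ = (σ g)⁻¹ * (σ g * fA * (σ g)⁻¹ * σ q) * σ g := by rw [h]
      _ = _ := by group)
  calc q * (g * τ * g⁻¹) = g * (g⁻¹ * q * g * τ) * g⁻¹ := by group
    _ = g * (τ * (g⁻¹ * q * g)) * g⁻¹ := by rw [e]
    _ = _ := by group

theorem InD.ext {p q : E} (hp : InD τ p) (hq : InD τ q) (h : σ p = σ q) : p = q := by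
  obtain ⟨g, rfl⟩ := hp
  obtain ⟨b, rfl⟩ := hq
  have e := comm_tau hs hc hτ (q := b⁻¹ * g) (by
    simp only [map_mul, map_inv, hτ] at h ⊢
    calc (σ b)⁻¹ * σ g * fA = (σ b)⁻¹ * (σ g * fA * (σ g)⁻¹) * σ g := by group
      _ = (σ b)⁻¹ * (σ b * fA * (σ b)⁻¹) * σ g := by rw [h]
      _ = _ := by group)
  calc g * τ * g⁻¹ = b * (b⁻¹ * g * τ) * g⁻¹ := by group
    _ = b * (τ * (b⁻¹ * g)) * g⁻¹ := by rw [e]
    _ = _ := by group

theorem InD.sq {p : E} (hp : InD τ p) : p * p = τ * τ := by
  obtain ⟨g, rfl⟩ := hp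
  have h := central_of_map hc (k := τ * τ) (by rw [map_mul, hτ, fA_sq]) g
  calc g * τ * g⁻¹ * (g * τ * g⁻¹) = g * (τ * τ) * g⁻¹ := by group
    _ = τ * τ * g * g⁻¹ := by rw [h]
    _ = _ := by group

/-- Products of conjugates have the orders of their images, up to the square of the lift. -/
theorem InD.rel {p q : E} (hp : InD τ p) (hq : InD τ q) {k : ℕ}
    (hk : k = 1 ∧ p = q ∨ k = 2 ∨ k = 3) (h : (σ p * σ q) ^ k = 1) :
    (p * q) ^ k = (τ * τ) ^ k := by
  have sp : p * p = τ * τ := InD.sq hs hc hτ hp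
  have sq' : q * q = τ * τ := InD.sq hs hc hτ hq
  have hz : ∀ y, y * (τ * τ) = τ * τ * y := central_of_map hc (by rw [map_mul, hτ, fA_sq])
  have mp : σ p * σ p = 1 := by rw [← map_mul, sp, map_mul, hτ, fA_sq]
  have mq : σ q * σ q = 1 := by rw [← map_mul, sq', map_mul, hτ, fA_sq]
  rcases hk with ⟨rfl, rfl⟩ | rfl | rfl
  · rw [pow_one, pow_one, sp]
  · rw [pow_two] at h
    have e : σ q * σ p = σ p * σ q := by
      have := inv_eq_of_mul_eq_one_right h
      rw [mul_inv_rev, inv_eq_of_mul_eq_one_right mp, inv_eq_of_mul_eq_one_right mq] at this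
      exact this
    rw [pow_two, pow_two]
    calc p * q * (p * q) = p * (q * p) * q := by simp only [mul_assoc]
      _ = p * (p * q) * q := by rw [InD.comm hs hc hτ hp e]
      _ = p * p * (q * q) := by simp only [mul_assoc]
      _ = _ := by rw [sp, sq']
  · have e : (p * q) * p * (p * q)⁻¹ = q := InD.ext hs hc hτ (hp.conj _) hq (by
      simp only [map_mul, map_inv]
      exact (braid_conj mp mq h).symm)
    have e2 : p * q * p = q * p * q := by
      rw [mul_inv_eq_iff_eq_mul] at e
      rw [e, mul_assoc]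
    calc (p * q) ^ 3 = p * q * p * (q * p * q) := by rw [pow_succ, pow_two]; simp only [mul_assoc]
      _ = p * q * p * (p * q * p) := by rw [e2]
      _ = p * q * (p * p) * q * p := by simp only [mul_assoc]
      _ = τ * τ * (p * (q * q) * p) := by
        rw [sp, hz]
        simp only [mul_assoc]
      _ = τ * τ * (τ * τ * (p * p)) := by rw [sq', hz, mul_assoc (τ * τ) p p]
      _ = _ := by rw [sp, pow_succ', pow_two]

end CfsgLib.Fi22P
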