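import Cfsg.Agent.Lib.Fi22P.MultExist
import Cfsg.Agent.Lib.Fi22P.MultLift
import Cfsg.Prelude.Def_KGroupFacts
import Mathlib.GroupTheory.QuotientGroup.Basic

/-!
The multiplier of the presented Fischer group of degree 3510 is cyclic of order six.
-/

set_option autoImplicit false
set_option maxRecDepth 100000

namespace CfsgLib.Fi22P

open CfsgLib.PresCert Cfsg.Spor
open scoped commutatorElement

attribute [local irreducible] levels shortW spiderComW exS exA exB

/-! ### A general fact -/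

/-- With a central kernel over a perfect group, the commutator subgroup is its own. -/
theorem commutator_of_central {M G : Type*} [Group M] [Group G] (π : M →* G)
    (hc : π.ker ≤ Subgroup.center M) (H : Subgroup M) (hH : H.map π = ⊤) :
    commutator M ≤ ⁅H, H⁆ := by
  rw [commutator_def, Subgroup.commutator_le]
  rintro a - b -
  obtain ⟨x, hx, ex⟩ : π a ∈ H.map π := hH ▸ Subgroup.mem_top _
  obtain ⟨y, hy, ey⟩ : π b ∈ H.map π := hH ▸ Subgroup.mem_top _
  have hk : a * x⁻¹ ∈ Subgroup.center M :=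
    hc (MonoidHom.mem_ker.2 (by rw [map_mul, map_inv, ex, mul_inv_cancel]))
  have hl : b * y⁻¹ ∈ Subgroup.center M :=
    hc (MonoidHom.mem_ker.2 (by rw [map_mul, map_inv, ey, mul_inv_cancel]))
  have e : ⁅a, b⁆ = ⁅x, y⁆ := by
    have ea : a = a * x⁻¹ * x := by group
    have eb : b = b * y⁻¹ * y := by group
    generalize a * x⁻¹ = k at hk ea
    generalize b * y⁻¹ = l at hl eb
    subst ea eb
    have hk' := Subgroup.mem_center_iff.1 hk
    have hl' := Subgroup.mem_center_iff.1 hl
    rw [commutatorElement_def, commutatorElement_def]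
    calc k * x * (l * y) * (k * x)⁻¹ * (l * y)⁻¹
        = k * ((x * l) * y * x⁻¹) * k⁻¹ * (y⁻¹ * l⁻¹) := by group
      _ = k * ((l * x) * y * x⁻¹) * k⁻¹ * (y⁻¹ * l⁻¹) := by rw [hl' x]
      _ = (l * x * y * x⁻¹) * k * k⁻¹ * (y⁻¹ * l⁻¹) := by rw [hk' (l * x * y * x⁻¹)]
      _ = l * (x * y * x⁻¹ * y⁻¹) * l⁻¹ := by group
      _ = _ := by rw [← hl' (x * y * x⁻¹ * y⁻¹), mul_inv_cancel_right]
  rw [e]
  exact Subgroup.commutator_mem_commutator hx hy

theorem fi_commutator : commutator Cfsg.Spor.Fi22 = ⊤ := by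
  refine eq_top_iff.2 fun z _ => ?_
  rw [← Abelianization.ker_of]
  exact MonoidHom.mem_ker.2 (hom_trivial _ (fun _ => mul_comm _ _) z)

/-! ### The cover -/

/-- The cover. -/
abbrev Cover : Subgroup UGrp := commutator UGrp

/-- The map of the cover. -/
def coverMap : Cover →* Cfsg.Spor.Fi22 := uProj.comp Cover.subtype

theorem cover_map_top : Cover.map uProj = ⊤ := by
  rw [Cover, commutator_def, Subgroup.map_commutator,
    Subgroup.map_top_of_surjective _ uProj_surjective, ← commutator_def, fi_commutator]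

theorem cover_surjective : Function.Surjective coverMap := fun y => by
  obtain ⟨x, hx, e⟩ : y ∈ Cover.map uProj := cover_map_top ▸ Subgroup.mem_top y
  exact ⟨⟨x, hx⟩, e⟩

theorem zG_mem : zG ∈ Cover := by
  show zG ∈ commutator UGrp
  rw [commutator_eq_deg]
  exact MonoidHom.mem_ker.2 zG_deg

theorem zG_proj : uProj zG = 1 :=
  MonoidHom.mem_ker.1 (ker_uProj ▸ Subgroup.mem_sup_left (Subgroup.mem_zpowers _))

theorem cover_ker : coverMap.ker = Subgroup.zpowers (⟨zG, zG_mem⟩ : Cover) := by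
  refine le_antisymm (fun x hx => ?_) (Subgroup.zpowers_le.2 zG_proj)
  have hd : uDeg x.1 = 1 := MonoidHom.mem_ker.1 (commutator_eq_deg.le x.2)
  obtain ⟨i, hi⟩ := Subgroup.mem_zpowers_iff.1 (mem_zG (MonoidHom.mem_ker.1 hx) hd)
  exact Subgroup.mem_zpowers_iff.2 ⟨i, Subtype.ext (by simpa using hi)⟩

theorem cover_central : coverMap.ker ≤ Subgroup.center Cover := by
  intro x hx
  have h : x.1 ∈ Subgroup.center UGrp := zK_central (ker_uProj ▸ hx)
  exact Subgroup.mem_center_iff.2 fun y => Subtype.ext (Subgroup.mem_center_iff.1 h y.1)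

theorem cover_perfect : commutator Cover = ⊤ := by
  refine eq_top_iff.2 fun x _ => ?_
  have h := commutator_of_central uProj (ker_uProj ▸ zK_central) Cover cover_map_top x.2
  obtain ⟨y, hy, e⟩ : x.1 ∈ (commutator Cover).map Cover.subtype := by
    rwa [Subgroup.map_subtype_commutator]
  rwa [show x = y from Subtype.ext e.symm]

/-! ### An arbitrary stem extension -/

/-- A homomorphism from the cyclic group of order six hitting a given element. -/
theorem exists_hom_six {G : Type*} [Group G] {h : G} (hh : h ^ 6 = 1) :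
    ∃ π : Multiplicative (ZMod 6) →* G, π (Multiplicative.ofAdd 1) = h := by
  refine ⟨MonoidHom.mk' (fun x => h ^ (Multiplicative.toAdd x).val) (fun x y => ?_), ?_⟩
  · rw [toAdd_mul, ZMod.val_add, ← pow_add]
    exact (pow_eq_pow_mod _ hh).symm
  · show h ^ (1 : ZMod 6).val = h
    rw [show (1 : ZMod 6).val = 1 from rfl, pow_one]

section Amalgam

variable {E : Type*} [Group E] (z : E) (N : ℕ)

/-- The adjoined cyclic group. -/
abbrev Adj : Type := Multiplicative (ZMod (2 * N))

/-- The adjoined generator. -/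
abbrev adj : Adj N := Multiplicative.ofAdd (1 : ZMod (2 * N))

/-- The amalgamated element. -/
abbrev amal : E × Adj N := (z, (adj N)⁻¹ ^ 2)

theorem amal_normal (hz : ∀ y, y * z = z * y) : (Subgroup.zpowers (amal z N)).Normal := by
  have hc : amal z N ∈ Subgroup.center (E × Adj N) :=
    Subgroup.mem_center_iff.2 fun y => Prod.ext (hz y.1) (mul_comm _ _)
  exact ⟨fun n hn g => by
    rw [Subgroup.mem_center_iff.1 (Subgroup.zpowers_le.2 hc hn) g, mul_inv_cancel_right]
    exact hn⟩

theorem amal_inj (hN : z ^ (N : ℤ) = 1) {e : E}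
    (h : ((e, 1) : E × Adj N) ∈ Subgroup.zpowers (amal z N)) : e = 1 := by
  obtain ⟨j, hj⟩ := Subgroup.mem_zpowers_iff.1 h
  have h1 : z ^ j = e := (map_zpow (MonoidHom.fst E (Adj N)) (amal z N) j).symm.trans
    (congrArg Prod.fst hj)
  have h2 : ((adj N)⁻¹ ^ 2) ^ j = 1 := (map_zpow (MonoidHom.snd E (Adj N)) (amal z N) j).symm.trans
    (congrArg Prod.snd hj)
  rw [inv_pow, inv_zpow, inv_eq_one, ← zpow_natCast, ← zpow_mul, ← ofAdd_zsmul, zsmul_one,
    ofAdd_eq_one, ZMod.intCast_zmod_eq_zero_iff_dvd] at h2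
  push_cast at h2
  obtain ⟨m, rfl⟩ := Int.dvd_of_mul_dvd_mul_left (by norm_num : (2 : ℤ) ≠ 0) h2
  rw [← h1, zpow_mul, hN, one_zpow]

end Amalgam

section Stem

variable {E : Type*} [Group E] [Finite E] {σ : E →* Cfsg.Spor.Fi22}

theorem stem_ker (hs : Function.Surjective σ) (hc : σ.ker ≤ Subgroup.center E)
    (hcomm : σ.ker ≤ commutator E) :
    ∃ π : Multiplicative (ZMod 6) →* σ.ker, Function.Surjective π := by
  classical
  obtain ⟨τ, hτ⟩ := hs fA
  set z := τ * τ with hzdef
  have hσz : σ z = 1 := by rw [map_mul, hτ, fA_sq]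
  have hz : ∀ y, y * z = z * y := central_of_map hc hσz
  let p : Fi22.Gen → E := fun a =>
    Function.surjInv hs (gen_conj a).choose * τ * (Function.surjInv hs (gen_conj a).choose)⁻¹
  have hpD : ∀ a, InD τ (p a) := fun a => ⟨_, rfl⟩
  have hσp : ∀ a, σ (p a) = fOf a := fun a => by
    simp only [p, map_mul, map_inv, Function.surjInv_eq, hτ]
    exact (gen_conj a).choose_spec.symm
  have hpcox : ∀ a b, (p a * p b) ^ coxLabel Fi22.edges a b = z ^ coxLabel Fi22.edges a b := by
    intro a b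
    refine InD.rel hs hc hτ (hpD a) (hpD b) ?_ (by rw [hσp, hσp, fi_cox])
    rcases label_cases a b with ⟨h1, rfl⟩ | h | h
    exacts [Or.inl ⟨h1, rfl⟩, Or.inr (Or.inl h), Or.inr (Or.inr h)]
  set N := orderOf z with hNdef
  haveI := amal_normal z N hz
  let q : E × Adj N →* (E × Adj N) ⧸ Subgroup.zpowers (amal z N) := QuotientGroup.mk' _
  let π : (E × Adj N) ⧸ Subgroup.zpowers (amal z N) →* Cfsg.Spor.Fi22 :=
    QuotientGroup.lift _ (σ.comp (MonoidHom.fst E (Adj N)))
      (Subgroup.zpowers_le.2 (MonoidHom.mem_ker.2 hσz))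
  have hπ : ∀ m, π (q m) = σ m.1 := fun m => rfl
  have hπc : π.ker ≤ Subgroup.center _ := by
    intro m hm
    obtain ⟨⟨e, c⟩, rfl⟩ := QuotientGroup.mk'_surjective _ m
    have he : e ∈ Subgroup.center E := hc hm
    refine Subgroup.mem_center_iff.2 fun y => ?_
    obtain ⟨⟨e', c'⟩, rfl⟩ := QuotientGroup.mk'_surjective _ y
    rw [← map_mul, ← map_mul]
    exact congrArg _ (Prod.ext (Subgroup.mem_center_iff.1 he e') (mul_comm _ _))
  let f : Fi22.Gen → (E × Adj N) ⧸ Subgroup.zpowers (amal z N) := fun a => q (p a, (adj N)⁻¹)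
  have hf : ∀ a b, (f a * f b) ^ coxLabel Fi22.edges a b = 1 := by
    intro a b
    rw [← map_mul, ← map_pow]
    refine (QuotientGroup.eq_one_iff _).2 (Subgroup.mem_zpowers_iff.2
      ⟨(coxLabel Fi22.edges a b : ℤ), ?_⟩)
    rw [zpow_natCast, Prod.mk_mul_mk, Prod.pow_mk, Prod.pow_mk, hpcox, ← pow_two]
  have hfπ : ∀ a, π (f a) = fOf a := fun a => (hπ _).trans (hσp a)
  have hlift : ∀ r, π (FreeGroup.lift f r) = FreeGroup.lift fOf r := by
    intro r
    have h : π.comp (FreeGroup.lift f) = FreeGroup.lift fOf :=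
      FreeGroup.ext_hom _ _ fun a => by
        rw [MonoidHom.comp_apply, FreeGroup.lift_apply_of, FreeGroup.lift_apply_of]
        exact hfπ a
    exact DFunLike.congr_fun h r
  have hcen : ∀ r ∈ Fi22.extra, ∀ a,
      FreeGroup.lift f r * f a = f a * FreeGroup.lift f r := fun r hr a =>
    ((Subgroup.mem_center_iff.1 (hπc (MonoidHom.mem_ker.2 ((hlift r).trans (fi_extra hr))))) _).symm
  let ψ := uLift f hf hcen
  have hψ : π.comp ψ = uProj := PresentedGroup.ext fun a => by
    rw [MonoidHom.comp_apply, uLift_of, hfπ, uProj_of]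
  have hrange : ψ.range.map π = ⊤ := by
    rw [MonoidHom.map_range, hψ, MonoidHom.range_eq_top]
    exact uProj_surjective
  let ι : E →* (E × Adj N) ⧸ Subgroup.zpowers (amal z N) :=
    q.comp (MonoidHom.inl E (Adj N))
  have hι : Function.Injective ι := (injective_iff_map_eq_one ι).2 fun e he =>
    amal_inj z N (by rw [zpow_natCast, hNdef, pow_orderOf_eq_one]) ((QuotientGroup.eq_one_iff _).1 he)
  have key : ∀ k : σ.ker, ι k.1 ∈ Subgroup.zpowers (ψ zG) := by
    intro k
    have h1 : ι k.1 ∈ commutator _ := by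
      have h : (commutator E).map ι ≤ commutator _ := by
        rw [commutator_def, Subgroup.map_commutator]
        exact Subgroup.commutator_mono le_top le_top
      exact h ⟨k.1, hcomm k.2, rfl⟩
    have h2 := commutator_of_central π hπc ψ.range hrange h1
    rw [MonoidHom.range_eq_map ψ, ← Subgroup.map_commutator, ← commutator_def] at h2
    obtain ⟨u, hu, e⟩ := h2
    have hu1 : uProj u = 1 := by
      rw [← hψ, MonoidHom.comp_apply, e]
      exact MonoidHom.mem_ker.1 k.2
    obtain ⟨i, rfl⟩ := Subgroup.mem_zpowers_iff.1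
      (mem_zG hu1 (MonoidHom.mem_ker.1 (commutator_eq_deg.le hu)))
    exact Subgroup.mem_zpowers_iff.2 ⟨i, by rw [← e, map_zpow]⟩
  let ρ : σ.ker →* Subgroup.zpowers (ψ zG) :=
    MonoidHom.mk' (fun k => ⟨ι k.1, key k⟩) fun a b => Subtype.ext (map_mul ι a.1 b.1)
  have hρ : Function.Injective ρ := fun a b e =>
    Subtype.ext (hι (congrArg Subtype.val e))
  haveI : IsCyclic σ.ker := isCyclic_of_injective ρ hρ
  obtain ⟨h, hh⟩ := IsCyclic.exists_generator (α := σ.ker)
  have h6 : h ^ 6 = 1 := hρ (by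
    rw [map_pow, map_one]
    refine Subtype.ext ?_
    rw [SubmonoidClass.coe_pow]
    obtain ⟨i, hi⟩ := Subgroup.mem_zpowers_iff.1 (ρ h).2
    have hg : (ψ zG) ^ 6 = 1 := by rw [← map_pow, zG_six, map_one]
    rw [← hi, ← zpow_natCast (ψ zG ^ i) 6, ← zpow_mul, mul_comm i, zpow_mul, zpow_natCast, hg,
      one_zpow]
    rfl)
  obtain ⟨π6, hπ6⟩ := exists_hom_six h6
  refine ⟨π6, fun k => ?_⟩
  obtain ⟨i, rfl⟩ := Subgroup.mem_zpowers_iff.1 (hh k)
  exact ⟨Multiplicative.ofAdd 1 ^ i, by rw [map_zpow, hπ6]⟩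

end Stem

/-- The multiplier is cyclic of order six. -/
theorem multiplier : Cfsg.HasCyclicSchurMultiplier Cfsg.Spor.Fi22 6 := by
  haveI := u_finite
  refine ⟨⟨Cover, inferInstance, inferInstance, coverMap,
    ⟨cover_surjective, cover_central, by rw [cover_perfect]; exact le_top⟩, ?_⟩,
    fun Γ _ _ σ h => stem_ker h.1 h.2.1 h.2.2⟩
  rw [cover_ker]
  have hc : Nat.card (Subgroup.zpowers (⟨zG, zG_mem⟩ : Cover)) =
      Nat.card (Multiplicative (ZMod 6)) := by
    rw [Nat.card_zpowers, ← Subgroup.orderOf_coe, zG_order,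
      Nat.card_congr Multiplicative.toAdd, Nat.card_zmod]
  exact ⟨mulEquivOfCyclicCardEq hc⟩

end CfsgLib.Fi22P
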