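import Cfsg.Agent.Lib.Fi22P.MultExistCheck

/-!
The kernel generator has order six: a representation in dimension 27 over four elements and
the transposition centraliser of the Fischer group of degree 31671.
-/

set_option autoImplicit false
set_option maxRecDepth 100000

namespace CfsgLib.Fi22P

open CfsgLib.PresCert Cfsg.Spor

attribute [local irreducible] Fi23P.relShort Fi23P.levels Fi23P.wordA Fi23P.rootWords Fi23P.baseL

/-- The values of the generators in dimension 27. -/
def tOf (a : Fi22.Gen) : Equiv.Perm Cols.Vec := Cols.tGen (genIx a)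

theorem tAct_apply : ∀ (w : List ℕ) (v : Cols.Vec),
    (act Cols.tGen w v).1 = w.foldl (fun u g => Cols.ap (Cols.colsAt g) u) v.1
  | [], _ => rfl
  | g :: w, v => by
    rw [act_cons, Equiv.Perm.mul_apply, tAct_apply w, Cols.tGen_apply, List.foldl_cons]

theorem tAct_cols (w : List ℕ) (v : Cols.Vec) :
    (act Cols.tGen w v).1 = Cols.ap (Cols.wcols w) v.1 := by
  rw [tAct_apply, Cols.wcols, Cols.ap_foldl, Cols.ap_idc, Nat.mod_eq_of_lt v.2]

theorem tAct_ext {u w : List ℕ} (h : Cols.wcols u = Cols.wcols w) :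
    act Cols.tGen u = act Cols.tGen w :=
  Equiv.ext fun v => Subtype.ext (by rw [tAct_cols, tAct_cols, h])

theorem genIx_lt (a : Fi22.Gen) : genIx a < 9 := by cases a <;> decide

theorem t_cox (a b : Fi22.Gen) : (tOf a * tOf b) ^ coxLabel Fi22.edges a b = 1 := by
  have h := t_cox_check
  simp only [List.all_eq_true, List.mem_range, decide_eq_true_eq] at h
  have e := tAct_ext (w := []) (h (genIx a) (genIx_lt a) (genIx b) (genIx_lt b))
  rwa [act_nil, act_pow_pair, genAt_ix, genAt_ix] at e

theorem t_lift (r : FreeGroup Fi22.Gen) (hr : (wordOf r).all (fun g => Nat.blt g 9) = true) :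
    FreeGroup.lift tOf r = act Cols.tGen (wordOf r) := by
  rw [lift_wordOf tOf t_cox]
  have hw : ∀ g ∈ wordOf r, g < 9 := fun g hg => by
    simpa [Nat.blt_eq] using List.all_eq_true.1 hr g hg
  revert hw
  induction wordOf r with
  | nil => exact fun _ => rfl
  | cons g w ih =>
    intro hw
    rw [act_cons, act_cons, ih fun a ha => hw a (List.mem_cons_of_mem _ ha), tOf,
      genIx_genAt g (hw g List.mem_cons_self)]

theorem t_extra : FreeGroup.lift tOf exA = 1 ∧ FreeGroup.lift tOf exB = 1 ∧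
    (∀ a, FreeGroup.lift tOf exS * tOf a = tOf a * FreeGroup.lift tOf exS) ∧
    FreeGroup.lift tOf exS ≠ 1 := by
  obtain ⟨hS, hA, hB, hcomm, hne, hlt⟩ := t_words
  simp only [List.all_append, Bool.and_eq_true] at hlt
  have e0 : ∀ v : Cols.Vec, Cols.ap (Cols.idc 54) v.1 = v.1 := fun v => by
    rw [Cols.ap_idc, Nat.mod_eq_of_lt v.2]
  refine ⟨?_, ?_, fun a => ?_, ?_⟩
  · rw [t_lift _ hlt.1.2]
    exact Equiv.ext fun v => Subtype.ext (by rw [tAct_cols, hA]; exact e0 v)
  · rw [t_lift _ hlt.2]
    exact Equiv.ext fun v => Subtype.ext (by rw [tAct_cols, hB]; exact e0 v)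
  · simp only [List.all_eq_true, List.mem_range, decide_eq_true_eq] at hcomm
    have h := hcomm (genIx a) (genIx_lt a)
    rw [t_lift _ hlt.1.1]
    refine Equiv.ext fun v => Subtype.ext ?_
    rw [Equiv.Perm.mul_apply, Equiv.Perm.mul_apply, tAct_cols, hS, tOf, Cols.tGen_apply,
      Cols.tGen_apply, tAct_cols, hS, ← Cols.ap_comp, ← Cols.ap_comp, h]
  · intro e
    rw [t_lift _ hlt.1.1] at e
    have h := congrArg (fun p : Equiv.Perm Cols.Vec => (p ⟨1, by norm_num⟩).1) e
    simp only [tAct_cols, hS, Equiv.Perm.one_apply] at h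
    exact hne h

theorem t_central_extra : ∀ r ∈ Fi22.extra, ∀ a,
    FreeGroup.lift tOf r * tOf a = tOf a * FreeGroup.lift tOf r := by
  intro r hr a
  simp only [extra_eq, List.mem_cons, List.not_mem_nil, or_false] at hr
  rcases hr with rfl | rfl | rfl
  · exact t_extra.2.2.1 a
  · rw [t_extra.1, one_mul, mul_one]
  · rw [t_extra.2.1, one_mul, mul_one]

/-- The representation in dimension 27. -/
def uTriple : UGrp →* Equiv.Perm Cols.Vec := uLift tOf t_cox t_central_extra

theorem zS_ne_one : zS ≠ 1 := fun h => t_extra.2.2.2 (by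
  have e := congrArg uTriple h
  rwa [map_one, zS, uTriple, uLift_mk] at e)

/-! ### The double cover -/

/-- The values of the generators in the larger Fischer group. -/
def dOf (a : Fi22.Gen) : Cfsg.Spor.Fi23 := Fi23P.fiGen (Fi23P.mapIx (genIx a))

theorem d_cox (a b : Fi22.Gen) : (dOf a * dOf b) ^ coxLabel Fi22.edges a b = 1 := by
  have h := d_cox_check
  simp only [List.all_eq_true, List.mem_range] at h
  have e := Fi23P.eq_of_base (h (genIx a) (genIx_lt a) (genIx b) (genIx_lt b))
  rwa [act_nil, act_pow_pair, genAt_ix, genAt_ix] at e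

theorem d_lift (r : FreeGroup Fi22.Gen) (hr : (wordOf r).all (fun g => Nat.blt g 9) = true) :
    FreeGroup.lift dOf r = act Fi23P.fiGen ((wordOf r).map Fi23P.mapIx) := by
  rw [lift_wordOf dOf d_cox]
  have hw : ∀ g ∈ wordOf r, g < 9 := fun g hg => by
    simpa [Nat.blt_eq] using List.all_eq_true.1 hr g hg
  revert hw
  induction wordOf r with
  | nil => exact fun _ => rfl
  | cons g w ih =>
    intro hw
    rw [List.map_cons, act_cons, act_cons, ih fun a ha => hw a (List.mem_cons_of_mem _ ha), dOf,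
      genIx_genAt g (hw g List.mem_cons_self)]

theorem d_extra : FreeGroup.lift dOf exS = 1 ∧ FreeGroup.lift dOf exA = 1 ∧
    FreeGroup.lift dOf exB = Fi23P.eltT := by
  obtain ⟨hS, hA, hB, hlt⟩ := d_words
  simp only [List.all_append, Bool.and_eq_true] at hlt
  refine ⟨?_, ?_, ?_⟩
  · rw [d_lift _ hlt.1.1, Fi23P.eq_of_base hS, act_nil]
  · rw [d_lift _ hlt.1.2, Fi23P.eq_of_base hA, act_nil]
  · rw [d_lift _ hlt.2, Fi23P.eq_of_base hB]
    rfl

theorem d_central_extra : ∀ r ∈ Fi22.extra, ∀ a,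
    FreeGroup.lift dOf r * dOf a = dOf a * FreeGroup.lift dOf r := by
  intro r hr a
  simp only [extra_eq, List.mem_cons, List.not_mem_nil, or_false] at hr
  rcases hr with rfl | rfl | rfl
  · rw [d_extra.1, one_mul, mul_one]
  · rw [d_extra.2.1, one_mul, mul_one]
  · rw [d_extra.2.2]
    refine Fi23P.t_central (Subgroup.subset_closure ⟨[Fi23P.mapIx (genIx a)],
      (mapIx_lt _ (genIx_lt a)).2, ?_⟩)
    rw [act_cons, act_nil, one_mul]
    rfl

/-- The map to the larger Fischer group. -/
def uDouble : UGrp →* Cfsg.Spor.Fi23 := uLift dOf d_cox d_central_extra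

theorem zAB_ne_one : zA * zB ≠ 1 := fun h => Fi23P.t_ne_one (by
  have e := congrArg uDouble h
  rwa [map_one, map_mul, zA, zB, uDouble, uLift_mk, uLift_mk, d_extra.2.1, d_extra.2.2,
    one_mul] at e)

theorem zG_order : orderOf zG = 6 := by
  have hd : orderOf zG ∣ 6 := orderOf_dvd_of_pow_eq_one zG_six
  have h2 : ¬ orderOf zG ∣ 2 := fun h => zS_ne_one (by
    have e := orderOf_dvd_iff_pow_eq_one.1 h
    rw [zG_two] at e
    calc zS = zS * zS ^ 2 := by rw [e, mul_one]
      _ = 1 := by rw [← pow_succ', zS_pow])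
  have h3 : ¬ orderOf zG ∣ 3 := fun h => zAB_ne_one (by
    rw [← zG_three]; exact orderOf_dvd_iff_pow_eq_one.1 h)
  have hm : orderOf zG ∈ Nat.divisors 6 := Nat.mem_divisors.2 ⟨hd, by norm_num⟩
  rw [show Nat.divisors 6 = {1, 2, 3, 6} by decide] at hm
  simp only [Finset.mem_insert, Finset.mem_singleton] at hm
  rcases hm with h | h | h | h
  · exact absurd (by rw [h]; exact one_dvd 2) h2
  · exact absurd (dvd_of_eq h) h2
  · exact absurd (dvd_of_eq h) h3
  · exact h

end CfsgLib.Fi22P
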