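import Cfsg.Agent.Lib.Fi22P.TripleData
import Mathlib.Data.Nat.Bitwise
import Mathlib.Logic.Equiv.Basic
import Mathlib.GroupTheory.Perm.Basic
import Mathlib.Tactic

/-!
Linear maps over the field of two elements given by their columns.
-/

set_option autoImplicit false
set_option maxRecDepth 100000

namespace CfsgLib.Fi22P.Cols

/-- The sum of the columns at the set bits. -/
def ap : List ℕ → ℕ → ℕ
  | [], _ => 0
  | c :: cs, v => (bif Nat.testBit v 0 then c else 0) ^^^ ap cs (v / 2)

theorem ap_zero : ∀ L, ap L 0 = 0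
  | [] => rfl
  | c :: cs => by simp [ap, ap_zero cs]

theorem half_xor (v w : ℕ) : (v ^^^ w) / 2 = v / 2 ^^^ w / 2 := by
  have h := Nat.shiftRight_xor_distrib (a := v) (b := w) (i := 1)
  simpa [Nat.shiftRight_eq_div_pow] using h

theorem double_xor (v w : ℕ) : 2 * (v ^^^ w) = 2 * v ^^^ 2 * w := by
  have h := Nat.shiftLeft_xor_distrib (a := v) (b := w) (i := 1)
  simpa [Nat.shiftLeft_eq, Nat.mul_comm] using h

theorem ap_xor : ∀ (L : List ℕ) (v w : ℕ), ap L (v ^^^ w) = ap L v ^^^ ap L w
  | [], _, _ => by simp [ap]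
  | c :: cs, v, w => by
    simp only [ap, half_xor, ap_xor cs, Nat.testBit_xor]
    cases Nat.testBit v 0 <;> cases Nat.testBit w 0 <;>
      simp [Nat.xor_assoc, Nat.xor_left_comm, Nat.xor_comm]

theorem ap_comp (L : List ℕ) : ∀ (R : List ℕ) (v : ℕ), ap (R.map (ap L)) v = ap L (ap R v)
  | [], _ => (ap_zero L).symm
  | c :: cs, v => by
    simp only [List.map_cons, ap, ap_comp L cs, ap_xor]
    cases Nat.testBit v 0 <;> simp [ap_zero]

/-- The columns of the identity. -/
def idc : ℕ → List ℕ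
  | 0 => []
  | n + 1 => 1 :: (idc n).map fun c => 2 * c

theorem ap_double : ∀ (L : List ℕ) (v : ℕ), ap (L.map fun c => 2 * c) v = 2 * ap L v
  | [], _ => rfl
  | c :: cs, v => by
    simp only [List.map_cons, ap, ap_double cs, double_xor]
    cases Nat.testBit v 0 <;> simp

theorem ap_idc : ∀ n v, ap (idc n) v = v % 2 ^ n
  | 0, v => by simp [idc, ap, Nat.mod_one]
  | n + 1, v => by
    simp only [idc, ap, ap_double, ap_idc n]
    rw [show 2 ^ (n + 1) = 2 * 2 ^ n by ring, Nat.mod_mul, Nat.testBit_zero]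
    rcases Nat.mod_two_eq_zero_or_one v with h | h <;> simp [h]
    rw [Nat.xor_comm, Nat.xor_one_of_even (even_two_mul _), add_comm]

theorem ap_lt {n : ℕ} : ∀ (L : List ℕ) (v : ℕ), L.all (fun c => Nat.blt c (2 ^ n)) = true →
    ap L v < 2 ^ n
  | [], _, _ => Nat.two_pow_pos n
  | c :: cs, v, h => by
    simp only [List.all_cons, Bool.and_eq_true, Nat.blt_eq] at h
    refine Nat.xor_lt_two_pow ?_ (ap_lt cs _ h.2)
    cases Nat.testBit v 0
    · exact Nat.two_pow_pos n
    · exact h.1

/-- The vectors. -/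
abbrev Vec : Type := {v : ℕ // v < 2 ^ 54}

/-- The columns of a generator, or of the identity out of range. -/
def colsAt (i : ℕ) : List ℕ := tripleCols.getD i (idc 54)

/-- The checks: bounded columns and involutions. -/
def colOk (L : List ℕ) : Bool :=
  L.all (fun c => Nat.blt c (2 ^ 54)) && decide (L.map (ap L) = idc 54)

theorem cols_ok : (tripleCols.all colOk && colOk (idc 54)) = true := by decide +kernel

theorem colsAt_ok (i : ℕ) : colOk (colsAt i) = true := by
  have h := cols_ok
  rw [Bool.and_eq_true, List.all_eq_true] at h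
  by_cases hi : i < tripleCols.length
  · rw [colsAt, List.getD_eq_getElem _ _ hi]
    exact h.1 _ (List.getElem_mem hi)
  · rw [colsAt, List.getD_eq_default _ _ (Nat.le_of_not_lt hi)]
    exact h.2

theorem colsAt_invol (i : ℕ) (v : Vec) : ap (colsAt i) (ap (colsAt i) v.1) = v.1 := by
  have h := colsAt_ok i
  rw [colOk, Bool.and_eq_true, decide_eq_true_eq] at h
  rw [← ap_comp, h.2, ap_idc, Nat.mod_eq_of_lt v.2]

/-- The map of a generator. -/
def stepFun (i : ℕ) (v : Vec) : Vec :=
  ⟨ap (colsAt i) v.1, ap_lt _ _ (Bool.and_eq_true_iff.1 (colsAt_ok i)).1⟩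

/-- A generator. -/
def tGen (i : ℕ) : Equiv.Perm Vec :=
  ⟨stepFun i, stepFun i, fun v => Subtype.ext (colsAt_invol i v),
    fun v => Subtype.ext (colsAt_invol i v)⟩

theorem tGen_apply (i : ℕ) (v : Vec) : (tGen i v).1 = ap (colsAt i) v.1 := rfl

/-- The columns of a word. -/
def wcols (w : List ℕ) : List ℕ := w.foldl (fun L g => L.map (ap (colsAt g))) (idc 54)

theorem ap_foldl : ∀ (w L : List ℕ) (v : ℕ),
    ap (w.foldl (fun L g => L.map (ap (colsAt g))) L) v =
      w.foldl (fun u g => ap (colsAt g) u) (ap L v)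
  | [], _, _ => rfl
  | g :: w, L, v => by simp only [List.foldl_cons, ap_foldl w, ap_comp]

end CfsgLib.Fi22P.Cols
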