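import Cfsg.Agent.Lib.Fi22P.MultKer
import Cfsg.Agent.Lib.Fi22P.Triple
import Cfsg.Agent.Lib.Fi23P.Perm

/-!
Finite checks for the two representations.
-/

set_option autoImplicit false
set_option maxRecDepth 100000

namespace CfsgLib.Fi22P

open CfsgLib.PresCert Cfsg.Spor

attribute [local irreducible] Fi23P.relShort Fi23P.levels Fi23P.wordA Fi23P.rootWords Fi23P.baseL

theorem genIx_genAt : ∀ i, i < 9 → genIx (genAt i) = i := by decide +kernel


theorem t_cox_check : ((List.range 9).all fun i => (List.range 9).all fun j =>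
    decide (Cols.wcols (List.replicate (coxLabel Fi22.edges (genAt i) (genAt j)) [j, i]).flatten =
      Cols.idc 54)) = true := by
  decide +kernel


theorem t_words : Cols.wcols (wordOf exS) = omegaCols ∧ Cols.wcols (wordOf exA) = Cols.idc 54 ∧
    Cols.wcols (wordOf exB) = Cols.idc 54 ∧
    (List.range 9).all (fun g => decide ((Cols.colsAt g).map (Cols.ap omegaCols) =
      omegaCols.map (Cols.ap (Cols.colsAt g)))) = true ∧
    Cols.ap omegaCols 1 ≠ 1 ∧
    (wordOf exS ++ wordOf exA ++ wordOf exB).all (fun g => Nat.blt g 9) = true := by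
  decide +kernel


theorem mapIx_lt : ∀ i, i < 9 → Fi23P.mapIx i < 10 ∧ [Fi23P.mapIx i] ∈ Fi23P.sH := by
  decide +kernel


theorem d_cox_check : ((List.range 9).all fun i => (List.range 9).all fun j =>
    Fi23P.sameBase (List.replicate (coxLabel Fi22.edges (genAt i) (genAt j))
      [Fi23P.mapIx j, Fi23P.mapIx i]).flatten []) = true := by
  decide +kernel


theorem d_words : Fi23P.sameBase ((wordOf exS).map Fi23P.mapIx) [] = true ∧
    Fi23P.sameBase ((wordOf exA).map Fi23P.mapIx) [] = true ∧
    Fi23P.sameBase ((wordOf exB).map Fi23P.mapIx) Fi23P.wordT = true ∧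
    (wordOf exS ++ wordOf exA ++ wordOf exB).all (fun g => Nat.blt g 9) = true := by
  decide +kernel

end CfsgLib.Fi22P
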