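import Cfsg.Agent.Lib.Fi22P.Perm
import Cfsg.Agent.Lib.Fi22P.MultData

/-!
The universal central extension candidate of the presented Fischer group: the Coxeter relations,
and the three further relators made central.
-/

set_option autoImplicit false
set_option maxRecDepth 100000

namespace CfsgLib.Fi22P

open CfsgLib.PresCert Cfsg.Spor
open scoped commutatorElement

/-- The relators: Coxeter, and the further relators central. -/
def uRels : Set (FreeGroup Fi22.Gen) :=
  coxRelators Fi22.edges ∪ {s | ∃ r ∈ Fi22.extra, ∃ a, s = ⁅r, FreeGroup.of a⁆}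

/-- The group of the relators. -/
abbrev UGrp : Type := PresentedGroup uRels

theorem node_mem (a : Fi22.Gen) : a ∈ coxNodes Fi22.edges := by cases a <;> decide

theorem label_self (a : Fi22.Gen) : coxLabel Fi22.edges a a = 1 := by cases a <;> decide

theorem label_cases (a b : Fi22.Gen) :
    coxLabel Fi22.edges a b = 1 ∧ a = b ∨ coxLabel Fi22.edges a b = 2 ∨
      coxLabel Fi22.edges a b = 3 := by
  cases a <;> cases b <;> decide

/-- The word of a relator in numbers. -/
def wordOf (r : FreeGroup Fi22.Gen) : List ℕ :=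
  ((r.toWord.map fun p => genIx p.1)).reverse

/-- A generator by number. -/
def genAt (i : ℕ) : Fi22.Gen := fiData.at'.getD i .a

theorem genAt_ix (a : Fi22.Gen) : genAt (genIx a) = a := by cases a <;> rfl

section Target

variable {M : Type*} [Group M] (f : Fi22.Gen → M)

theorem sq_of_cox (hcox : ∀ a b, (f a * f b) ^ coxLabel Fi22.edges a b = 1) (a : Fi22.Gen) :
    f a * f a = 1 := by
  have h := hcox a a
  rwa [label_self, pow_one] at h

theorem lift_wordOf (hcox : ∀ a b, (f a * f b) ^ coxLabel Fi22.edges a b = 1)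
    (r : FreeGroup Fi22.Gen) : FreeGroup.lift f r = act (fun i => f (genAt i)) (wordOf r) := by
  conv_lhs => rw [← FreeGroup.mk_toWord (x := r)]
  rw [wordOf]
  induction r.toWord with
  | nil =>
    rw [← FreeGroup.one_eq_mk, map_one]
    rfl
  | cons p L ih =>
    obtain ⟨g, b⟩ := p
    rw [show FreeGroup.mk ((g, b) :: L) = FreeGroup.mk [(g, b)] * FreeGroup.mk L from rfl, map_mul,
      ih, List.map_cons, List.reverse_cons, act_append, act_cons, act_nil, one_mul, genAt_ix]
    congr 1
    cases b
    · have e : FreeGroup.mk [(g, false)] = (FreeGroup.of g)⁻¹ := rfl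
      rw [e, map_inv, FreeGroup.lift_apply_of]
      exact inv_eq_of_mul_eq_one_right (sq_of_cox f hcox _)
    · exact FreeGroup.lift_apply_of

/-- The homomorphism given by values of the generators. -/
def uLift (hcox : ∀ a b, (f a * f b) ^ coxLabel Fi22.edges a b = 1)
    (hcen : ∀ r ∈ Fi22.extra, ∀ a,
      FreeGroup.lift f r * f a = f a * FreeGroup.lift f r) : UGrp →* M :=
  PresentedGroup.toGroup (f := f) (by
    rintro s (⟨a, -, b, -, rfl⟩ | ⟨r, hr, a, rfl⟩)
    · rw [map_pow, map_mul, FreeGroup.lift_apply_of, FreeGroup.lift_apply_of]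
      exact hcox a b
    · rw [map_commutatorElement, FreeGroup.lift_apply_of]
      exact commutatorElement_eq_one_iff_mul_comm.2 (hcen r hr a))

theorem uLift_mk (hcox : ∀ a b, (f a * f b) ^ coxLabel Fi22.edges a b = 1)
    (hcen : ∀ r ∈ Fi22.extra, ∀ a, FreeGroup.lift f r * f a = f a * FreeGroup.lift f r)
    (r : FreeGroup Fi22.Gen) :
    uLift f hcox hcen (PresentedGroup.mk uRels r) = FreeGroup.lift f r := rfl

theorem uLift_of (hcox : ∀ a b, (f a * f b) ^ coxLabel Fi22.edges a b = 1)
    (hcen : ∀ r ∈ Fi22.extra, ∀ a, FreeGroup.lift f r * f a = f a * FreeGroup.lift f r)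
    (a : Fi22.Gen) : uLift f hcox hcen (PresentedGroup.of a) = f a :=
  FreeGroup.lift_apply_of

end Target

/-- The generators. -/
abbrev uOf (a : Fi22.Gen) : UGrp := PresentedGroup.of a

theorem uRel_one {r : FreeGroup Fi22.Gen} (h : r ∈ uRels) : PresentedGroup.mk uRels r = 1 :=
  PresentedGroup.mk_eq_one_iff.2 (Subgroup.subset_normalClosure h)

theorem u_cox (a b : Fi22.Gen) : (uOf a * uOf b) ^ coxLabel Fi22.edges a b = 1 := by
  have h := uRel_one (r := (FreeGroup.of a * FreeGroup.of b) ^ coxLabel Fi22.edges a b)
    (Or.inl ⟨a, node_mem a, b, node_mem b, rfl⟩)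
  simpa [PresentedGroup.of] using h

theorem mk_eq_lift (r : FreeGroup Fi22.Gen) :
    PresentedGroup.mk uRels r = FreeGroup.lift uOf r := by
  have h : (PresentedGroup.mk uRels : FreeGroup Fi22.Gen →* UGrp) = FreeGroup.lift uOf :=
    FreeGroup.ext_hom _ _ fun a => by rw [FreeGroup.lift_apply_of]; rfl
  rw [h]

/-- The generators by number. -/
def uGen (i : ℕ) : UGrp := uOf (genAt i)

theorem mk_eq_act (r : FreeGroup Fi22.Gen) :
    PresentedGroup.mk uRels r = act uGen (wordOf r) :=
  (mk_eq_lift r).trans (lift_wordOf uOf u_cox r)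

theorem uGen_sq (g : ℕ) : uGen g * uGen g = 1 := sq_of_cox uOf u_cox _

theorem extra_central {r : FreeGroup Fi22.Gen} (hr : r ∈ Fi22.extra) :
    PresentedGroup.mk uRels r ∈ Subgroup.center UGrp := by
  suffices h : (⊤ : Subgroup UGrp) ≤ Subgroup.centralizer {PresentedGroup.mk uRels r} by
    exact Subgroup.mem_center_iff.2 fun y =>
      Subgroup.mem_centralizer_singleton_iff.1 (h (Subgroup.mem_top y))
  rw [← PresentedGroup.closure_range_of, Subgroup.closure_le]
  rintro _ ⟨a, rfl⟩
  rw [SetLike.mem_coe, Subgroup.mem_centralizer_singleton_iff]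
  have h := uRel_one (r := ⁅r, FreeGroup.of a⁆) (Or.inr ⟨r, hr, a, rfl⟩)
  rw [map_commutatorElement, commutatorElement_eq_one_iff_mul_comm] at h
  exact h.symm

/-! ### The words of the certificates -/

/-- The Coxeter relations as words. -/
def shortW : List (List ℕ) :=
  (List.range 9).flatMap fun i => (List.range 9).map fun j =>
    (List.replicate (coxLabel Fi22.edges (genAt i) (genAt j)) [i, j]).flatten

/-- The spider relator. -/
def exS : FreeGroup Fi22.Gen := (Fi22.d * Fi22.c * Fi22.b * Fi22.d * Fi22.e * Fi22.f * Fi22.d *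
  Fi22.h * Fi22.i) ^ 10

/-- The first relator of type E7. -/
def exA : FreeGroup Fi22.Gen :=
  (Fi22.a * Fi22.b * Fi22.c * Fi22.d * Fi22.e * Fi22.f * Fi22.h) ^ 9

/-- The second relator of type E7. -/
def exB : FreeGroup Fi22.Gen :=
  (Fi22.b * Fi22.c * Fi22.d * Fi22.e * Fi22.f * Fi22.g * Fi22.h) ^ 9

theorem extra_eq : Fi22.extra = [exS, exA, exB] := rfl

theorem exS_mem : exS ∈ Fi22.extra := by rw [extra_eq]; simp

theorem exA_mem : exA ∈ Fi22.extra := by rw [extra_eq]; simp

theorem exB_mem : exB ∈ Fi22.extra := by rw [extra_eq]; simp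

/-- The spider relator commutes with the generators, as words. -/
def spiderComW : List (List ℕ) := fiData.at'.map fun a => wordOf ⁅exS, FreeGroup.of a⁆

theorem act_pow_pair {M : Type*} [Group M] (x : ℕ → M) (i j : ℕ) :
    ∀ k : ℕ, act x (List.replicate k [i, j]).flatten = (x j * x i) ^ k
  | 0 => by simp [act_nil]
  | k + 1 => by
    rw [List.replicate_succ, List.flatten_cons, act_append, act_pow_pair x i j k, act_cons,
      act_cons, act_nil, one_mul, pow_succ]

theorem shortW_act : ∀ w ∈ shortW, act uGen w = 1 := by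
  intro w hw
  simp only [shortW, List.mem_flatMap, List.mem_range, List.mem_map] at hw
  obtain ⟨i, -, j, -, rfl⟩ := hw
  rw [act_pow_pair, uGen, uGen]
  have h := u_cox (genAt i) (genAt j)
  set k := coxLabel Fi22.edges (genAt i) (genAt j)
  set p := uOf (genAt i)
  set q := uOf (genAt j)
  have e : q * p = p⁻¹ * (p * q) * p⁻¹⁻¹ := by group
  rw [e, conj_pow, h, mul_one, mul_inv_cancel]

theorem spiderComW_act : ∀ w ∈ spiderComW, act uGen w = 1 := by
  intro w hw
  simp only [spiderComW, List.mem_map] at hw
  obtain ⟨a, -, rfl⟩ := hw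
  rw [← mk_eq_act]
  exact uRel_one (Or.inr ⟨exS, exS_mem, a, rfl⟩)

/-! ### The certificates -/

theorem certX7a_block0 : block certX7a 0 = true := by decide +kernel

theorem certX7b_block0 : block certX7b 0 = true := by decide +kernel

theorem certX6_block0 : block certX6 0 = true := by decide +kernel

theorem certX6_block1 : block certX6 1 = true := by decide +kernel

theorem certX_shape : shapeOk certX7a = true ∧ shapeOk certX7b = true ∧ shapeOk certX6 = true := by
  decide +kernel

theorem certX7a_valid : Valid certX7a where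
  shape := certX_shape.1
  slots b hb := by
    have h : certX7a.N = 512 := rfl
    obtain rfl : b = 0 := by omega
    exact certX7a_block0

theorem certX7b_valid : Valid certX7b where
  shape := certX_shape.2.1
  slots b hb := by
    have h : certX7b.N = 512 := rfl
    obtain rfl : b = 0 := by omega
    exact certX7b_block0

theorem certX6_valid : Valid certX6 where
  shape := certX_shape.2.2
  slots b hb := by
    have h : certX6.N = 1536 := rfl
    obtain rfl | rfl : b = 0 ∨ b = 1 := by omega
    exacts [certX6_block0, certX6_block1]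

/-- The words of the subgroup of type E6. -/
def w6 : List (List ℕ) := [[1], [2], [3], [4], [5], [7]]

theorem x7a_words : relsOk certX7a shortW = true ∧
    subsOk certX7a w6 (16 * certX7a.words.length) = true ∧ certX7a.ng = 9 ∧
    endsAt certX7a (certX7a.rm - 1)
      (walk certX7a (certX7a.rm - 1) 0 (List.replicate 2 (wordOf exA)).flatten) 0 = true ∧
    (wordOf exA).all (fun g => Nat.blt g 9) = true := by
  decide +kernel

theorem x7b_words : relsOk certX7b shortW = true ∧
    subsOk certX7b w6 (16 * certX7b.words.length) = true ∧ certX7b.ng = 9 ∧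
    endsAt certX7b (certX7b.rm - 1)
      (walk certX7b (certX7b.rm - 1) 0 (List.replicate 2 (wordOf exB)).flatten) 0 = true ∧
    (wordOf exB).all (fun g => Nat.blt g 9) = true := by
  decide +kernel

theorem x6_words : relsOk certX6 (shortW ++ spiderComW) = true ∧
    subsOk certX6 w6 (16 * certX6.words.length) = true ∧ certX6.ng = 9 ∧
    endsAt certX6 (certX6.rm - 1)
      (walk certX6 (certX6.rm - 1) 0 (List.replicate 3 (wordOf exS)).flatten) 0 = true ∧
    (wordOf exS).all (fun g => Nat.blt g 9) = true := by
  decide +kernel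

theorem small_words_ext : relsOk certD5 shortW = true ∧ relsOk certE6 shortW = true := by
  decide +kernel

end CfsgLib.Fi22P
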