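import Cfsg.Agent.Lib.Fi22P.PermCheck
import Cfsg.Agent.Lib.Fi22P.O7Data

/-!
Kernel checks of coordinates for 351 points.
-/

set_option autoImplicit false
set_option maxRecDepth 100000

namespace CfsgLib.Fi22P

open CfsgLib.PresCert Cfsg.Spor 

/-- The form with codes of trits. -/
def q3 (f : Fin 7 → ℕ) : ℕ := (f 0 * f 0 + f 1 * f 4 + f 2 * f 5 + f 3 * f 6) % 3

/-- The polar form with codes of trits. -/
def b3 (f e : Fin 7 → ℕ) : ℕ :=
  (2 * (f 0 * e 0) + (f 1 * e 4 + f 4 * e 1) + (f 2 * e 5 + f 5 * e 2) + (f 3 * e 6 + f 6 * e 3)) % 3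

/-- A digit of a code. -/
def trit (c : ℕ) (i : Fin 7) : ℕ := c / 3 ^ i.val % 3

/-- The code of a vector. -/
def enc3 (f : Fin 7 → ℕ) : ℕ :=
  f 0 % 3 + 3 * (f 1 % 3) + 9 * (f 2 % 3) + 27 * (f 3 % 3) + 81 * (f 4 % 3) + 243 * (f 5 % 3) +
    729 * (f 6 % 3)

/-- The code of a point; zero outside the orbit. -/
def co7 (p : ℕ) : ℕ := look o7Coords 256 12 p

/-- The point of a code. -/
def pt7 (c : ℕ) : ℕ := look o7Points 256 12 c

/-- A root vector. -/
def root7 (g : ℕ) (i : Fin 7) : ℕ := (o7Roots.getD g []).getD i.val 0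

/-- Minus the reflection in a root, on codes. -/
def negRefl (g : ℕ) (f : Fin 7 → ℕ) (i : Fin 7) : ℕ :=
  2 * f i + 2 * (b3 f (root7 g) * root7 g i)

/-- The codes of norm two are the points with a sign, on a block. -/
def cover7 (b : ℕ) : Bool :=
  (List.range 1000).all fun j =>
    let c := 1000 * b + j
    !(Nat.blt c 2187 && Nat.beq (q3 (trit c)) 2) || (Nat.blt (pt7 c) 3510 &&
      !(Nat.beq (co7 (pt7 c)) 0) &&
      (Nat.beq (enc3 (trit (co7 (pt7 c)))) c ||
        Nat.beq (enc3 fun i => 2 * trit (co7 (pt7 c)) i) c))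

/-- The coordinates determine the point, and the generators act as stated, on a block. -/
def sep7 (b : ℕ) : Bool :=
  (List.range 1000).all fun j =>
    let p := 1000 * b + j
    !(Nat.blt p 3510) || Nat.beq (co7 p) 0 || (Nat.beq (q3 (trit (co7 p))) 2 &&
      Nat.beq (pt7 (enc3 (trit (co7 p)))) p &&
      Nat.beq (pt7 (enc3 fun i => 2 * trit (co7 p) i)) p &&
      (List.range 8).all fun g =>
        let r := tab.img (g + 1) p
        let v := enc3 (negRefl g (trit (co7 p)))
        !(Nat.beq (co7 r) 0) && (Nat.beq (enc3 (trit (co7 r))) v ||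
          Nat.beq (enc3 fun i => 2 * trit (co7 r) i) v))

theorem cover7_0 : cover7 0 = true := by decide +kernel

theorem cover7_1 : cover7 1 = true := by decide +kernel

theorem cover7_2 : cover7 2 = true := by decide +kernel

theorem sep7_0 : sep7 0 = true := by decide +kernel

theorem sep7_1 : sep7 1 = true := by decide +kernel

theorem sep7_2 : sep7 2 = true := by decide +kernel

theorem sep7_3 : sep7 3 = true := by decide +kernel

theorem roots7_ok : (List.range 8).all (fun g => Nat.beq (q3 (root7 g)) 2) = true := by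
  decide +kernel

theorem levelsO7_ok : levelsOk tab8 [] levelsO7 = true ∧
    (levelsO7.map fun l => l.pts.length).prod = 4585351680 ∧
    levelsO7.all (fun l => Nat.blt l.base 3510 && !(Nat.beq (co7 l.base) 0)) = true := by
  decide +kernel

theorem words7_ok : ([(1, 2), (2, 3), (3, 4), (3, 7), (4, 5), (5, 6), (7, 8)] : List (ℕ × ℕ)).all
      (fun e => sameBase [e.1, e.2, e.1, e.2, e.1, e.2] []) = true ∧
    (List.range 8).all (fun g => sameBase [g + 1, g + 1] []) = true ∧
    sameBase (List.replicate 9 ([1, 2, 3, 4, 5, 6, 7] : List ℕ)).flatten [] = true := by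
  decide +kernel

end CfsgLib.Fi22P
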