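import Cfsg.Agent.Lib.Fi22P.Sub
import Cfsg.Agent.Lib.Fi22P.O7Check
import Cfsg.Agent.Lib.Classical.OmegaOdd
import Cfsg.Agent.Lib.Classical.QuadPOmega
import Cfsg.Agent.S0292

/-!
The printed subgroup of index 14080 is the orthogonal group in dimension seven over three elements.
-/

set_option autoImplicit false
set_option maxRecDepth 100000

namespace CfsgLib.Fi22P

open CfsgLib.PresCert Cfsg.Spor Matrix CfsgLib.Classical

attribute [local irreducible] levels levelsO7

/-- The printed subgroup of index 14080. -/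
abbrev subK : Subgroup Cfsg.Spor.Fi22 := genGrp sO7 fiGen

theorem card_subK : Nat.card subK = 4585351680 := by
  haveI := fi_le.1
  have h := subK.card_mul_index
  rw [index_o7, card_fi.2] at h
  omega

/-- A generator of the subgroup. -/
def kGen (g : ℕ) : subK :=
  if h : g < 8 then ⟨fiGen (g + 1), Subgroup.subset_closure ⟨[g + 1], by
    simp only [sO7, List.mem_cons, List.cons.injEq, and_true, List.not_mem_nil, or_false]
    omega, by rw [act_cons, act_nil, one_mul]⟩⟩
  else 1

theorem kGen_val {g : ℕ} (hg : g < 8) : (kGen g).1 = fiGen (g + 1) := by rw [kGen, dif_pos hg]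

theorem kGen_closure (L : Subgroup subK) (h : ∀ g < 8, kGen g ∈ L) : L = ⊤ := by
  refine eq_top_iff.2 fun x _ => ?_
  suffices hle : subK ≤ L.map subK.subtype by
    obtain ⟨y, hy, e⟩ := hle x.2
    rwa [show x = y from Subtype.ext e.symm]
  refine (Subgroup.closure_le _).2 ?_
  rintro _ ⟨w, hw, rfl⟩
  obtain ⟨g, hg, rfl⟩ : ∃ g, g < 8 ∧ w = [g + 1] := by
    simp only [sO7, List.mem_cons, List.not_mem_nil, or_false] at hw
    rcases hw with rfl | rfl | rfl | rfl | rfl | rfl | rfl | rfl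
    exacts [⟨0, by norm_num, rfl⟩, ⟨1, by norm_num, rfl⟩, ⟨2, by norm_num, rfl⟩,
      ⟨3, by norm_num, rfl⟩, ⟨4, by norm_num, rfl⟩, ⟨5, by norm_num, rfl⟩, ⟨6, by norm_num, rfl⟩,
      ⟨7, by norm_num, rfl⟩]
  refine ⟨kGen g, h g hg, ?_⟩
  show (kGen g).1 = _
  rw [kGen_val hg, act_cons, act_nil, one_mul]

/-- The 351 points. -/
abbrev Pt7 : Type := {p : Fin tab.n // co7 p.val ≠ 0}

/-- The check at a point of the orbit. -/
theorem sep7_spec (p : Pt7) : q3 (trit (co7 p.1.val)) = 2 ∧
    pt7 (enc3 (trit (co7 p.1.val))) = p.1.val ∧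
    pt7 (enc3 fun i => 2 * trit (co7 p.1.val) i) = p.1.val ∧
    ∀ g < 8, co7 (tab.img (g + 1) p.1.val) ≠ 0 ∧
      (enc3 (trit (co7 (tab.img (g + 1) p.1.val))) = enc3 (negRefl g (trit (co7 p.1.val))) ∨
      enc3 (fun i => 2 * trit (co7 (tab.img (g + 1) p.1.val)) i) =
        enc3 (negRefl g (trit (co7 p.1.val)))) := by
  have hlt : p.1.val < 3510 := p.1.isLt
  have hb : sep7 (p.1.val / 1000) = true := by
    obtain h | h | h | h : p.1.val / 1000 = 0 ∨ p.1.val / 1000 = 1 ∨ p.1.val / 1000 = 2 ∨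
      p.1.val / 1000 = 3 := by omega
    all_goals rw [h]
    exacts [sep7_0, sep7_1, sep7_2, sep7_3]
  simp only [sep7, List.all_eq_true, List.mem_range, Bool.or_eq_true, Bool.not_eq_true',
    Bool.and_eq_true, Nat.beq_eq] at hb
  have h' := hb (p.1.val % 1000) (Nat.mod_lt _ (by norm_num))
  rw [Nat.div_add_mod] at h'
  rcases h' with (h | h) | h
  · have : Nat.blt p.1.val 3510 = true := by rw [Nat.blt_eq]; exact hlt
    rw [this] at h
    exact Bool.noConfusion h
  · exact absurd h p.2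
  · exact ⟨h.1.1.1, h.1.1.2, h.1.2, fun g hg => ⟨fun e => by
      have h2 := (h.2 g hg).1
      rw [e] at h2
      exact Bool.noConfusion h2, (h.2 g hg).2⟩⟩

local notation "F3" => ZMod 3

local notation "Q7" => CfsgLib.Classical.qOdd 3 (ZMod 3)

/-- The position of a coordinate. -/
def ix7 : OddI 3 → Fin 7
  | .inl _ => 0
  | .inr (.inl i) => ⟨1 + i.val, by omega⟩
  | .inr (.inr i) => ⟨4 + i.val, by omega⟩

theorem ix7_surj : ∀ i : Fin 7, ∃ x, ix7 x = i := by decide

/-- The vector of a list of trits. -/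
def v7 (f : Fin 7 → ℕ) : OddI 3 → F3 := fun x => (f (ix7 x) : F3)

theorem ix7_vals : ix7 (oZ : OddI 3) = 0 ∧ ix7 (oL (0 : Fin 3)) = 1 ∧ ix7 (oL (1 : Fin 3)) = 2 ∧
    ix7 (oL (2 : Fin 3)) = 3 ∧ ix7 (oR (0 : Fin 3)) = 4 ∧ ix7 (oR (1 : Fin 3)) = 5 ∧
    ix7 (oR (2 : Fin 3)) = 6 :=
  ⟨rfl, rfl, rfl, rfl, rfl, rfl, rfl⟩

theorem v7_q (f : Fin 7 → ℕ) : Q7 (v7 f) = (q3 f : F3) := by
  rw [qOdd_apply, q3, ZMod.natCast_mod, Fin.sum_univ_three]
  push_cast
  obtain ⟨e0, e1, e2, e3, e4, e5, e6⟩ := ix7_vals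
  simp only [v7, e0, e1, e2, e3, e4, e5, e6]
  ring

theorem v7_polar (f e : Fin 7 → ℕ) : QuadraticMap.polar Q7 (v7 f) (v7 e) = (b3 f e : F3) := by
  rw [qOdd_polar, b3, ZMod.natCast_mod, Fin.sum_univ_three]
  push_cast
  obtain ⟨e0, e1, e2, e3, e4, e5, e6⟩ := ix7_vals
  simp only [v7, e0, e1, e2, e3, e4, e5, e6]
  ring

theorem v7_neg (f : Fin 7 → ℕ) : v7 (fun i => 2 * f i) = -v7 f := funext fun x => by
  show ((2 * f (ix7 x) : ℕ) : F3) = -(f (ix7 x) : F3)
  push_cast
  rw [show (2 : F3) = -1 from by decide, neg_one_mul]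

theorem trit_enc3 (f : Fin 7 → ℕ) (i : Fin 7) : trit (enc3 f) i = f i % 3 := by
  have h0 := Nat.mod_lt (f 0) (show 3 > 0 by norm_num)
  have h1 := Nat.mod_lt (f 1) (show 3 > 0 by norm_num)
  have h2 := Nat.mod_lt (f 2) (show 3 > 0 by norm_num)
  have h3 := Nat.mod_lt (f 3) (show 3 > 0 by norm_num)
  have h4 := Nat.mod_lt (f 4) (show 3 > 0 by norm_num)
  have h5 := Nat.mod_lt (f 5) (show 3 > 0 by norm_num)
  have h6 := Nat.mod_lt (f 6) (show 3 > 0 by norm_num)
  fin_cases i <;> simp [trit, enc3] <;> omega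

theorem enc3_lt (f : Fin 7 → ℕ) : enc3 f < 2187 := by
  simp only [enc3]
  omega

theorem v7_mod (f : Fin 7 → ℕ) : v7 (fun i => f i % 3) = v7 f :=
  funext fun x => ZMod.natCast_mod _ 3

theorem v7_eq_of_enc {f e : Fin 7 → ℕ} (h : enc3 f = enc3 e) : v7 f = v7 e := by
  rw [← v7_mod f, ← v7_mod e]
  congr 1
  funext i
  rw [← trit_enc3, ← trit_enc3, h]

theorem enc_eq_of_v7 {f e : Fin 7 → ℕ} (h : v7 f = v7 e) : enc3 f = enc3 e := by
  have key : ∀ i, f i % 3 = e i % 3 := fun i => by
    obtain ⟨x, rfl⟩ := ix7_surj i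
    exact (ZMod.natCast_eq_natCast_iff' _ _ 3).1 (congrFun h x)
  simp only [enc3, key]

/-- The vector of a point. -/
def vec7 (p : Pt7) : OddI 3 → F3 := v7 (trit (co7 p.1.val))

theorem vec7_q (p : Pt7) : Q7 (vec7 p) = 2 := by
  rw [vec7, v7_q, (sep7_spec p).1]
  rfl

theorem vec7_unique {p r : Pt7} (h : vec7 p = vec7 r ∨ vec7 p = -vec7 r) : p = r := by
  refine Subtype.ext (Fin.ext ?_)
  rcases h with h | h
  · rw [← (sep7_spec p).2.1, ← (sep7_spec r).2.1]
    exact congrArg pt7 (enc_eq_of_v7 h)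
  · rw [← (sep7_spec p).2.1, ← (sep7_spec r).2.2.1]
    exact congrArg pt7 (enc_eq_of_v7 (h.trans (v7_neg _).symm))

theorem vec7_cover {v : OddI 3 → F3} (hv : Q7 v = 2) :
    ∃ p : Pt7, v = vec7 p ∨ v = -vec7 p := by
  obtain ⟨f, rfl⟩ : ∃ f : Fin 7 → ℕ, v7 f = v := by
    refine ⟨fun i => (v ((ix7_surj i).choose)).val, funext fun x => ?_⟩
    have hi : Function.Injective ix7 := by decide
    show ((v (ix7_surj (ix7 x)).choose).val : F3) = v x
    rw [ZMod.natCast_zmod_val, hi (ix7_surj (ix7 x)).choose_spec]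
  set c := enc3 f with hc
  have hf : v7 (trit c) = v7 f := by
    rw [hc, ← v7_mod f]
    exact congrArg v7 (funext fun i => trit_enc3 f i)
  have hb : cover7 (c / 1000) = true := by
    have := enc3_lt f
    obtain h | h | h : c / 1000 = 0 ∨ c / 1000 = 1 ∨ c / 1000 = 2 := by omega
    all_goals rw [h]
    exacts [cover7_0, cover7_1, cover7_2]
  simp only [cover7, List.all_eq_true, List.mem_range, Bool.or_eq_true, Bool.not_eq_true',
    Bool.and_eq_true, Bool.and_eq_false_iff, Nat.beq_eq, Nat.blt_eq] at hb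
  have h' := hb (c % 1000) (Nat.mod_lt _ (by norm_num))
  rw [Nat.div_add_mod] at h'
  rcases h' with (h | h) | ⟨⟨h1, h2⟩, h3⟩
  · have : Nat.blt c 2187 = true := by rw [Nat.blt_eq]; exact enc3_lt f
    rw [this] at h
    exact Bool.noConfusion h
  · exfalso
    have e : (q3 (trit c) : F3) = (2 : ℕ) := by
      rw [← v7_q, hf, hv]
      rfl
    rw [ZMod.natCast_eq_natCast_iff', q3, Nat.mod_mod] at e
    rw [show q3 (trit c) = 2 from e] at h
    exact Bool.noConfusion h
  · refine ⟨⟨⟨pt7 c, h1⟩, fun e => ?_⟩, ?_⟩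
    · rw [show co7 (pt7 c) = 0 from e] at h2
      exact Bool.noConfusion h2
    · rcases h3 with h3 | h3
      · exact Or.inl (v7_eq_of_enc (f := f) (hc ▸ h3.symm))
      · exact Or.inr ((v7_eq_of_enc (f := f) (hc ▸ h3.symm)).trans (v7_neg _))

/-- An isometry carries the points as a permutation says. -/
def Maps7 (A : Cfsg.isometryGroup F3 ⇑Q7) (π : Equiv.Perm Pt7) : Prop :=
  ∀ p, isoApply A (vec7 p) = vec7 (π p) ∨ isoApply A (vec7 p) = -vec7 (π p)

theorem Maps7.unique {A : Cfsg.isometryGroup F3 ⇑Q7} {π π' : Equiv.Perm Pt7}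
    (h : Maps7 A π) (h' : Maps7 A π') : π = π' := by
  refine Equiv.ext fun k => vec7_unique ?_
  rcases h k with e | e <;> rcases h' k with e' | e'
  · exact Or.inl (e.symm.trans e')
  · exact Or.inr (e.symm.trans e')
  · exact Or.inr (by rw [← e', e, neg_neg])
  · exact Or.inl (neg_injective (e.symm.trans e'))

theorem isoApply_neg (A : Cfsg.isometryGroup F3 ⇑Q7) (x : OddI 3 → F3) :
    isoApply A (-x) = -isoApply A x := by
  simp only [isoApply, mulVec_neg]

theorem Maps7.mul {A B : Cfsg.isometryGroup F3 ⇑Q7} {π π' : Equiv.Perm Pt7}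
    (h : Maps7 A π) (h' : Maps7 B π') : Maps7 (A * B) (π * π') := fun k => by
  rw [isoApply_mul, Equiv.Perm.mul_apply]
  rcases h' k with e | e <;> rw [e]
  · exact h _
  · rw [isoApply_neg]
    rcases h (π' k) with e' | e' <;> rw [e']
    · exact Or.inr rfl
    · exact Or.inl (neg_neg _)

theorem Maps7.one : Maps7 1 1 := fun k => Or.inl (by rw [isoApply_one]; rfl)

theorem maps7_exists (A : Cfsg.isometryGroup F3 ⇑Q7) : ∃ π, Maps7 A π := by
  have hQ : ∀ x, Q7 (isoApply A x) = Q7 x := fun x => A.2 x x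
  choose f hf using fun k : Pt7 => vec7_cover ((hQ (vec7 k)).trans (vec7_q k))
  have hinv : ∀ x, isoApply A⁻¹ (isoApply A x) = x := fun x => by
    rw [← isoApply_mul, inv_mul_cancel, isoApply_one]
  have hfi : Function.Injective f := fun i j e => by
    refine vec7_unique ?_
    rcases hf i with hi | hi <;> rcases hf j with hj | hj <;> rw [e] at hi
    · exact Or.inl ((hinv _).symm.trans ((congrArg (isoApply A⁻¹) (hi.trans hj.symm)).trans (hinv _)))
    · refine Or.inr ?_
      rw [← hinv (vec7 i), hi, ← neg_neg (vec7 (f j)), ← hj, isoApply_neg, hinv]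
    · refine Or.inr ?_
      rw [← hinv (vec7 i), hi, ← hj, isoApply_neg, hinv]
    · exact Or.inl ((hinv _).symm.trans ((congrArg (isoApply A⁻¹) (hi.trans hj.symm)).trans (hinv _)))
  exact ⟨Equiv.ofBijective f ⟨hfi, Finite.injective_iff_surjective.1 hfi⟩, hf⟩

/-- The action of the isometries on the points. -/
noncomputable def sigma7 : Cfsg.isometryGroup F3 ⇑Q7 →* Equiv.Perm Pt7 where
  toFun A := (maps7_exists A).choose
  map_one' := (maps7_exists 1).choose_spec.unique Maps7.one
  map_mul' A B := (maps7_exists (A * B)).choose_spec.unique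
    ((maps7_exists A).choose_spec.mul (maps7_exists B).choose_spec)

/-- The elements preserving the set of 351 points. -/
def keep7 : Subgroup Cfsg.Spor.Fi22 where
  carrier := {m | ∀ p : Fin tab.n, co7 (phi m p).val = 0 ↔ co7 p.val = 0}
  one_mem' p := by rw [map_one, Equiv.Perm.one_apply]
  mul_mem' {a b} ha hb p := by rw [map_mul, Equiv.Perm.mul_apply, ha, hb]
  inv_mem' {a} ha p := by
    have h := ha (phi a⁻¹ p)
    rw [← Equiv.Perm.mul_apply, ← map_mul, mul_inv_cancel, map_one, Equiv.Perm.one_apply] at h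
    exact h.symm

theorem subK_keep : subK ≤ keep7 := by
  refine (Subgroup.closure_le _).2 ?_
  rintro _ ⟨w, hw, rfl⟩
  obtain ⟨g, hg, rfl⟩ : ∃ g, g < 8 ∧ w = [g + 1] := by
    simp only [sO7, List.mem_cons, List.not_mem_nil, or_false] at hw
    rcases hw with rfl | rfl | rfl | rfl | rfl | rfl | rfl | rfl
    exacts [⟨0, by norm_num, rfl⟩, ⟨1, by norm_num, rfl⟩, ⟨2, by norm_num, rfl⟩,
      ⟨3, by norm_num, rfl⟩, ⟨4, by norm_num, rfl⟩, ⟨5, by norm_num, rfl⟩, ⟨6, by norm_num, rfl⟩,
      ⟨7, by norm_num, rfl⟩]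
  rw [act_cons, act_nil, one_mul]
  have hg9 : g + 1 < tab.ng := by
    show g + 1 < 9
    omega
  have fwd : ∀ p : Fin tab.n, co7 p.val ≠ 0 → co7 (phi (fiGen (g + 1)) p).val ≠ 0 := fun p hp => by
    rw [realised.app _ hg9]
    exact ((sep7_spec ⟨p, hp⟩).2.2.2 g hg).1
  intro p
  refine ⟨fun h => by_contra fun hp => fwd p hp h, fun h => by_contra fun hp => ?_⟩
  have h2 := fwd _ hp
  rw [← Equiv.Perm.mul_apply, ← map_mul, fiGen_sq _ (show g + 1 < 9 by omega), map_one,
    Equiv.Perm.one_apply] at h2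
  exact h2 h

/-- The action of the subgroup on the points. -/
def tau7 : subK →* Equiv.Perm Pt7 where
  toFun m := (phi m.1).subtypePerm fun p => not_congr (subK_keep m.2 p)
  map_one' := by ext p; simp
  map_mul' a b := Equiv.ext fun p => Subtype.ext (by
    show phi (a * b).1 p.1 = phi a.1 (phi b.1 p.1)
    rw [Subgroup.coe_mul, map_mul, Equiv.Perm.mul_apply])

theorem tau7_gen {g : ℕ} (hg : g < 8) : tau7 (kGen g) ∈ sigma7.range := by
  have hq : Q7 (v7 (root7 g)) = 2 := by
    have h := List.all_eq_true.1 roots7_ok g (List.mem_range.2 hg)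
    rw [Nat.beq_eq] at h
    rw [v7_q, h]
    rfl
  have hne : Q7 (v7 (root7 g)) ≠ 0 := by rw [hq]; decide
  refine ⟨negIso Q7 * reflect Q7 (v7 (root7 g)) hne,
    (maps7_exists _).choose_spec.unique fun p => ?_⟩
  have e : isoApply (negIso Q7 * reflect Q7 (v7 (root7 g)) hne) (vec7 p) =
      v7 (negRefl g (trit (co7 p.1.val))) := by
    rw [isoApply_mul, negIso_apply, reflect_apply, hq, vec7, v7_polar]
    funext x
    simp only [Pi.neg_apply, Pi.sub_apply, Pi.smul_apply, smul_eq_mul, v7, negRefl]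
    push_cast
    rw [show ((2 : F3))⁻¹ = 2 from inv_eq_of_mul_eq_one_right (by decide), show (2 : F3) = -1 from by decide]
    ring
  have hg9 : g + 1 < tab.ng := by
    show g + 1 < 9
    omega
  have hr : (tau7 (kGen g) p).1.val = tab.img (g + 1) p.1.val := by
    show ((phi (kGen g).1 p.1 : Fin tab.n) : ℕ) = _
    rw [kGen_val hg, realised.app _ hg9]
  rw [e]
  show _ = v7 (trit (co7 (tau7 (kGen g) p).1.val)) ∨ _ = -v7 (trit (co7 (tau7 (kGen g) p).1.val))
  rw [hr]
  rcases ((sep7_spec p).2.2.2 g hg).2 with h | h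
  · exact Or.inl (v7_eq_of_enc h.symm)
  · exact Or.inr ((v7_eq_of_enc h.symm).trans (v7_neg _))

theorem tau7_injective : Function.Injective tau7 := by
  haveI := fi_le.1
  let φ : subK →* Equiv.Perm (Fin tab8.n) := phi.comp subK.subtype
  have himg : ∀ g < 8, ∀ i, tab8.img g i = tab.img (g + 1) i := by
    intro g hg i
    interval_cases g <;> rfl
  have R : Realised kGen tab8 φ := by
    refine ⟨fun g i hg hi => ?_, fun g hg i => ?_⟩
    · rw [himg g hg]
      exact realised.lt _ _ (show g + 1 < 9 by have : g < 8 := hg; omega) hi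
    · rw [himg g hg]
      show ((phi (kGen g).1 i : Fin tab.n) : ℕ) = _
      rw [kGen_val hg]
      exact realised.app _ (show g + 1 < 9 by have : g < 8 := hg; omega) i
  have hc : Nat.card (fixSub φ []) ≤ (levelsO7.map fun l => l.pts.length).prod := by
    rw [fixSub_nil, Subgroup.card_top, card_subK, levelsO7_ok.2.1]
  have hb := (base_tight R levelsO7_ok.1 hc).2
  refine (MonoidHom.ker_eq_bot_iff _).1 (eq_bot_iff.2 ?_)
  rw [← hb, List.nil_append]
  intro m hm i hi
  obtain ⟨l, hl, e⟩ := List.mem_map.1 hi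
  have h := List.all_eq_true.1 levelsO7_ok.2.2 l hl
  simp only [Bool.and_eq_true, Bool.not_eq_true'] at h
  have hne : co7 i.val ≠ 0 := fun h0 => by
    rw [e, h0] at h
    exact Bool.noConfusion h.2
  exact congrArg Subtype.val (Equiv.congr_fun (MonoidHom.mem_ker.1 hm) ⟨i, hne⟩)

theorem perfect_subK : commutator subK = ⊤ := by
  haveI := fi_le.1
  rw [← Abelianization.ker_of]
  refine kGen_closure _ fun g hg => MonoidHom.mem_ker.2 ?_
  set f : subK →* Abelianization subK := Abelianization.of with hf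
  have heq : ∀ a b : ℕ, sameBase [a + 1, b + 1, a + 1, b + 1, a + 1, b + 1] [] = true → a < 8 →
      b < 8 → f (kGen a) = f (kGen b) := by
    intro a b h ha hb
    have hsq : ∀ c, c < 8 → f (kGen c) * f (kGen c) = 1 := fun c hc => by
      rw [← map_mul, show kGen c * kGen c = 1 from Subtype.ext (by
        rw [Subgroup.coe_mul, kGen_val hc, fiGen_sq _ (by omega)]; rfl), map_one]
    have e : kGen b * kGen a * (kGen b * kGen a) * (kGen b * kGen a) = 1 := Subtype.ext (by
      have h1 := eq_of_base h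
      simp only [act_cons, act_nil, one_mul] at h1
      simp only [Subgroup.coe_mul, kGen_val ha, kGen_val hb, OneMemClass.coe_one, ← mul_assoc]
      exact h1)
    have e2 := congrArg f e
    simp only [map_mul, map_one] at e2
    have e3 : f (kGen b) * f (kGen a) * (f (kGen b) * f (kGen b)) *
        (f (kGen a) * f (kGen a)) = 1 := by
      rw [← e2]
      ac_rfl
    rw [hsq a ha, hsq b hb, mul_one, mul_one] at e3
    rw [eq_inv_of_mul_eq_one_left e3]
    exact eq_inv_of_mul_eq_one_left (hsq a ha)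
  have hw := words7_ok.1
  simp only [List.all_eq_true, List.mem_cons, List.not_mem_nil, or_false] at hw
  have h01 := heq 0 1 (hw (1, 2) (by simp)) (by norm_num) (by norm_num)
  have h12 := heq 1 2 (hw (2, 3) (by simp)) (by norm_num) (by norm_num)
  have h23 := heq 2 3 (hw (3, 4) (by simp)) (by norm_num) (by norm_num)
  have h26 := heq 2 6 (hw (3, 7) (by simp)) (by norm_num) (by norm_num)
  have h34 := heq 3 4 (hw (4, 5) (by simp)) (by norm_num) (by norm_num)
  have h45 := heq 4 5 (hw (5, 6) (by simp)) (by norm_num) (by norm_num)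
  have h67 := heq 6 7 (hw (7, 8) (by simp)) (by norm_num) (by norm_num)
  have hall : ∀ c, c < 8 → f (kGen c) = f (kGen 0) := by
    intro c hc
    interval_cases c
    exacts [rfl, h01.symm, (h01.trans h12).symm, ((h01.trans h12).trans h23).symm,
      (((h01.trans h12).trans h23).trans h34).symm,
      ((((h01.trans h12).trans h23).trans h34).trans h45).symm,
      ((h01.trans h12).trans h26).symm, (((h01.trans h12).trans h26).trans h67).symm]
  have hword : ∀ w : List ℕ, (∀ c ∈ w, c < 8) → ∃ x : subK,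
      x.1 = act fiGen (w.map (· + 1)) ∧ f x = f (kGen 0) ^ w.length := by
    intro w
    induction w with
    | nil => exact fun _ => ⟨1, rfl, by rw [map_one, List.length_nil, pow_zero]⟩
    | cons c w ih =>
      intro hw
      obtain ⟨x, hx, hfx⟩ := ih fun d hd => hw d (List.mem_cons_of_mem _ hd)
      refine ⟨x * kGen c, ?_, ?_⟩
      · rw [Subgroup.coe_mul, hx, kGen_val (hw c List.mem_cons_self), List.map_cons, act_cons]
      · rw [map_mul, hfx, hall c (hw c List.mem_cons_self), List.length_cons, pow_succ]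
  obtain ⟨x, hx, hfx⟩ := hword (List.replicate 9 ([0, 1, 2, 3, 4, 5, 6] : List ℕ)).flatten (by
    decide)
  have e63 := eq_of_base words7_ok.2.2
  rw [show (List.replicate 9 ([1, 2, 3, 4, 5, 6, 7] : List ℕ)).flatten =
    ((List.replicate 9 ([0, 1, 2, 3, 4, 5, 6] : List ℕ)).flatten).map (· + 1) from rfl, ← hx,
    act_nil] at e63
  rw [show x = 1 from Subtype.ext e63, map_one,
    show ((List.replicate 9 ([0, 1, 2, 3, 4, 5, 6] : List ℕ)).flatten).length = 2 * 31 + 1 from rfl,
    pow_succ, pow_mul, pow_two, ← map_mul, show kGen 0 * kGen 0 = 1 from Subtype.ext (by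
      rw [Subgroup.coe_mul, kGen_val (show 0 < 8 by norm_num), fiGen_sq _ (by norm_num)]; rfl),
    map_one, one_pow, one_mul] at hfx
  rw [hall g hg, ← hfx]

theorem subK_iso : Nonempty (subK ≃* Cfsg.POmega F3 (Cfsg.quadFormOdd 3 F3)) := by
  haveI := fi_le.1
  rw [← coe_qOdd]
  have h2 : (2 : F3) ≠ 0 := by decide
  have hz : Subgroup.center (Cfsg.Omega F3 ⇑Q7) = ⊥ := center_Omega_qOdd le_rfl h2
  let e : Cfsg.POmega F3 ⇑Q7 ≃* Cfsg.Omega F3 ⇑Q7 :=
    (QuotientGroup.quotientMulEquivOfEq hz).trans QuotientGroup.quotientBot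
  have hcard : Nat.card (Cfsg.Omega F3 ⇑Q7) = 4585351680 := by
    have h := Cfsg.Agent.S0292.result (F := F3) (q := 3) (ZMod.card 3) (by decide) 3 le_rfl
    rw [← coe_qOdd, Nat.card_congr e.toEquiv] at h
    norm_num [Finset.prod_range_succ] at h
    omega
  let s : Cfsg.Omega F3 ⇑Q7 →* Equiv.Perm Pt7 := sigma7.comp (Cfsg.Omega F3 ⇑Q7).subtype
  have hle : tau7.range ≤ s.range := by
    have h1 : tau7.range ≤ sigma7.range := by
      rw [MonoidHom.range_eq_map, Subgroup.map_le_iff_le_comap]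
      exact (kGen_closure _ fun g hg => Subgroup.mem_comap.2 (tau7_gen hg)).ge
    rw [show s.range = (commutator (Cfsg.isometryGroup F3 ⇑Q7)).map sigma7 by
        rw [MonoidHom.range_comp, Subgroup.range_subtype],
      show tau7.range = (commutator subK).map tau7 by rw [perfect_subK, ← MonoidHom.range_eq_map],
      commutator_def, commutator_def, Subgroup.map_commutator, Subgroup.map_commutator,
      ← MonoidHom.range_eq_map, ← MonoidHom.range_eq_map]
    exact Subgroup.commutator_mono h1 h1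
  haveI : Finite (Cfsg.Omega F3 ⇑Q7) := Nat.finite_of_card_ne_zero (by rw [hcard]; norm_num)
  have hK : Nat.card tau7.range = 4585351680 := by
    rw [← Nat.card_congr (MonoidHom.ofInjective tau7_injective).toEquiv, card_subK]
  have hS : Nat.card s.range ≤ 4585351680 :=
    hcard ▸ Nat.card_le_card_of_surjective _ s.rangeRestrict_surjective
  have heq : tau7.range = s.range := Subgroup.eq_of_le_of_card_ge hle (by omega)
  have hs : Function.Injective s := by
    have hb : Function.Bijective s.rangeRestrict := (Nat.bijective_iff_surjective_and_card _).2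
      ⟨s.rangeRestrict_surjective, by rw [hcard, ← heq, hK]⟩
    exact fun a b h => hb.1 (Subtype.ext h)
  exact ⟨((MonoidHom.ofInjective tau7_injective).trans (MulEquiv.subgroupCongr heq)).trans
    ((MonoidHom.ofInjective hs).symm.trans e.symm)⟩

end CfsgLib.Fi22P
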