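import Cfsg.Agent.Lib.Fi22P.U6

/-!
The 3-transpositions of the presented Fischer group.
-/

set_option autoImplicit false
set_option maxRecDepth 100000

namespace CfsgLib.Fi22P

open CfsgLib.PresCert Cfsg.Spor 

attribute [local irreducible] levels aWord

/-- The first generator. -/
def fA : Cfsg.Spor.Fi22 := act fiGen [0]

theorem fA_sq : fA * fA = 1 := by
  rw [fA, act_cons, act_nil, one_mul]
  exact fiGen_sq 0 (by norm_num)

theorem fA_order : orderOf fA = 2 :=
  orderOf_eq_prime (by rw [pow_two]; exact fA_sq) first_ne_one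

theorem fA_commute {m : Cfsg.Spor.Fi22} (hm : m ∈ subH) : fA * m = m * fA := by
  rw [fA, act_cons, act_nil, one_mul]
  exact first_central hm

/-- A conjugate is the conjugate by a root word, conjugated by the stabiliser. -/
theorem conj_form (m : Cfsg.Spor.Fi22) : ∃ k, k < 3 ∧ ∃ h ∈ subH,
    m * fA * m⁻¹ = h * (act fiGen (rootWord k) * fA * (act fiGen (rootWord k))⁻¹) * h⁻¹ ∧
      (k = 0 → m ∈ subH) := by
  set p := phi m ⟨0, zero_lt⟩ with hp
  set k := forest.lab p.val with hk
  have hk3 : k < 3 := forest_counts.2.1 ▸ (forest_ok.spec p.isLt).2.1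
  obtain ⟨h, hh, e⟩ := forest_ok.reach realised p
  have hr := root_words.1
  simp only [List.all_eq_true, List.mem_range, Bool.and_eq_true, Nat.beq_eq, Nat.blt_eq] at hr
  have e2 : phi (act fiGen (rootWord k)) ⟨0, zero_lt⟩ =
      ⟨forest.roots.getD k 0, (forest_ok.root (forest_ok.spec p.isLt).2.1).1⟩ :=
    Fin.ext (by rw [realised.act_apply (hr k hk3).2]; exact (hr k hk3).1)
  rw [← e2, ← Equiv.Perm.mul_apply, ← map_mul] at e
  have hmem : (h * act fiGen (rootWord k))⁻¹ * m ∈ subH := by
    rw [subH_eq]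
    intro i hi
    have hi0 : i = ⟨0, zero_lt⟩ := Fin.ext (List.mem_singleton.1 hi)
    subst hi0
    rw [map_mul, Equiv.Perm.mul_apply, map_inv, Equiv.Perm.inv_def, Equiv.symm_apply_eq]
    exact e.symm
  have hc := fA_commute hmem
  refine ⟨k, hk3, h, hh, ?_, fun h0 => ?_⟩
  · set n := (h * act fiGen (rootWord k))⁻¹ * m with hn
    have hm : m = h * act fiGen (rootWord k) * n := by rw [hn]; group
    rw [hm]
    calc h * act fiGen (rootWord k) * n * fA * (h * act fiGen (rootWord k) * n)⁻¹
        = h * act fiGen (rootWord k) * (n * fA) * n⁻¹ *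
            (h * act fiGen (rootWord k))⁻¹ := by group
      _ = h * act fiGen (rootWord k) * (fA * n) * n⁻¹ *
            (h * act fiGen (rootWord k))⁻¹ := by rw [hc]
      _ = _ := by group
  · rw [h0, show act fiGen (rootWord 0) = (1 : Cfsg.Spor.Fi22) from rfl, mul_one] at hmem
    have := Subgroup.mul_mem _ hh hmem
    rwa [mul_inv_cancel_left] at this

theorem prod_word {k : ℕ} (hk : k < 3) : act fiGen (prodWord k) =
    fA * (act fiGen (rootWord k) * fA * (act fiGen (rootWord k))⁻¹) := by
  have hr := root_words.1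
  simp only [List.all_eq_true, List.mem_range, Bool.and_eq_true, Nat.blt_eq] at hr
  rw [prodWord, act_append, act_append, act_append, act_reverse fiGen_sq (hr k hk).2]
  simp only [fA, act_cons, act_nil, one_mul, mul_assoc]

theorem prod_pow (m : Cfsg.Spor.Fi22) :
    (fA * (m * fA * m⁻¹)) ^ 2 = 1 ∨ (fA * (m * fA * m⁻¹)) ^ 3 = 1 := by
  obtain ⟨k, hk, h, hh, e, h0⟩ := conj_form m
  have e' : fA * (m * fA * m⁻¹) = h * act fiGen (prodWord k) * h⁻¹ := by
    rw [e, prod_word hk]
    calc fA * (h * (act fiGen (rootWord k) * fA * (act fiGen (rootWord k))⁻¹) * h⁻¹)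
        = (fA * h) * ((act fiGen (rootWord k) * fA * (act fiGen (rootWord k))⁻¹) * h⁻¹) := by
          group
      _ = (h * fA) * ((act fiGen (rootWord k) * fA * (act fiGen (rootWord k))⁻¹) * h⁻¹) := by
          rw [fA_commute hh]
      _ = _ := by group
  rw [e', conj_pow, conj_pow]
  obtain rfl | rfl | rfl : k = 0 ∨ k = 1 ∨ k = 2 := by omega
  · left
    rw [show act fiGen (prodWord 0) = fA * fA from by rw [prod_word hk,
      show act fiGen (rootWord 0) = (1 : Cfsg.Spor.Fi22) from rfl, one_mul, inv_one, mul_one],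
      fA_sq, one_pow, mul_one, mul_inv_cancel]
  · left
    have h2 := eq_of_base root_words.2.1
    rw [act_append, act_nil, ← pow_two] at h2
    rw [h2, mul_one, mul_inv_cancel]
  · right
    have h2 := eq_of_base root_words.2.2.1
    rw [act_append, act_append, act_nil, ← mul_assoc] at h2
    rw [pow_succ, pow_two, h2, mul_one, mul_inv_cancel]

theorem centralizer_fA : Subgroup.centralizer ({fA} : Set Cfsg.Spor.Fi22) = subH := by
  refine le_antisymm (fun m hm => ?_) fun m hm =>
    Subgroup.mem_centralizer_singleton_iff.2 (fA_commute hm).symm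
  obtain ⟨k, hk, h, hh, e, h0⟩ := conj_form m
  rw [Subgroup.mem_centralizer_singleton_iff] at hm
  have e2 : act fiGen (rootWord k) * fA * (act fiGen (rootWord k))⁻¹ = fA := by
    have e3 : m * fA * m⁻¹ = fA := by rw [hm]; group
    rw [e3, eq_mul_inv_iff_mul_eq] at e
    calc _ = h⁻¹ * (h * (act fiGen (rootWord k) * fA * (act fiGen (rootWord k))⁻¹)) := by group
      _ = h⁻¹ * (fA * h) := by rw [← e]
      _ = fA := by rw [fA_commute hh]; group
  have hbad : ∀ j, j = 1 ∨ j = 2 → k ≠ j := by
    rintro j hj rfl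
    have h1 : act fiGen (prodWord k) = act fiGen ([] : List ℕ) := by
      rw [prod_word hk, e2, fA_sq, act_nil]
    have hr := root_words.2.2.2
    have hs : sameBase (prodWord k) [] = true := by
      simp only [sameBase, Bool.and_eq_true, List.all_eq_true, Nat.beq_eq, Nat.blt_eq]
      have hw : ∀ g ∈ prodWord k, g < 9 := by rcases hj with rfl | rfl <;> decide
      refine ⟨⟨fun b hb => ?_, hw⟩, fun g hg => absurd hg List.not_mem_nil⟩
      have hb2 : b < tab.n := by
        have h : baseL.all (fun b => Nat.blt b tab.n) = true := by decide +kernel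
        exact Nat.blt_eq.mp (List.all_eq_true.1 h b hb)
      have := congrArg (fun z => ((phi z ⟨b, hb2⟩ : Fin tab.n) : ℕ)) h1
      simpa [realised.act_apply hw, act_nil, Tab.walk] using this
    rcases hj with rfl | rfl <;> simp [hs] at hr
  exact h0 (by have := hbad 1 (Or.inl rfl); have := hbad 2 (Or.inr rfl); omega)

/-- The 3-transpositions. -/
def transp : Set Cfsg.Spor.Fi22 := conjugatesOf fA

theorem transp_class : Cfsg.IsThreeTranspositionClass transp := by
  haveI := fi_le.1
  refine ⟨⟨fun d hd => ?_, fun d hd e he => ?_⟩, ⟨fA, mem_conjugatesOf_self, rfl⟩, ?_⟩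
  · obtain ⟨c, rfl⟩ := isConj_iff.1 hd
    rw [← MulAut.conj_apply, MulEquiv.orderOf_eq, fA_order]
  · obtain ⟨c, rfl⟩ := isConj_iff.1 hd
    obtain ⟨c', rfl⟩ := isConj_iff.1 he
    have key : c * fA * c⁻¹ * (c' * fA * c'⁻¹) =
        c * (fA * ((c⁻¹ * c') * fA * (c⁻¹ * c')⁻¹)) * c⁻¹ := by group
    rw [key, conj_pow, conj_pow]
    exact (prod_pow (c⁻¹ * c')).imp (fun h => by rw [h]; group) (fun h => by rw [h]; group)
  · haveI := simple
    have hn : (Subgroup.closure transp).Normal := by
      rw [transp]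
      refine ⟨fun n hn g => ?_⟩
      have hmap : (Subgroup.closure (conjugatesOf fA)).map (MulAut.conj g).toMonoidHom ≤
          Subgroup.closure (conjugatesOf fA) := by
        rw [MonoidHom.map_closure, Subgroup.closure_le]
        rintro _ ⟨x, hx, rfl⟩
        refine Subgroup.subset_closure ?_
        exact IsConj.trans hx (isConj_iff.2 ⟨g, rfl⟩)
      exact hmap ⟨n, hn, rfl⟩
    refine (hn.eq_bot_or_eq_top).resolve_left fun h => ?_
    have := Subgroup.subset_closure (k := transp) (show fA ∈ transp from mem_conjugatesOf_self)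
    rw [h, SetLike.mem_coe, Subgroup.mem_bot] at this
    exact first_ne_one this

theorem card_conjugates {G : Type*} [Group G] [Finite G] (x : G) :
    Nat.card (conjugatesOf x) = (Subgroup.centralizer ({x} : Set G)).index := by
  have e : MulAction.orbit (ConjAct G) x = conjugatesOf x := by
    ext y
    rw [ConjAct.mem_orbit_conjAct, isConj_comm]
    rfl
  rw [← e, Nat.card_coe_set_eq, ← MulAction.index_stabilizer,
    ConjAct.stabilizer_eq_centralizer]
  rfl

theorem card_transp : Nat.card transp = 3510 := by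
  haveI := fi_le.1
  rw [transp, card_conjugates, centralizer_fA, index_subH]

theorem transp_centralizer {d : Cfsg.Spor.Fi22} (hd : d ∈ transp) {F : Type*} [Field F]
    [Fintype F] (K : CfsgLib.J3.Fld F) (hF : Fintype.card F = 4) :
    Cfsg.IsNonsplitDoubleCover (Subgroup.centralizer ({d} : Set Cfsg.Spor.Fi22))
      (Cfsg.PSU 6 F 2) := by
  haveI := fi_le.1
  obtain ⟨c, rfl⟩ := isConj_iff.1 hd
  have e : Subgroup.centralizer ({c * fA * c⁻¹} : Set Cfsg.Spor.Fi22) =
      subH.map (MulAut.conj c).toMonoidHom := by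
    ext z
    rw [Subgroup.mem_map_equiv, ← centralizer_fA, Subgroup.mem_centralizer_singleton_iff,
      Subgroup.mem_centralizer_singleton_iff, MulAut.conj_symm_apply]
    constructor
    · intro h
      calc c⁻¹ * z * c * fA = c⁻¹ * (z * (c * fA * c⁻¹)) * c := by group
        _ = c⁻¹ * (c * fA * c⁻¹ * z) * c := by rw [h]
        _ = _ := by group
    · intro h
      calc z * (c * fA * c⁻¹) = c * (c⁻¹ * z * c * fA) * c⁻¹ := by group
        _ = c * (fA * (c⁻¹ * z * c)) * c⁻¹ := by rw [h]
        _ = _ := by group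
  exact double_cover_congr ((MulEquiv.subgroupCongr e).trans
    ((MulAut.conj c).subgroupMap subH).symm) (double_cover K hF)

end CfsgLib.Fi22P
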