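import Cfsg.Agent.Lib.Fi22P.O8Check
import Cfsg.Agent.Lib.Fi22P.ThreeT

/-!
The nine members generating `Ω⁺(8,2):S₃`, read in a group isomorphic to the presented Fischer group.
-/

set_option autoImplicit false
set_option maxRecDepth 100000

namespace CfsgLib.Fi22P.O8

open CfsgLib.PresCert CfsgLib.Fi22P Cfsg.Spor

attribute [local irreducible] levels

variable {G : Type*} [Group G] (e : Cfsg.Spor.Fi22 ≃* G)

/-- A member of the nine. -/
def r (i : ℕ) : G := e (act fiGen (o8Gens.getD i []))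

theorem act_r (p : List ℕ) : act (r e) p = e (act fiGen (w8 p)) := by
  rw [w8, act_expand]
  exact (map_act e.toMonoidHom _ p).symm

theorem act_eq {p q : List ℕ} (h : sameBase (w8 p) (w8 q) = true) : act (r e) p = act (r e) q := by
  rw [act_r, act_r, eq_of_base h]

theorem gens_spec {i : ℕ} (hi : i < 9) :
    o8Gens.getD i [] = (o8Roots.getD i []).reverse ++ 0 :: o8Roots.getD i [] ∧
      ∀ g ∈ o8Roots.getD i [], g < 9 := by
  have h := shape8.2.2.2.2.2.2.2.1
  simp only [List.all_eq_true, List.mem_range, Bool.and_eq_true, decide_eq_true_eq, Nat.blt_eq] at h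
  exact h i hi

theorem gens_lt (i : ℕ) : ∀ g ∈ o8Gens.getD i [], g < 9 := by
  rcases lt_or_ge i 9 with hi | hi
  · obtain ⟨h1, h2⟩ := gens_spec hi
    rw [h1]
    intro g hg
    simp only [List.mem_append, List.mem_reverse, List.mem_cons] at hg
    rcases hg with hg | rfl | hg
    exacts [h2 g hg, by norm_num, h2 g hg]
  · rw [List.getD_eq_default _ _ (shape8.1.symm ▸ hi)]
    exact fun g hg => absurd hg List.not_mem_nil

theorem w8_lt (p : List ℕ) : ∀ g ∈ w8 p, g < 9 := by
  intro g hg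
  rw [w8, PresCert.expand, List.mem_flatMap] at hg
  obtain ⟨a, -, hga⟩ := hg
  exact gens_lt a g hga

theorem act_ne {p q : List ℕ} (h : sameBase (w8 p) (w8 q) = false) : act (r e) p ≠ act (r e) q := by
  intro hpq
  rw [act_r, act_r] at hpq
  have h1 := e.injective hpq
  have hs : sameBase (w8 p) (w8 q) = true := by
    simp only [sameBase, Bool.and_eq_true, List.all_eq_true, Nat.beq_eq, Nat.blt_eq]
    refine ⟨⟨fun b hb => ?_, w8_lt p⟩, w8_lt q⟩
    have hb2 : b < tab.n := by
      have h : baseL.all (fun b => Nat.blt b tab.n) = true := by decide +kernel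
      exact Nat.blt_eq.mp (List.all_eq_true.1 h b hb)
    have := congrArg (fun z => ((phi z ⟨b, hb2⟩ : Fin tab.n) : ℕ)) h1
    simpa [realised.act_apply (w8_lt p), realised.act_apply (w8_lt q)] using this
  rw [hs] at h
  exact Bool.noConfusion h

theorem r_sq (i : ℕ) : r e i * r e i = 1 := by
  rw [r, ← map_mul]
  rcases lt_or_ge i 9 with hi | hi
  · obtain ⟨h1, h2⟩ := gens_spec hi
    rw [h1, act_append, act_cons, act_reverse fiGen_sq h2, ← map_one e]
    refine congrArg e ?_
    have := fiGen_sq 0 (by norm_num)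
    calc act fiGen (o8Roots.getD i []) * fiGen 0 * (act fiGen (o8Roots.getD i []))⁻¹ *
          (act fiGen (o8Roots.getD i []) * fiGen 0 * (act fiGen (o8Roots.getD i []))⁻¹)
        = act fiGen (o8Roots.getD i []) * (fiGen 0 * fiGen 0) * (act fiGen (o8Roots.getD i []))⁻¹ := by
          group
      _ = 1 := by rw [this]; group
  · rw [List.getD_eq_default _ _ (shape8.1.symm ▸ hi), act_nil, one_mul, map_one]

theorem r_inv (i : ℕ) : (r e i)⁻¹ = r e i := inv_eq_of_mul_eq_one_right (r_sq e i)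

theorem act_rev (p : List ℕ) : act (r e) p.reverse = (act (r e) p)⁻¹ := by
  induction p with
  | nil => rw [List.reverse_nil, act_nil, inv_one]
  | cons g p ih => rw [List.reverse_cons, act_append, act_cons, act_cons, act_nil, one_mul, ih,
      mul_inv_rev, r_inv]

theorem act_rep (n : ℕ) (p : List ℕ) : act (r e) (rep8 n p) = act (r e) p ^ n := by
  induction n with
  | zero => rw [pow_zero]; rfl
  | succ n ih =>
    rw [show rep8 (n + 1) p = p ++ rep8 n p from by simp [rep8, List.replicate_succ], act_append, ih,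
      pow_succ]

theorem act_conj (w p : List ℕ) :
    act (r e) (w.reverse ++ p ++ w) = act (r e) w * act (r e) p * (act (r e) w)⁻¹ := by
  rw [act_append, act_append, act_rev, mul_assoc]

theorem act_mem {S : Subgroup G} {n : ℕ} (h : ∀ a < n, r e a ∈ S) :
    ∀ p : List ℕ, (∀ a ∈ p, a < n) → act (r e) p ∈ S
  | [], _ => S.one_mem
  | a :: p, hp => by
    rw [act_cons]
    exact S.mul_mem (act_mem h p fun b hb => hp b (List.mem_cons_of_mem _ hb))
      (h a (hp a List.mem_cons_self))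

/-- The action on the 3510 points. -/
def psi : G →* Equiv.Perm (Fin tab.n) := phi.comp e.symm.toMonoidHom

theorem psi_act (w : List ℕ) : psi e (e (act fiGen w)) = phi (act fiGen w) := by
  show phi (e.symm (e (act fiGen w))) = _
  rw [MulEquiv.symm_apply_apply]

/-- A member sitting at a point. -/
def IsMem (d : G) (p : ℕ) : Prop :=
  ∃ c : Cfsg.Spor.Fi22, d = e (c * fA * c⁻¹) ∧ ((phi c ⟨0, zero_lt⟩ : Fin tab.n) : ℕ) = p

theorem IsMem.mem {d : G} {p : ℕ} (h : IsMem e d p) : d ∈ e '' transp := by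
  obtain ⟨c, rfl, -⟩ := h
  exact ⟨_, isConj_iff.2 ⟨c, rfl⟩, rfl⟩

theorem subH_iff (m : Cfsg.Spor.Fi22) : m ∈ subH ↔ phi m ⟨0, zero_lt⟩ = ⟨0, zero_lt⟩ := by
  rw [subH_eq]
  constructor
  · exact fun h => h _ (List.mem_singleton.2 rfl)
  · intro h i hi
    obtain rfl : i = ⟨0, zero_lt⟩ := Fin.ext (List.mem_singleton.1 hi)
    exact h

theorem conj_eq_iff (c c' : Cfsg.Spor.Fi22) :
    c * fA * c⁻¹ = c' * fA * c'⁻¹ ↔ phi c ⟨0, zero_lt⟩ = phi c' ⟨0, zero_lt⟩ := by
  have key : phi c ⟨0, zero_lt⟩ = phi c' ⟨0, zero_lt⟩ ↔ c'⁻¹ * c ∈ subH := by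
    rw [subH_iff, map_mul, Equiv.Perm.mul_apply, map_inv, Equiv.Perm.inv_def, Equiv.symm_apply_eq]
  rw [key]
  constructor
  · intro h
    rw [← centralizer_fA, Subgroup.mem_centralizer_singleton_iff]
    calc c'⁻¹ * c * fA = c'⁻¹ * (c * fA * c⁻¹) * c := by group
      _ = fA * (c'⁻¹ * c) := by rw [h]; group
  · intro h
    have := fA_commute h
    calc c * fA * c⁻¹ = c' * ((c'⁻¹ * c) * fA) * (c'⁻¹ * c)⁻¹ * c'⁻¹ := by group
      _ = c' * (fA * (c'⁻¹ * c)) * (c'⁻¹ * c)⁻¹ * c'⁻¹ := by rw [this]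
      _ = _ := by group

theorem IsMem.unique {d d' : G} {p : ℕ} (h : IsMem e d p) (h' : IsMem e d' p) : d = d' := by
  obtain ⟨c, rfl, hc⟩ := h
  obtain ⟨c', rfl, hc'⟩ := h'
  rw [(conj_eq_iff c c').2 (Fin.ext (hc.trans hc'.symm))]

theorem IsMem.point {d : G} {p p' : ℕ} (h : IsMem e d p) (h' : IsMem e d p') : p = p' := by
  obtain ⟨c, rfl, hc⟩ := h
  obtain ⟨c', hd, hc'⟩ := h'
  rw [← hc, ← hc', (conj_eq_iff c c').1 (e.injective hd)]

theorem IsMem.conj {d g : G} {p : Fin tab.n} (h : IsMem e d p.val) :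
    IsMem e (g * d * g⁻¹) (psi e g p).val := by
  obtain ⟨c, rfl, hc⟩ := h
  refine ⟨e.symm g * c, ?_, ?_⟩
  · simp only [map_mul, map_inv, MulEquiv.apply_symm_apply]
    group
  · rw [map_mul, Equiv.Perm.mul_apply, show phi c ⟨0, zero_lt⟩ = p from Fin.ext hc]
    rfl

theorem pt8_lt (k : ℕ) : pt8 k < tab.n := by
  have h := shape8.2.2.2.2.2.2.2.2.2
  simp only [List.all_eq_true, Nat.blt_eq] at h
  rw [tab_n, pt8]
  rcases lt_or_ge k o8Pts.length with hk | hk
  · rw [List.getD_eq_getElem _ _ hk]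
    exact h _ (List.getElem_mem hk)
  · rw [List.getD_eq_default _ _ hk]
    norm_num

/-- A point of the orbit. -/
def P8 (k : ℕ) : Fin tab.n := ⟨pt8 k, pt8_lt k⟩

/-- The member at a point of the orbit. -/
def M8 (k : ℕ) : G := act (r e) (mw8 k)

theorem r_isMem_root {i : ℕ} (hi : i < 9) :
    IsMem e (r e i) (tab.walk 0 (o8Roots.getD i [])) := by
  obtain ⟨h1, h2⟩ := gens_spec hi
  refine ⟨act fiGen (o8Roots.getD i []), ?_, ?_⟩
  · rw [r, h1, act_append, act_cons, act_reverse fiGen_sq h2]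
    simp only [fA, act_cons, act_nil, one_mul]
  · exact realised.act_apply h2 _

theorem r_mem {i : ℕ} (hi : i < 9) : r e i ∈ e '' transp := (r_isMem_root e hi).mem

theorem r_isMem {i : ℕ} (hi : i < 8) : IsMem e (r e i) (pt8 i) := by
  have h := shape8.2.2.2.2.2.2.2.2.1
  simp only [List.all_eq_true, List.mem_range, Nat.beq_eq] at h
  rw [← h i hi]
  exact r_isMem_root e (by omega)

theorem psi_r {g : ℕ} (p : Fin tab.n) :
    (psi e (r e g) p).val = tab.walk p.val (o8Gens.getD g []) := by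
  rw [r, psi_act]
  exact realised.act_apply (gens_lt g) p

theorem img8_spec {g k : ℕ} (hg : g < 8) (hk : k < 120) : img8 g k < 120 ∧
    psi e (r e g) (P8 k) = P8 (img8 g k) ∧ ∀ i < 8, bit8 (code8 (img8 g k)) i =
      (bit8 (code8 k) i + b2 (code8 k) (code8 g) * bit8 (code8 g) i) % 2 := by
  have h := img8_ok
  simp only [List.all_eq_true, List.mem_range, Bool.and_eq_true, Nat.beq_eq, Nat.blt_eq] at h
  obtain ⟨⟨h1, h2⟩, h3⟩ := h g hg k hk
  exact ⟨h1, Fin.ext ((psi_r e (P8 k)).trans h2), h3⟩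

theorem par8_spec {k : ℕ} (h8 : 8 ≤ k) (hk : k < 120) :
    ((o8Par.getD (k - 8) (0, 0)).1 < k ∧ (o8Par.getD (k - 8) (0, 0)).2 < 8) ∧
      img8 (o8Par.getD (k - 8) (0, 0)).2 (o8Par.getD (k - 8) (0, 0)).1 = k := by
  have h := par8_ok
  simp only [List.all_eq_true, List.mem_range, Bool.and_eq_true, Nat.beq_eq, Nat.blt_eq] at h
  have h' := h (k - 8) (by omega)
  rw [Nat.sub_add_cancel h8] at h'
  exact h'

theorem M8_root {k : ℕ} (hk : k < 8) : M8 e k = r e k := by
  rw [M8, mw8, path8]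
  simp [hk, act_cons, act_nil]

theorem path8_spec : ∀ fu k : ℕ, k < 120 → k ≤ fu + 7 →
    (path8 fu k).2 < 8 ∧ (∀ a ∈ (path8 fu k).1, a < 8) ∧
      IsMem e (act (r e) ((path8 fu k).1.reverse ++ (path8 fu k).2 :: (path8 fu k).1)) (pt8 k) := by
  intro fu
  induction fu with
  | zero =>
    intro k _ hk
    rw [path8]
    refine ⟨by omega, fun a ha => absurd ha List.not_mem_nil, ?_⟩
    simpa [act_cons, act_nil] using r_isMem e (show k < 8 by omega)
  | succ fu ih =>
    intro k hk hk'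
    rw [path8]
    split_ifs with h8
    · refine ⟨h8, fun a ha => absurd ha List.not_mem_nil, ?_⟩
      simpa [act_cons, act_nil] using r_isMem e h8
    · obtain ⟨⟨hp, hg⟩, himg⟩ := par8_spec (not_lt.1 h8) hk
      set p := o8Par.getD (k - 8) (0, 0)
      obtain ⟨h1, h2, h3⟩ := ih p.1 (by omega) (by omega)
      refine ⟨h1, fun a ha => ?_, ?_⟩
      · rcases List.mem_append.1 ha with ha | ha
        · exact h2 a ha
        · rw [List.mem_singleton.1 ha]; exact hg
      · have h4 := IsMem.conj e (g := r e p.2) (p := P8 p.1) h3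
        rw [(img8_spec e hg (by omega)).2.1, himg] at h4
        refine cast (congrArg (fun z => IsMem e z (pt8 k)) ?_) h4
        simp only [List.reverse_append, List.reverse_cons, List.reverse_nil, List.nil_append,
          List.cons_append, act_cons, act_append, act_nil, one_mul, r_inv]
        group

theorem M8_isMem {k : ℕ} (hk : k < 120) : IsMem e (M8 e k) (pt8 k) :=
  (path8_spec e 121 k hk (by omega)).2.2

theorem mw8_lt {k : ℕ} (hk : k < 120) : ∀ a ∈ mw8 k, a < 8 := by
  obtain ⟨h1, h2, -⟩ := path8_spec (MulEquiv.refl Cfsg.Spor.Fi22) 121 k hk (by omega)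
  intro a ha
  rw [mw8] at ha
  simp only [List.mem_append, List.mem_reverse, List.mem_cons] at ha
  rcases ha with ha | rfl | ha
  exacts [h2 a ha, h1, h2 a ha]

/-- Conjugating a member by one of the eight. -/
theorem M8_conj {g k : ℕ} (hg : g < 8) (hk : k < 120) :
    r e g * M8 e k * (r e g)⁻¹ = M8 e (img8 g k) := by
  have h := IsMem.conj e (g := r e g) (p := P8 k) (M8_isMem e hk)
  rw [(img8_spec e hg hk).2.1] at h
  exact IsMem.unique e h (M8_isMem e (img8_spec e hg hk).1)

end CfsgLib.Fi22P.O8
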