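import Cfsg.Agent.Lib.Fi22P.O8Data
import Cfsg.Agent.Lib.PresCert.Chain
import Cfsg.Agent.Lib.Fi22P.PermCheck

/-!
Kernel checks for the subgroup `Ω⁺(8,2):S₃` of the presented Fischer group.
-/

set_option autoImplicit false
set_option maxRecDepth 100000

namespace CfsgLib.Fi22P

open CfsgLib.PresCert Cfsg.Spor

/-- A word in the nine members, in letters. -/
def w8 (p : List ℕ) : List ℕ := PresCert.expand o8Gens p

/-- A point of the orbit. -/
def pt8 (k : ℕ) : ℕ := o8Pts.getD k 0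

/-- The code of a point. -/
def code8 (k : ℕ) : ℕ := o8Codes.getD k 0

/-- The image of a point under a member. -/
def img8 (g k : ℕ) : ℕ := (o8Img.getD g []).getD k 0

/-- A bit. -/
def bit8 (c i : ℕ) : ℕ := c / 2 ^ i % 2

/-- The form on codes. -/
def q2 (c : ℕ) : ℕ :=
  (bit8 c 0 * bit8 c 4 + bit8 c 1 * bit8 c 5 + bit8 c 2 * bit8 c 6 + bit8 c 3 * bit8 c 7) % 2

/-- The polar form on codes. -/
def b2 (c e : ℕ) : ℕ :=
  (bit8 c 0 * bit8 e 4 + bit8 c 1 * bit8 e 5 + bit8 c 2 * bit8 e 6 + bit8 c 3 * bit8 e 7 +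
    (bit8 c 4 * bit8 e 0 + bit8 c 5 * bit8 e 1 + bit8 c 6 * bit8 e 2 + bit8 c 7 * bit8 e 3)) % 2

/-- The path from a root to a point. -/
def path8 : ℕ → ℕ → List ℕ × ℕ
  | 0, k => ([], k)
  | fu + 1, k =>
    if k < 8 then ([], k) else
      let p := o8Par.getD (k - 8) (0, 0)
      ((path8 fu p.1).1 ++ [p.2], (path8 fu p.1).2)

/-- The word of the member at a point. -/
def mw8 (k : ℕ) : List ℕ :=
  (path8 121 k).1.reverse ++ (path8 121 k).2 :: (path8 121 k).1

/-- A word repeated. -/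
def rep8 (n : ℕ) (p : List ℕ) : List ℕ := (List.replicate n p).flatten

theorem shape8 : o8Gens.length = 9 ∧ o8Roots.length = 9 ∧ o8Pts.length = 120 ∧ o8Y.length = 7 ∧
    o8K.length = 4 ∧ o8Conj.length = 5 ∧ o8Pts.Nodup ∧
    (List.range 9).all (fun i => decide (o8Gens.getD i [] =
      (o8Roots.getD i []).reverse ++ 0 :: o8Roots.getD i []) &&
        (o8Roots.getD i []).all fun g => Nat.blt g 9) = true ∧
    (List.range 8).all (fun i => Nat.beq (tab.walk 0 (o8Roots.getD i [])) (pt8 i)) = true ∧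
    o8Pts.all (fun p => Nat.blt p 3510) = true := by
  decide +kernel

theorem img8_ok : (List.range 8).all (fun g => (List.range 120).all fun k =>
    Nat.blt (img8 g k) 120 && Nat.beq (tab.walk (pt8 k) (o8Gens.getD g [])) (pt8 (img8 g k)) &&
      (List.range 8).all fun i => Nat.beq (bit8 (code8 (img8 g k)) i)
        ((bit8 (code8 k) i + b2 (code8 k) (code8 g) * bit8 (code8 g) i) % 2)) = true := by
  decide +kernel

theorem cover8_ok : (List.range 256).all (fun c => !(Nat.beq (q2 c) 1) ||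
      Nat.blt (o8Idx.getD c 0) 120 && Nat.beq (code8 (o8Idx.getD c 0)) c) = true ∧
    (List.range 120).all (fun k => Nat.beq (q2 (code8 k)) 1 && Nat.blt (code8 k) 256 &&
      Nat.beq (o8Idx.getD (code8 k) 0) k) = true := by
  decide +kernel

theorem par8_ok : (List.range 112).all (fun k =>
    let p := o8Par.getD k (0, 0)
    Nat.blt p.1 (k + 8) && Nat.blt p.2 8 && Nat.beq (img8 p.2 p.1) (k + 8)) = true := by
  decide +kernel

theorem braid8_ok : ([(0, 1), (1, 2), (2, 3), (3, 4), (4, 5), (5, 6), (4, 7)] : List (ℕ × ℕ)).all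
    (fun e => sameBase (w8 [e.1, e.2, e.1]) (w8 [e.2, e.1, e.2])) = true := by
  decide +kernel

theorem y8_ok : (List.range 7).all (fun i => sameBase (w8 [8, i + 1, 0, 8]) (w8 (o8Y.getD i [])) &&
      (o8Y.getD i []).all (fun g => Nat.blt g 8) && Nat.beq ((o8Y.getD i []).length % 2) 0) = true ∧
    (!(o8Pts.contains (tab.walk (pt8 o8Off) (o8Gens.getD 8 []))) && Nat.blt o8Off 120) = true := by
  decide +kernel

theorem x8_ok : sameBase (w8 (rep8 5 o8X)) [] = true ∧ sameBase (w8 o8X) [] = false ∧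
    sameBase (w8 (rep8 5 o8X1s)) [] = true ∧ sameBase (w8 o8X1s) [] = false ∧
    sameBase (w8 (o8X ++ o8X1s)) (w8 (o8X1s ++ o8X)) = true ∧
    sameBase (w8 o8X1) (w8 o8X1s) = true ∧
    sameBase (w8 (o8X ++ [0, 1])) (w8 ([0, 1] ++ o8X)) = false ∧
    sameBase (w8 (o8F.reverse ++ o8X ++ o8F)) (w8 (o8X ++ o8X)) = true ∧
    o8X1.length % 2 = 0 ∧ o8X1.all (fun g => Nat.blt g 8) = true ∧
    o8X1s.all (fun g => Nat.blt g 9) = true ∧ o8F.all (fun g => Nat.blt g 9) = true := by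
  decide +kernel

theorem k8_ok : o8K.all (fun k => Nat.blt k 120 &&
      sameBase (w8 (o8X ++ mw8 k)) (w8 (mw8 k ++ o8X))) = true ∧
    sameBase (w8 (o8K.map mw8).flatten) (w8 o8X1s) = true ∧
    sameBase (w8 (rep8 3 (mw8 (o8K.getD 0 0) ++ mw8 (o8K.getD 1 0)))) [] = true ∧
    sameBase (w8 (mw8 (o8K.getD 0 0) ++ mw8 (o8K.getD 1 0))) [] = false ∧
    sameBase (w8 (rep8 4 ((o8K.take 3).map mw8).flatten)) [] = true ∧
    sameBase (w8 (rep8 2 ((o8K.take 3).map mw8).flatten)) [] = false := by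
  decide +kernel

theorem conj8_ok : o8Conj.all (fun e => e.1.all (fun g => Nat.blt g 9) &&
      sameBase (w8 (e.1.reverse ++ o8X ++ e.1)) (w8 (rep8 e.2.1.1 o8X ++ rep8 e.2.1.2 o8X1s)) &&
      sameBase (w8 (e.1.reverse ++ o8X1s ++ e.1)) (w8 (rep8 e.2.2.1 o8X ++ rep8 e.2.2.2 o8X1s))) =
      true := by
  decide +kernel

end CfsgLib.Fi22P
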