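import Cfsg.Agent.Lib.Fi22P.OutCheck
import Cfsg.Agent.Lib.Fi22P.Perm
import Cfsg.Agent.Lib.MathieuOut.Abstract

/-!
# The outer automorphisms of the presented Fischer group

An element of order eleven has centraliser of order twenty-two and is normalised by an element of
order five. An automorphism can be normalised on both and on the first generator; a transposition
commuting with the element of order five then has six possible images, and only two outer classes
are left.
-/

set_option autoImplicit false
set_option maxRecDepth 100000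

namespace CfsgLib.Fi22P.Out

open CfsgLib.PresCert

attribute [local irreducible] relData levels levelsU levelsV sixWords centWords imgWords

local notation "G" => Cfsg.Spor.Fi22

/-- The element of order eleven. -/
def uElt : G := act fiGen uWord

/-- The element of order five. -/
def vElt : G := act fiGen vWord

/-- The first generator. -/
def dElt : G := act fiGen [0]

/-- The transpositions commuting with the element of order five. -/
def six (i : ℕ) : G := act fiGen (sixWords.getD i [])

/-- The first point. -/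
def pZero : Fin tab.n := ⟨0, zero_lt⟩

theorem lt_all : ∀ w ∈ [uWord, vWord, [0]] ++ sixWords ++ centWords ++ imgWords ++
    entries.map (fun e => e.2), ∀ g ∈ w, g < tab.ng := wordsLt_spec words_lt

theorem lt_u : ∀ g ∈ uWord, g < tab.ng := lt_all _ (by simp)
theorem lt_v : ∀ g ∈ vWord, g < tab.ng := lt_all _ (by simp)
theorem lt_d : ∀ g ∈ [0], g < tab.ng := lt_all _ (by simp)
theorem lt_nil : ∀ g ∈ ([] : List ℕ), g < tab.ng := fun _ h => absurd h List.not_mem_nil

theorem lt_rev {p : List ℕ} (hp : ∀ g ∈ p, g < tab.ng) : ∀ g ∈ p.reverse, g < tab.ng :=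
  fun g hg => hp g (List.mem_reverse.1 hg)

theorem lt_getD {L : List (List ℕ)} (hL : ∀ w ∈ L, ∀ g ∈ w, g < tab.ng) (i : ℕ) :
    ∀ g ∈ L.getD i [], g < tab.ng := by
  rcases Nat.lt_or_ge i L.length with h | h
  · rw [List.getD_eq_getElem _ _ h]; exact hL _ (List.getElem_mem h)
  · rw [List.getD_eq_default _ _ h]; exact lt_nil

theorem lt_imgs : ∀ w ∈ imgWords, ∀ g ∈ w, g < tab.ng := fun w hw => lt_all w (by simp [hw])
theorem lt_six (i : ℕ) : ∀ g ∈ sixWords.getD i [], g < tab.ng :=
  lt_getD (fun w hw => lt_all w (by simp [hw])) i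

theorem card_levels : Nat.card (fixSub phi [0]) ≤ (levelsU.map fun l => l.pts.length).prod ∧
    Nat.card (fixSub phi [0]) ≤ (levelsV.map fun l => l.pts.length).prod := by
  rw [levels_card.1, levels_card.2.1, card_stab]
  exact ⟨le_rfl, le_rfl⟩

theorem baseV_trivial : fixSub phi ([0] ++ levelsV.map Level.base) = ⊥ := by
  haveI := card_fi.1
  exact (base_tight realised levelsV_ok card_levels.2).2

theorem eq_words {p q : List ℕ} (hp : ∀ g ∈ p, g < tab.ng) (hq : ∀ g ∈ q, g < tab.ng)
    (h : eqBase tab levelsV p q = true) : act fiGen p = act fiGen q := by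
  haveI := card_fi.1
  exact eq_of_eqBase realised baseV_trivial hp hq h

theorem words_eq {p q : List ℕ} (hp : ∀ g ∈ p, g < tab.ng) (hq : ∀ g ∈ q, g < tab.ng)
    (h : act fiGen p = act fiGen q) : eqBase tab levelsV p q = true := by
  haveI := card_fi.1
  refine eqBase_of_eq realised (fun i hi => ?_) hp hq h
  have hb := levels_card.2.2.2.2.2.2.2.2.2.2
  simp only [List.all_eq_true, Nat.blt_eq] at hb
  exact hb i hi

theorem act_rev {p : List ℕ} (hp : ∀ g ∈ p, g < tab.ng) :
    act fiGen p.reverse = (act fiGen p)⁻¹ :=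
  act_reverse (ng := 9) fiGen_sq hp

theorem d_sq : dElt * dElt = 1 := by
  rw [dElt, act_cons, act_nil, one_mul]
  exact fiGen_sq 0 (by norm_num)

theorem d_ne : dElt ≠ 1 := by
  intro h
  have e := words_eq lt_d lt_nil (by rw [act_nil]; exact h)
  rw [uv_rels.2.2.2.2.2.2] at e
  exact Bool.noConfusion e

theorem u_order : orderOf uElt = 11 := by
  haveI : Fact (Nat.Prime 11) := ⟨by norm_num⟩
  refine orderOf_eq_prime ?_ fun h => ?_
  · rw [uElt, ← act_repWord, eq_words (lt_repWord lt_u 11) lt_nil uv_rels.1, act_nil]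
  · have e := words_eq lt_u lt_nil (by rw [act_nil]; exact h)
    rw [uv_rels.2.2.2.2.2.1] at e
    exact Bool.noConfusion e

theorem v_pow : vElt ^ 5 = 1 := by
  rw [vElt, ← act_repWord, eq_words (lt_repWord lt_v 5) lt_nil uv_rels.2.1, act_nil]

theorem vu : vElt * uElt = uElt ^ 4 * vElt := by
  have h := eq_words (lt_append lt_u lt_v) (lt_append lt_v (lt_repWord lt_u 4)) uv_rels.2.2.1
  rw [act_append, act_append, act_repWord] at h
  exact h

theorem du : uElt * dElt = dElt * uElt := by
  have h := eq_words (lt_append lt_d lt_u) (lt_append lt_u lt_d) uv_rels.2.2.2.1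
  rw [act_append, act_append] at h
  exact h

theorem dv : vElt * dElt = dElt * vElt := by
  have h := eq_words (lt_append lt_d lt_v) (lt_append lt_v lt_d) uv_rels.2.2.2.2.1
  rw [act_append, act_append] at h
  exact h

theorem fix_iff {m : G} : m ∈ fixSub phi [0] ↔ phi m pZero = pZero :=
  ⟨fun h => h pZero (by simp [pZero]), fun h i hi => by
    rwa [show i = pZero from Fin.ext (List.mem_singleton.1 hi)]⟩

theorem fixed_word {w : List ℕ} (hw : ∀ g ∈ w, g < tab.ng) (h : Nat.beq (tab.walk 0 w) 0 = true) :
    phi (act fiGen w) pZero = pZero :=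
  Fin.ext ((realised.act_apply hw pZero).trans (Nat.eq_of_beq_eq_true h))

theorem u_fix_only {i : Fin tab.n} (h : phi uElt i = i) : i = pZero := by
  have hlt : i.val < 3510 := i.isLt
  have hb : uMoves (i.val / 1000) = true := by
    obtain e | e | e | e : i.val / 1000 = 0 ∨ i.val / 1000 = 1 ∨ i.val / 1000 = 2 ∨
      i.val / 1000 = 3 := by omega
    · rw [e]; exact u_moves0
    · rw [e]; exact u_moves1
    · rw [e]; exact u_moves2
    · rw [e]; exact u_moves3
  simp only [uMoves, List.all_eq_true, List.mem_range, Bool.or_eq_true, Bool.not_eq_true'] at hb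
  have h' := hb (i.val % 1000) (Nat.mod_lt _ (by norm_num))
  rw [Nat.div_add_mod] at h'
  rcases h' with (h1 | h1) | h1
  · have : Nat.blt i.val tab.n = true := by rw [Nat.blt_eq]; exact i.isLt
    rw [this] at h1
    exact Bool.noConfusion h1
  · exact Fin.ext (Nat.eq_of_beq_eq_true h1)
  · have e : tab.walk i.val uWord = i.val := by
      rw [← realised.act_apply lt_u i]; exact congrArg Fin.val h
    rw [e] at h1
    simp at h1

theorem v_fix_only {i : Fin tab.n} (h : phi vElt i = i) : ∃ e ∈ entries, i.val = e.1 := by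
  have hlt : i.val < 3510 := i.isLt
  have hb : vFixed (i.val / 1000) = true := by
    obtain e | e | e | e : i.val / 1000 = 0 ∨ i.val / 1000 = 1 ∨ i.val / 1000 = 2 ∨
      i.val / 1000 = 3 := by omega
    · rw [e]; exact v_fixed0
    · rw [e]; exact v_fixed1
    · rw [e]; exact v_fixed2
    · rw [e]; exact v_fixed3
  simp only [vFixed, List.all_eq_true, List.mem_range, Bool.or_eq_true, Bool.not_eq_true',
    List.any_eq_true] at hb
  have h' := hb (i.val % 1000) (Nat.mod_lt _ (by norm_num))
  rw [Nat.div_add_mod] at h'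
  rcases h' with (h1 | h1) | ⟨e, he, h1⟩
  · have : Nat.blt i.val tab.n = true := by rw [Nat.blt_eq]; exact i.isLt
    rw [this] at h1
    exact Bool.noConfusion h1
  · have e : tab.walk i.val vWord = i.val := by
      rw [← realised.act_apply lt_v i]; exact congrArg Fin.val h
    rw [e] at h1
    simp at h1
  · exact ⟨e, he, Nat.eq_of_beq_eq_true h1⟩

/-- The order of the pointwise stabiliser of an initial part of a base. -/
theorem card_suffix : ∀ (k : ℕ) {fixed : List ℕ} {ls : List Level}, k ≤ ls.length →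
    levelsOk tab fixed ls = true →
    Nat.card (fixSub phi fixed) ≤ (ls.map fun l => l.pts.length).prod →
    levelsOk tab (fixed ++ (ls.map Level.base).take k) (ls.drop k) = true ∧
    Nat.card (fixSub phi (fixed ++ (ls.map Level.base).take k)) ≤
      ((ls.drop k).map fun l => l.pts.length).prod
  | 0, fixed, ls, _, hok, hle => by simpa using ⟨hok, hle⟩
  | k + 1, fixed, [], hk, _, _ => by simp at hk
  | k + 1, fixed, l :: ls, hk, hok, hle => by
    haveI := card_fi.1
    have hok' := hok
    simp only [levelsOk, Bool.and_eq_true] at hok'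
    have hb : l.base < tab.n := by
      have h := hok'.1
      simp only [levelOk, Bool.and_eq_true, List.all_eq_true, decide_eq_true_eq, Nat.blt_eq] at h
      obtain ⟨⟨⟨⟨⟨-, hhead⟩, -⟩, -⟩, hl'⟩, -⟩ := h
      exact hl' _ (List.mem_of_mem_head? hhead)
    have h2 := (orbit_exact realised hok hle 1 (Subgroup.one_mem _) l ls rfl ⟨l.base, hb⟩ rfl).2
    have h3 := card_suffix k (by simpa using hk) hok'.2 h2
    rw [List.append_assoc, List.singleton_append] at h3
    simpa using h3

/-- The pointwise stabiliser of the chained part of a base consists of two elements. -/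
theorem small_fix {ls : List Level} (hok : levelsOk tab [0] ls = true)
    (hle : Nat.card (fixSub phi [0]) ≤ (ls.map fun l => l.pts.length).prod) (hlen : ls.length = 6)
    (hpts : (ls.getD 5 ⟨0, [], [], []⟩).pts =
      [(ls.getD 5 ⟨0, [], [], []⟩).base, tab.walk (ls.getD 5 ⟨0, [], [], []⟩).base [0]])
    (hd : (ls.take 5).all (fun l => Nat.beq (tab.walk l.base [0]) l.base) = true)
    {g : G} (hg : g ∈ fixSub phi ([0] ++ (ls.map Level.base).take 5)) : g = 1 ∨ g = dElt := by
  haveI := card_fi.1
  have hdrop : ls.drop 5 = [ls.getD 5 ⟨0, [], [], []⟩] := by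
    rw [List.drop_eq_getElem_cons (show 5 < ls.length by omega),
      List.drop_eq_nil_of_le (show ls.length ≤ 5 + 1 by omega),
      List.getD_eq_getElem _ _ (show 5 < ls.length by omega)]
  have h2 := (card_suffix 5 (by omega) hok hle).2
  rw [hdrop] at h2
  simp only [List.map_cons, List.map_nil, List.prod_cons, List.prod_nil, mul_one] at h2
  rw [hpts] at h2
  have hdmem : dElt ∈ fixSub phi ([0] ++ (ls.map Level.base).take 5) := by
    intro i hi
    refine Fin.ext ?_
    rw [dElt, realised.act_apply lt_d]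
    rcases List.mem_append.1 hi with hi | hi
    · rw [List.mem_singleton.1 hi]
      exact Nat.eq_of_beq_eq_true fix_words.2.2.1
    · rw [← List.map_take] at hi
      obtain ⟨l, hl, e⟩ := List.mem_map.1 hi
      rw [← e]
      exact Nat.eq_of_beq_eq_true (List.all_eq_true.1 hd l hl)
  by_contra hne
  push Not at hne
  set H := fixSub phi ([0] ++ (ls.map Level.base).take 5)
  have h3 : 3 ≤ Nat.card H := by
    have hmem : ∀ i : Fin 3, (![1, dElt, g] : Fin 3 → G) i ∈ H := by
      intro i; fin_cases i
      exacts [H.one_mem, hdmem, hg]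
    let f : Fin 3 → H := fun i => ⟨![1, dElt, g] i, hmem i⟩
    have hf : Function.Injective f := by
      intro a b e
      have e' := congrArg Subtype.val e
      fin_cases a <;> fin_cases b <;>
        first
          | rfl
          | exact absurd e' d_ne
          | exact absurd e' (Ne.symm d_ne)
          | exact absurd e' hne.1
          | exact absurd e' (Ne.symm hne.1)
          | exact absurd e' hne.2
          | exact absurd e' (Ne.symm hne.2)
    simpa using Nat.card_le_card_of_injective f hf
  simp only [List.length_cons, List.length_nil] at h2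
  omega

/-- The rows of the first check. -/
theorem u_rows : ∀ j < (levelsU.getD 0 ⟨0, [], [], []⟩).pts.length,
    prefixRow tab uWord levelsU 5 maskU uYs j = true := by
  rw [u_rows_len]
  intro j hj
  rcases Nat.lt_or_ge j 100 with h0 | h0
  · exact prefixRows_spec tab u_rows0 (by omega) (by omega)
  rcases Nat.lt_or_ge j 200 with h1 | h1
  · exact prefixRows_spec tab u_rows1 (by omega) (by omega)
  rcases Nat.lt_or_ge j 300 with h2 | h2
  · exact prefixRows_spec tab u_rows2 (by omega) (by omega)
  rcases Nat.lt_or_ge j 400 with h3 | h3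
  · exact prefixRows_spec tab u_rows3 (by omega) (by omega)
  rcases Nat.lt_or_ge j 500 with h4 | h4
  · exact prefixRows_spec tab u_rows4 (by omega) (by omega)
  rcases Nat.lt_or_ge j 600 with h5 | h5
  · exact prefixRows_spec tab u_rows5 (by omega) (by omega)
  rcases Nat.lt_or_ge j 700 with h6 | h6
  · exact prefixRows_spec tab u_rows6 (by omega) (by omega)
  omega

/-- The rows of the second check. -/
theorem v_rows : ∀ j < (levelsV.getD 0 ⟨0, [], [], []⟩).pts.length,
    prefixRow tab vWord levelsV 5 maskV vYs j = true := by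
  rw [v_rows_len]
  intro j hj
  rcases Nat.lt_or_ge j 100 with h0 | h0
  · exact prefixRows_spec tab v_rows0 (by omega) (by omega)
  rcases Nat.lt_or_ge j 200 with h1 | h1
  · exact prefixRows_spec tab v_rows1 (by omega) (by omega)
  rcases Nat.lt_or_ge j 300 with h2 | h2
  · exact prefixRows_spec tab v_rows2 (by omega) (by omega)
  rcases Nat.lt_or_ge j 400 with h3 | h3
  · exact prefixRows_spec tab v_rows3 (by omega) (by omega)
  rcases Nat.lt_or_ge j 500 with h4 | h4
  · exact prefixRows_spec tab v_rows4 (by omega) (by omega)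
  rcases Nat.lt_or_ge j 600 with h5 | h5
  · exact prefixRows_spec tab v_rows5 (by omega) (by omega)
  rcases Nat.lt_or_ge j 700 with h6 | h6
  · exact prefixRows_spec tab v_rows6 (by omega) (by omega)
  omega

theorem u_pow_fix {k : ℕ} (hk : ¬ 11 ∣ k) {i : Fin tab.n} (h : phi (uElt ^ k) i = i) :
    i = pZero := by
  haveI := card_fi.1
  have hcop : Nat.Coprime k (orderOf uElt) := by
    rw [u_order]; exact ((Nat.Prime.coprime_iff_not_dvd (by norm_num)).2 hk).symm
  obtain ⟨j, hj⟩ := exists_pow_eq_self_of_coprime hcop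
  refine u_fix_only ?_
  rw [← hj]
  have key : ∀ n : ℕ, phi ((uElt ^ k) ^ n) i = i := by
    intro n
    induction n with
    | zero => rw [pow_zero, map_one]; rfl
    | succ n ih => rw [pow_succ, map_mul, Equiv.Perm.mul_apply, h, ih]
  exact key j

/-- The centraliser of the element of order eleven. -/
theorem u_cent {g : G} (hg : g * uElt = uElt * g) :
    ∃ a : ℕ, g = uElt ^ a ∨ g = uElt ^ a * dElt := by
  haveI := card_fi.1
  have h0 : g ∈ fixSub phi [0] := by
    rw [fix_iff]
    refine u_fix_only ?_
    rw [← Equiv.Perm.mul_apply, ← map_mul, ← hg, map_mul, Equiv.Perm.mul_apply,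
      show phi uElt pZero = pZero from fixed_word lt_u fix_words.1]
  obtain ⟨c, hc, hcm⟩ := prefixList_complete realised fiGen_sq lt_u levelsU_ok card_levels.1
    levels_card.2.2.1 u_sols u_rows h0 hg
  obtain ⟨a, -, rfl⟩ := List.mem_map.1 hc
  refine ⟨a, ?_⟩
  rw [act_repWord] at hcm
  rcases small_fix levelsU_ok card_levels.1 levels_card.2.2.2.2.1 levels_card.2.2.2.2.2.2.1
    levels_card.2.2.2.2.2.2.2.2.1 hcm with h | h
  · exact Or.inl (inv_mul_eq_one.1 h).symm
  · exact Or.inr (inv_mul_eq_iff_eq_mul.1 h)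

/-- An automorphism raising the element of order eleven to a power fixes the first generator. -/
theorem fixes_d {α : MulAut G} {k : ℕ} (hk : ¬ 11 ∣ k) (hu : α uElt = uElt ^ k) :
    α dElt = dElt := by
  haveI := card_fi.1
  have hcomm : α dElt * uElt ^ k = uElt ^ k * α dElt := by
    rw [← hu, ← map_mul, ← map_mul, du]
  have hu' : α dElt * uElt = uElt * α dElt := by
    have hcop : Nat.Coprime k (orderOf uElt) := by
      rw [u_order]; exact ((Nat.Prime.coprime_iff_not_dvd (by norm_num)).2 hk).symm
    obtain ⟨j, hj⟩ := exists_pow_eq_self_of_coprime hcop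
    have := (Commute.pow_right (show Commute (α dElt) (uElt ^ k) from hcomm) j).eq
    rwa [hj] at this
  obtain ⟨a, ha⟩ := u_cent hu'
  have hsq : α dElt * α dElt = 1 := by rw [← map_mul, d_sq, map_one]
  have hda : Commute dElt (uElt ^ a) := Commute.pow_right (show Commute dElt uElt from du.symm) a
  have hua : uElt ^ (2 * a) = 1 := by
    rcases ha with h | h <;> rw [h] at hsq
    · rw [two_mul, pow_add]; exact hsq
    · rw [mul_assoc, ← mul_assoc dElt, hda.eq, mul_assoc, d_sq, mul_one] at hsq
      rw [two_mul, pow_add]; exact hsq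
  have ha0 : uElt ^ a = 1 := by
    rw [← orderOf_dvd_iff_pow_eq_one, u_order] at hua ⊢
    exact (Nat.Coprime.dvd_of_dvd_mul_left (by norm_num) hua)
  rcases ha with h | h <;> rw [ha0] at h
  · exact absurd (α.injective (h.trans (map_one α).symm)) d_ne
  · rwa [one_mul] at h

theorem vpow_u (l k : ℕ) : vElt ^ l * uElt ^ k = uElt ^ (4 ^ l * k) * vElt ^ l := by
  induction l generalizing k with
  | zero => simp
  | succ l ih =>
    have h : vElt * uElt ^ k = uElt ^ (4 * k) * vElt := by
      induction k with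
      | zero => simp
      | succ k ihk =>
        rw [pow_succ, ← mul_assoc, ihk, mul_assoc, vu, ← mul_assoc, ← pow_add, Nat.mul_succ]
    rw [pow_succ vElt l, mul_assoc, h, ← mul_assoc, ih, mul_assoc, pow_succ 4 l, mul_assoc]

theorem normaliser {y : G} (hy : y * uElt = uElt ^ 4 * y) (h5 : y ^ 5 = 1) :
    ∃ a : ℕ, uElt ^ a * y * (uElt ^ a)⁻¹ = vElt := by
  haveI := card_fi.1
  have hc : vElt⁻¹ * y * uElt = uElt * (vElt⁻¹ * y) := by
    rw [mul_assoc, hy, inv_mul_eq_iff_eq_mul, ← mul_assoc, ← mul_assoc, vu,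
      mul_assoc (uElt ^ 4) vElt, mul_inv_cancel, mul_one]
  obtain ⟨j, hj⟩ := u_cent hc
  have hvu := vpow_u 1
  simp only [pow_one] at hvu
  -- a conjugate of the element of order five
  set x := uElt ^ (4 * j) * vElt with hx
  have hxv : vElt * uElt ^ j = x := hvu j
  have hshift : ∃ a : ℕ, uElt ^ a * x * (uElt ^ a)⁻¹ = vElt := by
    refine ⟨5 * j, ?_⟩
    rw [mul_inv_eq_iff_eq_mul, hvu, hx, ← mul_assoc, ← pow_add]
    congr 1
    rw [← pow_mod_orderOf, u_order, ← pow_mod_orderOf (n := 4 * (5 * j)), u_order]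
    congr 1
    omega
  obtain ⟨a, ha⟩ := hshift
  have hx5 : x ^ 5 = 1 := by
    have e : (uElt ^ a * x * (uElt ^ a)⁻¹) ^ 5 = 1 := by rw [ha, v_pow]
    rw [← MulAut.conj_apply, ← map_pow] at e
    exact (MulEquiv.map_eq_one_iff _).1 e
  rcases hj with h | h
  · refine ⟨a, ?_⟩
    rw [inv_mul_eq_iff_eq_mul.1 h, hxv]
    exact ha
  · exfalso
    have hy' : y = x * dElt := by
      rw [← hxv, mul_assoc]
      exact inv_mul_eq_iff_eq_mul.1 h
    have hxd : Commute x dElt :=
      (Commute.pow_left (show Commute uElt dElt from du) (4 * j)).mul_left dv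
    rw [hy', hxd.mul_pow, hx5, one_mul, show 5 = 2 * 2 + 1 from rfl, pow_succ, pow_mul, pow_two,
      pow_two, d_sq, one_mul, one_mul] at h5
    exact d_ne h5

theorem reps_table : ∀ k : Fin 11, k.val ≠ 0 → ∃ l : Fin 5,
    4 ^ l.val * k.val % 11 = 1 ∨ 4 ^ l.val * k.val % 11 = 2 := by decide +kernel

/-- The six transpositions are the possible images of the third element. -/
theorem six_complete {x : G} (hxv : x * vElt = vElt * x) (hsq : x * x = 1)
    (hcube : (dElt * x) ^ 3 = 1) (hne : x ≠ dElt) : ∃ i < 6, x = six i := by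
  haveI := card_fi.1
  have hv0 : phi vElt pZero = pZero := fixed_word lt_v fix_words.2.1
  have hv : phi vElt (phi x pZero) = phi x pZero := by
    rw [← Equiv.Perm.mul_apply, ← map_mul, ← hxv, map_mul, Equiv.Perm.mul_apply, hv0]
  obtain ⟨e, he, hp⟩ := v_fix_only hv
  have hlt_t : ∀ g ∈ e.2, g < tab.ng := lt_all _ (by
    simp only [List.mem_append, List.mem_map]
    exact Or.inr ⟨e, he, rfl⟩)
  obtain ⟨hent, hlen⟩ := entry_words
  simp only [List.all_eq_true, Bool.and_eq_true, Nat.beq_eq] at hent
  obtain ⟨ht, hz⟩ := hent e he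
  set t := act fiGen e.2 with ht'
  have htv : t * vElt = vElt * t := by
    have h := eq_words (lt_append lt_v hlt_t) (lt_append hlt_t lt_v) hz
    rw [act_append, act_append] at h
    exact h
  have hfix : t⁻¹ * x ∈ fixSub phi [0] := by
    rw [fix_iff, map_mul, Equiv.Perm.mul_apply, map_inv, Equiv.Perm.inv_def, Equiv.symm_apply_eq]
    exact Fin.ext (hp.trans (by rw [ht', realised.act_apply hlt_t]; exact ht.symm))
  have hcom : t⁻¹ * x * vElt = vElt * (t⁻¹ * x) := by
    rw [mul_assoc, hxv, inv_mul_eq_iff_eq_mul, ← mul_assoc t vElt, htv, mul_assoc vElt t,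
      mul_inv_cancel_left]
  obtain ⟨c, hc, hcm⟩ := prefixList_complete realised fiGen_sq lt_v levelsV_ok card_levels.2
    levels_card.2.2.2.1 v_sols v_rows hfix hcom
  have hltc : ∀ g ∈ c, g < tab.ng := lt_all _ (by simp [hc])
  obtain ⟨w, hw, hwl⟩ : ∃ ee ∈ [[], [0]], act fiGen ee = (act fiGen c)⁻¹ * (t⁻¹ * x) := by
    rcases small_fix levelsV_ok card_levels.2 levels_card.2.2.2.2.2.1 levels_card.2.2.2.2.2.2.2.1
      levels_card.2.2.2.2.2.2.2.2.2.1 hcm with h | h
    · exact ⟨[], by simp, by rw [h, act_nil]⟩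
    · exact ⟨[0], by simp, by rw [h]; rfl⟩
  have hltw : ∀ g ∈ w, g < tab.ng := by
    rcases List.mem_cons.1 hw with rfl | hw
    · exact lt_nil
    · rw [List.mem_singleton.1 hw]; exact lt_d
  have hlx := lt_append (lt_append hltw hltc) hlt_t
  have hx : act fiGen (w ++ c ++ e.2) = x := by
    rw [act_append, act_append, hwl, mul_inv_cancel_left, ← ht', mul_inv_cancel_left]
  obtain ⟨j, hj, hje⟩ := List.getElem_of_mem he
  have hf : sixFilter j = true := by
    obtain rfl | rfl | rfl | rfl | rfl | rfl | rfl | rfl | rfl | rfl :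
        j = 0 ∨ j = 1 ∨ j = 2 ∨ j = 3 ∨ j = 4 ∨ j = 5 ∨ j = 6 ∨ j = 7 ∨ j = 8 ∨ j = 9 := by omega
    exacts [six_filter0, six_filter1, six_filter2, six_filter3, six_filter4, six_filter5,
      six_filter6, six_filter7, six_filter8, six_filter9]
  simp only [sixFilter, List.all_eq_true] at hf
  have h := hf c hc w hw
  rw [List.getD_eq_getElem _ _ hj, hje] at h
  simp only [Bool.or_eq_true, Bool.not_eq_true', List.any_eq_true] at h
  rcases h with ((h | h) | ⟨s, hs, h⟩) | h
  · rw [words_eq (lt_append hlx hlx) lt_nil (by rw [act_append, hx, act_nil, hsq])] at h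
    exact Bool.noConfusion h
  · rw [words_eq (lt_repWord (lt_append hlx lt_d) 3) lt_nil
      (by rw [act_repWord, act_append, hx, act_nil]; exact hcube)] at h
    exact Bool.noConfusion h
  · obtain ⟨i, hi, hie⟩ := List.getElem_of_mem hs
    refine ⟨i, six_rels.2 ▸ hi, ?_⟩
    rw [six, List.getD_eq_getElem _ _ hi, hie, ← eq_words hlx (lt_all _ (by simp [hs])) h, hx]
  · exact absurd (hx.symm.trans (eq_words hlx lt_d h)) hne

theorem six_spec (i : ℕ) (hi : i < 6) :
    six i * six i = 1 ∧ six i * vElt = vElt * six i ∧ (dElt * six i) ^ 3 = 1 ∧ six i ≠ dElt := by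
  obtain ⟨h, hl⟩ := six_rels
  simp only [List.all_eq_true, Bool.and_eq_true, Bool.not_eq_true'] at h
  have hm : sixWords.getD i [] ∈ sixWords := by
    rw [List.getD_eq_getElem _ _ (hl.symm ▸ hi)]; exact List.getElem_mem _
  obtain ⟨⟨⟨h1, h2⟩, h3⟩, h4⟩ := h _ hm
  have hlt := lt_six i
  refine ⟨?_, ?_, ?_, fun e => ?_⟩
  · have e := eq_words (lt_append hlt hlt) lt_nil h1
    rwa [act_append, act_nil] at e
  · have e := eq_words (lt_append lt_v hlt) (lt_append hlt lt_v) h2
    rwa [act_append, act_append] at e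
  · have e := eq_words (lt_repWord (lt_append hlt lt_d) 3) lt_nil h3
    rwa [act_repWord, act_append, act_nil] at e
  · rw [words_eq hlt lt_d e] at h4
    exact Bool.noConfusion h4

theorem act_uPow (k : ℕ) (hk : k = 1 ∨ k = 2) : act fiGen (uPow k) = uElt ^ k ∧
    ∀ g ∈ uPow k, g < tab.ng := by
  rcases hk with rfl | rfl
  · exact ⟨(pow_one _).symm, lt_u⟩
  · refine ⟨?_, lt_append lt_u lt_u⟩
    show act fiGen (uWord ++ uWord) = uElt ^ 2
    rw [act_append, pow_two]; rfl

theorem lt_four (k : ℕ) (hk : k = 1 ∨ k = 2) (i : ℕ) :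
    ∀ w ∈ four k (sixWords.getD i []), ∀ g ∈ w, g < tab.ng := by
  intro w hw
  simp only [four, List.mem_cons, List.not_mem_nil, or_false] at hw
  have hu := (act_uPow k hk).2
  rcases hw with rfl | rfl | rfl | rfl | rfl | rfl
  exacts [hu, lt_v, lt_six i, lt_d, lt_rev hu, lt_rev lt_v]

theorem act_four (k : ℕ) (hk : k = 1 ∨ k = 2) (i : ℕ) (α : MulAut G) (hu : α uElt = uElt ^ k)
    (hv : α vElt = vElt) (hw : α (six 0) = six i) (p : List ℕ) :
    α (act fiGen (PresCert.expand (four 1 (sixWords.getD 0 [])) p)) =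
      act fiGen (PresCert.expand (four k (sixWords.getD i [])) p) := by
  obtain ⟨hpow, hlu⟩ := act_uPow k hk
  have hd : α dElt = dElt := fixes_d (k := k) (by omega) hu
  rw [act_expand, act_expand]
  refine (map_act α.toMonoidHom _ p).trans (act_congr' fun a _ => ?_)
  show α (act fiGen ((four 1 (sixWords.getD 0 [])).getD a [])) =
    act fiGen ((four k (sixWords.getD i [])).getD a [])
  rcases a with _ | _ | _ | _ | _ | _ | a
  · show α uElt = act fiGen (uPow k)
    rw [hpow]
    exact hu
  · exact hv
  · exact hw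
  · exact hd
  · show α (act fiGen uWord.reverse) = act fiGen (uPow k).reverse
    rw [act_rev lt_u, act_rev hlu, map_inv, hpow]
    exact congrArg _ hu
  · show α (act fiGen vWord.reverse) = act fiGen vWord.reverse
    rw [act_rev lt_v, map_inv]
    exact congrArg _ hv
  · exact map_one α

theorem gen_ok {g : ℕ} (hg : g < 9) : genOk g = true := by
  interval_cases g
  exacts [gen_ok0, gen_ok1, gen_ok2, gen_ok3, gen_ok4, gen_ok5, gen_ok6, gen_ok7, gen_ok8]

/-- Automorphisms agreeing on the four elements are equal. -/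
theorem ext_four {α β : MulAut G} (hu : α uElt = β uElt) (hv : α vElt = β vElt)
    (hd : α dElt = β dElt) (hw : α (six 0) = β (six 0)) : α = β := by
  have hS : ∀ a, act fiGen ((four 1 (sixWords.getD 0 [])).getD a []) ∈
      MonoidHom.eqLocus α.toMonoidHom β.toMonoidHom := by
    intro a
    rcases a with _ | _ | _ | _ | _ | _ | a
    · exact hu
    · exact hv
    · exact hw
    · exact hd
    · show act fiGen uWord.reverse ∈ _
      rw [act_rev lt_u]; exact Subgroup.inv_mem _ hu
    · show act fiGen vWord.reverse ∈ _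
      rw [act_rev lt_v]; exact Subgroup.inv_mem _ hv
    · exact Subgroup.one_mem _
  have htop : MonoidHom.eqLocus α.toMonoidHom β.toMonoidHom = ⊤ := by
    rw [eq_top_iff, ← closure_all, genGrp, Subgroup.closure_le]
    rintro _ ⟨_, hw', rfl⟩
    obtain ⟨g, hg, rfl⟩ := List.mem_map.1 hw'
    have h9 : g < tab.ng := List.mem_range.1 hg
    rw [← eq_words (lt_expand (lt_four 1 (Or.inl rfl) 0) _)
      (fun a ha => by rw [List.mem_singleton.1 ha]; exact h9) (gen_ok (List.mem_range.1 hg)),
      act_expand]
    exact act_mem_of hS _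
  refine MulEquiv.ext fun x => ?_
  have : x ∈ MonoidHom.eqLocus α.toMonoidHom β.toMonoidHom := by rw [htop]; trivial
  exact this

theorem card_11 : ¬ 11 ^ 2 ∣ Nat.card G := by
  rw [card_fi.2]; norm_num

/-- A normalised automorphism is one of four. -/
theorem normalised (z : Cfsg.Out G) : ∃ δ : MulAut G, QuotientGroup.mk δ = z ∧ δ vElt = vElt ∧
    ∃ k i : ℕ, ((k, i) = (1, 0) ∨ (k, i) = (1, 1) ∨ (k, i) = (2, 2) ∨ (k, i) = (2, 3)) ∧
      δ uElt = uElt ^ k ∧ δ (six 0) = six i := by
  haveI := card_fi.1
  haveI : Fact (Nat.Prime 11) := ⟨by norm_num⟩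
  obtain ⟨α, rfl⟩ := QuotientGroup.mk_surjective z
  have step : ∀ (β : MulAut G) (g : G),
      (QuotientGroup.mk (MulAut.conj g * β) : Cfsg.Out G) = QuotientGroup.mk β := fun β g => by
    rw [QuotientGroup.mk_mul, (QuotientGroup.eq_one_iff (N := Cfsg.Inn G) (MulAut.conj g)).2
      (MonoidHom.mem_range.2 ⟨g, rfl⟩), one_mul]
  obtain ⟨g, k, hk, hg⟩ := MathieuOut.exists_conj_zpowers card_11 u_order
    (show orderOf (α uElt) = 11 by rw [MulEquiv.orderOf_eq, u_order])
  set β := MulAut.conj g * α with hβ
  have hβu : β uElt = uElt ^ k := hg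
  have hr : β vElt * uElt = uElt ^ 4 * β vElt := by
    have hcop : Nat.Coprime k (orderOf uElt) := by
      rw [u_order]; exact ((Nat.Prime.coprime_iff_not_dvd (by norm_num)).2 hk).symm
    obtain ⟨j, hj⟩ := exists_pow_eq_self_of_coprime hcop
    rw [← hj, ← hβu, ← map_pow, ← map_mul, ← map_pow, ← map_mul]
    congr 1
    have h := vpow_u 1 j
    simp only [pow_one] at h
    rw [h, ← pow_mul, mul_comm 4 j]
  obtain ⟨a, ha⟩ := normaliser hr (by rw [← map_pow, v_pow, map_one])
  set γ := MulAut.conj (uElt ^ a) * β with hγ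
  have hγv : γ vElt = vElt := ha
  have hγu : γ uElt = uElt ^ k := by
    show uElt ^ a * β uElt * (uElt ^ a)⁻¹ = uElt ^ k
    rw [hβu, ← pow_add, Nat.add_comm, pow_add, mul_inv_cancel_right]
  obtain ⟨l, hl⟩ := reps_table ⟨k % 11, Nat.mod_lt _ (by norm_num)⟩
    (fun h => hk (Nat.dvd_of_mod_eq_zero h))
  set k' := 4 ^ l.val * (k % 11) % 11 with hk'
  have hk12 : k' = 1 ∨ k' = 2 := hl
  set δ := MulAut.conj (vElt ^ l.val) * γ with hδ
  have hδv : δ vElt = vElt := by
    show vElt ^ l.val * γ vElt * (vElt ^ l.val)⁻¹ = vElt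
    rw [hγv, ← pow_succ, pow_succ', mul_inv_cancel_right]
  have hδu : δ uElt = uElt ^ k' := by
    show vElt ^ l.val * γ uElt * (vElt ^ l.val)⁻¹ = uElt ^ k'
    rw [hγu, vpow_u, mul_inv_cancel_right, ← pow_mod_orderOf, u_order, hk', Nat.mul_mod_mod]
  have hδd : δ dElt = dElt := fixes_d (k := k') (by omega) hδu
  obtain ⟨s1, s2, s3, s4⟩ := six_spec 0 (by norm_num)
  obtain ⟨i, hi, hδw⟩ := six_complete (x := δ (six 0))
    (by rw [← hδv, ← map_mul, ← map_mul, s2])
    (by rw [← map_mul, s1, map_one])
    (by rw [← hδd, ← map_mul, ← map_pow, s3, map_one])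
    (fun e => s4 (δ.injective (e.trans hδd.symm)))
  refine ⟨δ, by rw [hδ, step, hγ, step, hβ, step], hδv, k', i, ?_, hδu, hδw⟩
  have hc := bad_cover
  simp only [List.all_eq_true, Bool.or_eq_true, decide_eq_true_eq, List.any_eq_true,
    List.mem_range] at hc
  rcases hc k' (by simpa using hk12) i hi with h | ⟨⟨c1, b, q⟩, hmem, hci⟩
  · exact h
  exfalso
  obtain rfl : c1 = (k', i) := hci
  have hb := bad_ok
  simp only [List.all_eq_true, Bool.and_eq_true, Bool.not_eq_true', Nat.blt_eq] at hb
  obtain ⟨⟨hbl, hq⟩, hmove⟩ := hb _ hmem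
  set p := (badWords.getD b ([], 0)).1
  set n := (badWords.getD b ([], 0)).2
  have htriv := bad_trivial
  simp only [List.all_eq_true] at htriv
  have h1 := eq_words (lt_repWord (lt_expand (lt_four 1 (Or.inl rfl) 0) p) n) lt_nil
    (htriv _ (by rw [List.getD_eq_getElem _ _ hbl]; exact List.getElem_mem hbl))
  rw [act_nil, act_repWord] at h1
  have h2 := congrArg δ h1
  rw [map_pow, map_one, act_four k' hk12 i δ hδu hδv hδw, ← act_repWord] at h2
  have h3 := realised.act_apply (φ := phi)
    (lt_repWord (lt_expand (lt_four k' hk12 i) p) n) ⟨q, hq⟩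
  rw [h2, map_one] at h3
  dsimp only [Equiv.Perm.one_apply] at h3
  have hne := hmove
  rw [← h3] at hne
  simp at hne

/-! ## The outer automorphism -/

/-- The images of the generators. -/
def imgGen (g : ℕ) : G := act fiGen (imgWords.getD g [])

theorem img_rel {r : List ℕ} (hr : r ∈ relData) : act imgGen r = 1 := by
  have key : ∀ lo len, imgRels lo len = true → r ∈ (relData.drop lo).take len →
      act imgGen r = 1 := by
    intro lo len h hm
    simp only [imgRels, List.all_eq_true] at h
    have e := eq_words (lt_expand lt_imgs r) lt_nil (h r hm)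
    rwa [act_expand, act_nil] at e
  obtain ⟨k, hk, rfl⟩ := List.getElem_of_mem hr
  have mem : ∀ lo len, lo ≤ k → k < lo + len → relData[k] ∈ (relData.drop lo).take len := by
    intro lo len h1 h2
    refine List.mem_iff_getElem.2 ⟨k - lo, ?_, ?_⟩
    · simp only [List.length_take, List.length_drop]; omega
    · simp only [List.getElem_take, List.getElem_drop, show lo + (k - lo) = k by omega]
  rcases Nat.lt_or_ge k 45 with h | h
  · exact key 0 45 img_rels0 (mem 0 45 (by omega) (by omega))
  rcases Nat.lt_or_ge k 46 with h' | h'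
  · exact key 45 1 img_rels1 (mem 45 1 (by omega) (by omega))
  rcases Nat.lt_or_ge k 47 with h'' | h''
  · exact key 46 1 img_rels2 (mem 46 1 (by omega) (by omega))
  · refine key 47 100 img_rels3 (mem 47 100 (by omega) ?_)
    have : relData.length ≤ 147 := by
      unfold relData; decide +kernel
    omega

theorem rel_sq : (List.range 9).all (fun g => relData.contains [g, g]) = true := by decide +kernel

theorem imgGen_sq (g : ℕ) (hg : g < 9) : imgGen g * imgGen g = 1 := by
  have hm := List.all_eq_true.1 rel_sq g (List.mem_range.2 hg)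
  rw [List.contains_iff_mem] at hm
  have h := img_rel hm
  simpa [act_cons, act_nil] using h

theorem lift_img (L : List (Cfsg.Spor.Fi22.Gen × Bool)) :
    FreeGroup.lift (fun x => imgGen (genIx x)) (FreeGroup.mk L) =
      act imgGen (L.map fun p => genIx p.1).reverse := by
  induction L with
  | nil =>
    rw [← FreeGroup.one_eq_mk, map_one]
    rfl
  | cons p L ih =>
    obtain ⟨x, b⟩ := p
    rw [show FreeGroup.mk ((x, b) :: L) = FreeGroup.mk [(x, b)] * FreeGroup.mk L from rfl, map_mul,
      ih, List.map_cons, List.reverse_cons, act_append, act_cons, act_nil, one_mul]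
    congr 1
    cases b
    · have e : FreeGroup.mk [(x, false)] = (FreeGroup.of x)⁻¹ := rfl
      rw [e, map_inv, FreeGroup.lift_apply_of]
      exact inv_eq_of_mul_eq_one_right (imgGen_sq _ (fi_ok.ix_lt x))
    · exact FreeGroup.lift_apply_of

theorem img_fiRels : ∀ w ∈ fiData.rels, act imgGen w = 1 := by
  intro w hw
  have h := rels_covered
  simp only [CoxData.covered, List.all_eq_true, Bool.and_eq_true, Bool.or_eq_true, Nat.blt_eq,
    List.contains_iff_mem] at h
  obtain ⟨hlt, hm | hm⟩ := h w hw
  · exact img_rel hm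
  · have h2 := img_rel hm
    rwa [act_reverse (ng := 9) imgGen_sq hlt, inv_eq_one] at h2

/-- The endomorphism given by the images. -/
def alphaHom : G →* G :=
  PresentedGroup.toGroup (f := fun x => imgGen (genIx x)) fun r hr => by
    have hr' : r ∈ fiData.relList := CoxData.relList_mem.2 hr
    rw [← FreeGroup.mk_toWord (x := r), lift_img]
    exact img_fiRels _ (List.mem_map.2 ⟨r, hr', rfl⟩)

theorem alpha_act {w : List ℕ} (hw : ∀ g ∈ w, g < tab.ng) :
    alphaHom (act fiGen w) = act fiGen (PresCert.expand imgWords w) := by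
  rw [map_act, act_expand]
  refine act_congr' fun a ha => ?_
  show alphaHom (PresentedGroup.of _) = imgGen a
  rw [alphaHom, PresentedGroup.toGroup.of]
  exact congrArg imgGen (fi_ok.ix_at a (hw a ha))

theorem alpha_bij : Function.Bijective alphaHom := by
  haveI := card_fi.1
  haveI := simple
  refine (Finite.injective_iff_bijective).1 ((MonoidHom.ker_eq_bot_iff _).1 ?_)
  rcases (MonoidHom.normal_ker alphaHom).eq_bot_or_eq_top with h | h
  · exact h
  exfalso
  have e : act fiGen [0] ∈ alphaHom.ker := by rw [h]; trivial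
  rw [MonoidHom.mem_ker, alpha_act lt_d] at e
  have e' := words_eq (lt_expand lt_imgs [0]) lt_nil (by rw [e, act_nil])
  rw [PresCert.expand, List.flatMap_singleton, img_u.2] at e'
  exact Bool.noConfusion e'

/-- The outer automorphism. -/
noncomputable def alpha : MulAut G := MulEquiv.ofBijective alphaHom alpha_bij

theorem alpha_u : alpha uElt = uElt ^ 2 := by
  show alphaHom (act fiGen uWord) = _
  rw [alpha_act lt_u, eq_words (lt_expand lt_imgs _) (lt_append lt_u lt_u) img_u.1,
    act_append, pow_two]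
  rfl

theorem alpha_v : alpha vElt = vElt := by
  show alphaHom (act fiGen vWord) = _
  rw [alpha_act lt_v, eq_words (lt_expand lt_imgs _) lt_v img_v]
  rfl

theorem alpha_w : alpha (six 0) = six 2 := by
  show alphaHom (act fiGen (sixWords.getD 0 [])) = _
  rw [alpha_act (lt_six 0), eq_words (lt_expand lt_imgs _) (lt_six 2) img_w]
  rfl

theorem alpha_outer (g : G) : MulAut.conj g ≠ alpha := by
  haveI := card_fi.1
  intro h
  have hu : g * uElt * g⁻¹ = uElt ^ 2 := by rw [← alpha_u, ← h]; rfl
  have hv : g * vElt * g⁻¹ = vElt := by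
    conv_rhs => rw [← alpha_v, ← h]
    rfl
  rw [mul_inv_eq_iff_eq_mul] at hu hv
  have h2 : phi (uElt ^ 2) (phi g pZero) = phi g pZero := by
    rw [← Equiv.Perm.mul_apply, ← map_mul, ← hu, map_mul, Equiv.Perm.mul_apply,
      show phi uElt pZero = pZero from fixed_word lt_u fix_words.1]
  obtain ⟨c, hc, hcm⟩ := prefixList_complete realised fiGen_sq lt_v levelsV_ok card_levels.2
    levels_card.2.2.2.1 v_sols v_rows (fix_iff.2 (u_pow_fix (k := 2) (by norm_num) h2)) hv
  have hlt : ∀ a ∈ c, a < tab.ng := lt_all _ (by simp [hc])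
  have hno := no_square
  simp only [List.all_eq_true, Bool.not_eq_true'] at hno
  have e := hno c hc
  rw [words_eq (lt_append lt_u hlt) (lt_append hlt (lt_append lt_u lt_u)) ?_] at e
  · exact Bool.noConfusion e
  rw [act_append, act_append, act_append, ← pow_two]
  show act fiGen c * uElt = uElt ^ 2 * act fiGen c
  rcases small_fix levelsV_ok card_levels.2 levels_card.2.2.2.2.2.1 levels_card.2.2.2.2.2.2.2.1
    levels_card.2.2.2.2.2.2.2.2.2.1 hcm with h' | h'
  · rw [inv_mul_eq_one.1 h']
    exact hu
  · have hgc : g = act fiGen c * dElt := inv_mul_eq_iff_eq_mul.1 h'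
    rw [hgc, mul_assoc, ← du, ← mul_assoc, ← mul_assoc] at hu
    exact mul_right_cancel hu

/-- The outer automorphism group has two elements. -/
theorem card_out : Nat.card (Cfsg.Out G) = 2 := by
  haveI := card_fi.1
  classical
  refine le_antisymm ?_ (MathieuOut.two_le_card_out alpha alpha_outer)
  have hconj : (QuotientGroup.mk (MulAut.conj dElt) : Cfsg.Out G) = 1 :=
    (QuotientGroup.eq_one_iff (N := Cfsg.Inn G) (MulAut.conj dElt)).2
      (MonoidHom.mem_range.2 ⟨dElt, rfl⟩)
  have hdu : MulAut.conj dElt uElt = uElt := by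
    show dElt * uElt * dElt⁻¹ = uElt
    rw [← du, mul_inv_cancel_right]
  have hdv : MulAut.conj dElt vElt = vElt := by
    show dElt * vElt * dElt⁻¹ = vElt
    rw [← dv, mul_inv_cancel_right]
  have hdd : MulAut.conj dElt dElt = dElt := by
    show dElt * dElt * dElt⁻¹ = dElt
    rw [mul_inv_cancel_right]
  have htwin : ∀ i j, eqBase tab levelsV ([0] ++ sixWords.getD i [] ++ [0]) (sixWords.getD j []) =
      true → MulAut.conj dElt (six i) = six j := by
    intro i j h
    have e := eq_words (lt_append (lt_append lt_d (lt_six i)) lt_d) (lt_six j) h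
    rw [act_append, act_append] at e
    show dElt * six i * dElt⁻¹ = six j
    rw [inv_eq_of_mul_eq_one_right d_sq, mul_assoc]
    exact e
  have hcases : ∀ z : Cfsg.Out G, z = 1 ∨ z = QuotientGroup.mk alpha := by
    intro z
    obtain ⟨δ, rfl, hv, k, i, hki, hu, hw⟩ := normalised z
    have hd : δ dElt = dElt := fixes_d (k := k) (by rcases hki with h | h | h | h <;> simp_all) hu
    have had : alpha dElt = dElt := fixes_d (k := 2) (by norm_num) alpha_u
    rcases hki with h | h | h | h <;> obtain ⟨rfl, rfl⟩ := Prod.mk.injEq .. ▸ h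
    · refine Or.inl ?_
      rw [ext_four (α := δ) (β := 1) (by rw [hu, pow_one]; rfl) (by rw [hv]; rfl) (by rw [hd]; rfl)
        (by rw [hw]; rfl)]
      rfl
    · refine Or.inl ?_
      rw [ext_four (α := δ) (β := MulAut.conj dElt) (by rw [hu, pow_one, hdu]) (by rw [hv, hdv])
        (by rw [hd, hdd]) (by rw [hw, htwin 0 1 twins.1]), hconj]
    · refine Or.inr (congrArg _ (ext_four (by rw [hu, alpha_u]) (by rw [hv, alpha_v])
        (by rw [hd, had]) (by rw [hw, alpha_w])))
    · refine Or.inr ?_
      rw [ext_four (α := δ) (β := MulAut.conj dElt * alpha)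
        (by rw [hu, MulAut.mul_apply, alpha_u, map_pow, hdu])
        (by rw [hv, MulAut.mul_apply, alpha_v, hdv]) (by rw [hd, MulAut.mul_apply, had, hdd])
        (by rw [hw, MulAut.mul_apply, alpha_w, htwin 2 3 twins.2]), QuotientGroup.mk_mul, hconj,
        one_mul]
  refine le_trans (Nat.card_le_card_of_surjective
    (fun b : Bool => if b then (QuotientGroup.mk alpha : Cfsg.Out G) else 1) fun z => ?_)
    (by simp)
  rcases hcases z with rfl | rfl
  · exact ⟨false, rfl⟩
  · exact ⟨true, rfl⟩

end CfsgLib.Fi22P.Out
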