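import Cfsg.Agent.Lib.Fi22P.OutDefs

/-!
# Kernel checks for the outer automorphisms of the Fischer group
-/

set_option autoImplicit false
set_option maxRecDepth 100000
set_option maxHeartbeats 0

namespace CfsgLib.Fi22P.Out

open CfsgLib.PresCert

/-- The elements over one fixed point with the two relations of the transpositions are listed. -/
def sixFilter (j : ℕ) : Bool :=
  centWords.all fun c => [[], [0]].all fun e =>
    let x := e ++ c ++ (entries.getD j (0, [])).2
    !(eqBase tab levelsV (x ++ x) []) || !(eqBase tab levelsV (repWord 3 (x ++ [0])) []) ||
      sixWords.any (eqBase tab levelsV x) || eqBase tab levelsV x [0]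

theorem six_filter0 : sixFilter 0 = true := by decide +kernel
theorem six_filter1 : sixFilter 1 = true := by decide +kernel
theorem six_filter2 : sixFilter 2 = true := by decide +kernel
theorem six_filter3 : sixFilter 3 = true := by decide +kernel
theorem six_filter4 : sixFilter 4 = true := by decide +kernel
theorem six_filter5 : sixFilter 5 = true := by decide +kernel
theorem six_filter6 : sixFilter 6 = true := by decide +kernel
theorem six_filter7 : sixFilter 7 = true := by decide +kernel
theorem six_filter8 : sixFilter 8 = true := by decide +kernel
theorem six_filter9 : sixFilter 9 = true := by decide +kernel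

end CfsgLib.Fi22P.Out
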