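import Cfsg.Agent.Lib.Fi22P.OutDefs

/-!
# Kernel checks for the outer automorphisms of the Fischer group
-/

set_option autoImplicit false
set_option maxRecDepth 100000
set_option maxHeartbeats 0

namespace CfsgLib.Fi22P.Out

open CfsgLib.PresCert

/-- No listed element squares the element of order eleven. -/
theorem no_square : centWords.all (fun c =>
    !(eqBase tab levelsV (uWord ++ c) (c ++ (uWord ++ uWord)))) = true := by decide +kernel

/-- A generator is the product of the four elements and inverses. -/
def genOk (g : ℕ) : Bool :=
  eqBase tab levelsV (PresCert.expand (four 1 (sixWords.getD 0 [])) (genWords.getD g [])) [g]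

theorem gen_ok0 : genOk 0 = true := by decide +kernel
theorem gen_ok1 : genOk 1 = true := by decide +kernel
theorem gen_ok2 : genOk 2 = true := by decide +kernel
theorem gen_ok3 : genOk 3 = true := by decide +kernel
theorem gen_ok4 : genOk 4 = true := by decide +kernel
theorem gen_ok5 : genOk 5 = true := by decide +kernel
theorem gen_ok6 : genOk 6 = true := by decide +kernel
theorem gen_ok7 : genOk 7 = true := by decide +kernel
theorem gen_ok8 : genOk 8 = true := by decide +kernel

theorem bad_trivial : badWords.all (fun p => eqBase tab levelsV
    (repWord p.2 (PresCert.expand (four 1 (sixWords.getD 0 [])) p.1)) []) = true := by decide +kernel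

/-- The false candidates. -/
theorem bad_ok : badData.all (fun c =>
    Nat.blt c.2.1 badWords.length && Nat.blt c.2.2 tab.n &&
      !(Nat.beq (tab.walk c.2.2 (repWord (badWords.getD c.2.1 ([], 0)).2
        (PresCert.expand (four c.1.1 (sixWords.getD c.1.2 [])) (badWords.getD c.2.1 ([], 0)).1))) c.2.2)) =
      true := by
  decide +kernel

theorem bad_cover : [1, 2].all (fun k => (List.range 6).all fun i =>
    decide ((k, i) = (1, 0) ∨ (k, i) = (1, 1) ∨ (k, i) = (2, 2) ∨ (k, i) = (2, 3)) ||
      badData.any fun c => decide (c.1 = (k, i))) = true := by
  decide +kernel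

theorem twins : eqBase tab levelsV ([0] ++ sixWords.getD 0 [] ++ [0]) (sixWords.getD 1 []) = true ∧
    eqBase tab levelsV ([0] ++ sixWords.getD 2 [] ++ [0]) (sixWords.getD 3 []) = true := by
  decide +kernel

/-- The images satisfy the relations in one part of the list. -/
def imgRels (lo len : ℕ) : Bool :=
  ((relData.drop lo).take len).all fun r => eqBase tab levelsV (PresCert.expand imgWords r) []

theorem img_rels0 : imgRels 0 45 = true := by decide +kernel
theorem img_rels1 : imgRels 45 1 = true := by decide +kernel
theorem img_rels2 : imgRels 46 1 = true := by decide +kernel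
theorem img_rels3 : imgRels 47 100 = true := by decide +kernel

theorem img_u : eqBase tab levelsV (PresCert.expand imgWords uWord) (uWord ++ uWord) = true ∧
    eqBase tab levelsV (imgWords.getD 0 []) [] = false := by
  decide +kernel

theorem img_v : eqBase tab levelsV (PresCert.expand imgWords vWord) vWord = true := by
  decide +kernel

theorem img_w : eqBase tab levelsV (PresCert.expand imgWords (sixWords.getD 0 []))
    (sixWords.getD 2 []) = true := by
  decide +kernel

end CfsgLib.Fi22P.Out
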