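import Cfsg.Agent.Lib.Fi22P.OutDefs

/-!
# Kernel checks for the outer automorphisms of the Fischer group
-/

set_option autoImplicit false
set_option maxRecDepth 100000
set_option maxHeartbeats 0

namespace CfsgLib.Fi22P.Out

open CfsgLib.PresCert

theorem six_rels : sixWords.all (fun x => eqBase tab levelsV (x ++ x) [] &&
    eqBase tab levelsV (vWord ++ x) (x ++ vWord) &&
    eqBase tab levelsV (repWord 3 (x ++ [0])) [] && !(eqBase tab levelsV x [0])) = true ∧
    sixWords.length = 6 := by
  decide +kernel

theorem u_sols : prefixSolsOk tab uWord uWord levelsU maskU uYs uList = true := by decide +kernel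

theorem v_sols : prefixSolsOk tab vWord vWord levelsV maskV vYs centWords = true := by decide +kernel

theorem entry_words : entries.all (fun e => Nat.beq (tab.walk 0 e.2) e.1 &&
    eqBase tab levelsV (vWord ++ e.2) (e.2 ++ vWord)) = true ∧ entries.length = 10 := by
  decide +kernel

end CfsgLib.Fi22P.Out
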