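import Cfsg.Agent.Lib.Fi22P.OutDefs

/-!
# Kernel checks for the outer automorphisms of the Fischer group
-/

set_option autoImplicit false
set_option maxRecDepth 100000
set_option maxHeartbeats 0

namespace CfsgLib.Fi22P.Out

open CfsgLib.PresCert

theorem v_rows0 : prefixRows tab vWord levelsV 5 maskV vYs 0 100 = true := by decide +kernel

theorem v_rows1 : prefixRows tab vWord levelsV 5 maskV vYs 100 100 = true := by decide +kernel

theorem v_rows2 : prefixRows tab vWord levelsV 5 maskV vYs 200 100 = true := by decide +kernel

theorem v_rows3 : prefixRows tab vWord levelsV 5 maskV vYs 300 100 = true := by decide +kernel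

theorem v_rows4 : prefixRows tab vWord levelsV 5 maskV vYs 400 100 = true := by decide +kernel

theorem v_rows5 : prefixRows tab vWord levelsV 5 maskV vYs 500 100 = true := by decide +kernel

theorem v_rows6 : prefixRows tab vWord levelsV 5 maskV vYs 600 100 = true := by decide +kernel

theorem v_rows_len : (levelsV.getD 0 ⟨0, [], [], []⟩).pts.length = 693 := by decide +kernel

end CfsgLib.Fi22P.Out
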