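import Cfsg.Agent.Lib.Fi22P.OutCheckBase
import Cfsg.Agent.Lib.Fi22P.OutCheckLists
import Cfsg.Agent.Lib.Fi22P.OutCheckFilter
import Cfsg.Agent.Lib.Fi22P.OutCheckImages
import Cfsg.Agent.Lib.Fi22P.OutCheckRowsU
import Cfsg.Agent.Lib.Fi22P.OutCheckRowsV

/-!
# Kernel checks for the outer automorphisms of the Fischer group
-/
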