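import Cfsg.Agent.Lib.Fi22P.OutDefs

/-!
# Kernel checks for the outer automorphisms of the Fischer group
-/

set_option autoImplicit false
set_option maxRecDepth 100000
set_option maxHeartbeats 0

namespace CfsgLib.Fi22P.Out

open CfsgLib.PresCert

theorem words_lt : wordsLt tab ([uWord, vWord, [0]] ++ sixWords ++ centWords ++ imgWords ++
    entries.map (fun e => e.2)) = true := by decide +kernel

theorem levelsU_ok : levelsOk tab [0] levelsU = true := by decide +kernel

theorem levelsV_ok : levelsOk tab [0] levelsV = true := by decide +kernel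

theorem levels_card : (levelsU.map fun l => l.pts.length).prod = 18393661440 ∧
    (levelsV.map fun l => l.pts.length).prod = 18393661440 ∧
    chainPrefix tab uWord levelsU 5 = true ∧ chainPrefix tab vWord levelsV 5 = true ∧
    levelsU.length = 6 ∧ levelsV.length = 6 ∧
    ((levelsU.getD 5 ⟨0, [], [], []⟩).pts =
      [(levelsU.getD 5 ⟨0, [], [], []⟩).base, tab.walk (levelsU.getD 5 ⟨0, [], [], []⟩).base [0]]) ∧
    ((levelsV.getD 5 ⟨0, [], [], []⟩).pts =
      [(levelsV.getD 5 ⟨0, [], [], []⟩).base, tab.walk (levelsV.getD 5 ⟨0, [], [], []⟩).base [0]]) ∧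
    (levelsU.take 5).all (fun l => Nat.beq (tab.walk l.base [0]) l.base) = true ∧
    (levelsV.take 5).all (fun l => Nat.beq (tab.walk l.base [0]) l.base) = true ∧
    (0 :: levelsV.map Level.base).all (fun i => Nat.blt i tab.n) = true := by
  decide +kernel

theorem fix_words : Nat.beq (tab.walk 0 uWord) 0 = true ∧ Nat.beq (tab.walk 0 vWord) 0 = true ∧
    Nat.beq (tab.walk 0 [0]) 0 = true ∧ Nat.beq (tab.walk 0 (sixWords.getD 0 [])) 0 = false := by
  decide +kernel

/-- The word moves all points but the first, on a block. -/
def uMoves (b : ℕ) : Bool :=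
  (List.range 1000).all fun j => !(Nat.blt (1000 * b + j) tab.n) || Nat.beq (1000 * b + j) 0 ||
    !(Nat.beq (tab.walk (1000 * b + j) uWord) (1000 * b + j))

/-- The fixed points of the element of order five are listed, on a block. -/
def vFixed (b : ℕ) : Bool :=
  (List.range 1000).all fun j => !(Nat.blt (1000 * b + j) tab.n) ||
    !(Nat.beq (tab.walk (1000 * b + j) vWord) (1000 * b + j)) ||
    entries.any fun e => Nat.beq (1000 * b + j) e.1

theorem u_moves0 : uMoves 0 = true := by decide +kernel
theorem u_moves1 : uMoves 1 = true := by decide +kernel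
theorem u_moves2 : uMoves 2 = true := by decide +kernel
theorem u_moves3 : uMoves 3 = true := by decide +kernel
theorem v_fixed0 : vFixed 0 = true := by decide +kernel
theorem v_fixed1 : vFixed 1 = true := by decide +kernel
theorem v_fixed2 : vFixed 2 = true := by decide +kernel
theorem v_fixed3 : vFixed 3 = true := by decide +kernel

theorem uv_rels : eqBase tab levelsV (repWord 11 uWord) [] = true ∧
    eqBase tab levelsV (repWord 5 vWord) [] = true ∧
    eqBase tab levelsV (uWord ++ vWord) (vWord ++ repWord 4 uWord) = true ∧
    eqBase tab levelsV ([0] ++ uWord) (uWord ++ [0]) = true ∧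
    eqBase tab levelsV ([0] ++ vWord) (vWord ++ [0]) = true ∧
    eqBase tab levelsV uWord [] = false ∧ eqBase tab levelsV [0] [] = false := by
  decide +kernel

end CfsgLib.Fi22P.Out
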