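import Cfsg.Agent.Lib.Fi22P.OutData
import Cfsg.Agent.Lib.Fi22P.PermCheck
import Cfsg.Agent.Lib.PresCert.ChainUpTo

/-!
# Kernel checks for the outer automorphisms of the Fischer group
-/

set_option autoImplicit false
set_option maxRecDepth 100000
set_option maxHeartbeats 0

namespace CfsgLib.Fi22P.Out

open CfsgLib.PresCert

/-- The word of a power of the element of order eleven. -/
def uPow (k : ℕ) : List ℕ := if k = 1 then uWord else uWord ++ uWord

/-- The four elements and two inverses. -/
def four (k : ℕ) (z : List ℕ) : List (List ℕ) :=
  [uPow k, vWord, z, [0], (uPow k).reverse, vWord.reverse]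

/-- The powers of the element of order eleven. -/
def uList : List (List ℕ) := (List.range 11).map fun a => repWord a uWord

end CfsgLib.Fi22P.Out
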