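import Cfsg.Prelude.Def_Spor_Fi22
import Cfsg.Agent.Lib.PresCert.Cox

/-!
The presented Fischer group on numbered generators.
-/

set_option autoImplicit false
set_option maxRecDepth 100000

namespace CfsgLib.Fi22P

open CfsgLib.PresCert Cfsg.Spor

/-- The number of a generator. -/
def genIx : Fi22.Gen → ℕ
  | .a => 0
  | .b => 1
  | .c => 2
  | .d => 3
  | .e => 4
  | .f => 5
  | .g => 6
  | .h => 7
  | .i => 8

/-- The presentation. -/
abbrev fiData : CoxData where
  Gen := Fi22.Gen
  ng := 9
  dflt := .a
  at' := [.a, .b, .c, .d, .e, .f, .g, .h, .i]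
  ix := genIx
  edges := Fi22.edges
  extra := Fi22.extra

theorem fi_ok : fiData.Ok where
  at_ix x := by cases x <;> rfl
  ix_lt x := by cases x <;> decide
  ix_at := by decide +kernel
  node := by decide +kernel

/-- The generators by number. -/
abbrev fiGen : ℕ → Cfsg.Spor.Fi22 := fiData.gen

theorem fiGen_sq : ∀ g, g < 9 → fiGen g * fiGen g = 1 :=
  fun _ hg => CoxData.gen_sq fi_ok hg

theorem closure_all : genGrp ((List.range 9).map fun g => [g]) fiGen = ⊤ :=
  CoxData.closure_gens fi_ok

/-- A homomorphism in whose image the first generator is central is trivial. -/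
theorem hom_trivial {A : Type*} [Group A] (f : Cfsg.Spor.Fi22 →* A)
    (hc : ∀ z, f (PresentedGroup.of Fi22.Gen.a) * f z = f z * f (PresentedGroup.of Fi22.Gen.a))
    (z : Cfsg.Spor.Fi22) : f z = 1 := by
  set t := f (PresentedGroup.of Fi22.Gen.a) with ht
  have sq : ∀ x : Fi22.Gen, f (PresentedGroup.of x) * f (PresentedGroup.of x) = 1 := fun x => by
    rw [← map_mul, CoxData.of_sq (P := fiData) fi_ok, map_one]
  have sq3 : ∀ x : Fi22.Gen, f (PresentedGroup.of x) ^ 3 = f (PresentedGroup.of x) := fun x => by
    rw [pow_succ, pow_two, sq, one_mul]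
  have cox : ∀ x y : Fi22.Gen, x ∈ coxNodes Fi22.edges → y ∈ coxNodes Fi22.edges →
      coxLabel Fi22.edges x y = 3 → f (PresentedGroup.of x) = t →
      f (PresentedGroup.of y) = t := by
    intro x y hx hy hl hxt
    have h := congrArg f (CoxData.cox_one (P := fiData) hx hy)
    have hcomm : Commute (f (PresentedGroup.of x)) (f (PresentedGroup.of y)) := by
      rw [hxt]; exact hc _
    rw [map_one, map_pow, map_mul, show coxLabel fiData.edges x y = 3 from hl, hcomm.mul_pow,
      sq3, sq3] at h
    rw [← hxt, eq_inv_of_mul_eq_one_right h]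
    exact inv_eq_of_mul_eq_one_right (sq x)
  have hb := cox .a .b (by decide) (by decide) (by decide) ht.symm
  have hcc := cox .b .c (by decide) (by decide) (by decide) hb
  have hd := cox .c .d (by decide) (by decide) (by decide) hcc
  have he := cox .d .e (by decide) (by decide) (by decide) hd
  have hh := cox .d .h (by decide) (by decide) (by decide) hd
  have hf := cox .e .f (by decide) (by decide) (by decide) he
  have hg := cox .f .g (by decide) (by decide) (by decide) hf
  have hi := cox .h .i (by decide) (by decide) (by decide) hh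
  have rel : ∀ r ∈ Fi22.extra,
      f (PresentedGroup.mk (coxRelators fiData.edges ∪ {r | r ∈ fiData.extra}) r) = 1 :=
    fun r hr => by rw [CoxData.relList_one (P := fiData) (List.mem_append_right _ hr), map_one]
  have e := rel ((Fi22.b * Fi22.c * Fi22.d * Fi22.e * Fi22.f * Fi22.g * Fi22.h) ^ 9)
    (by simp [Fi22.extra])
  simp only [map_mul, map_pow, ← PresentedGroup.of.eq_def, hb, hcc, hd, he, hf, hg, hh] at e
  have t2 : t ^ 2 = 1 := by rw [pow_two, ht, sq]
  have e' : t ^ 63 = 1 := by
    rw [show (63 : ℕ) = 7 * 9 from rfl, pow_mul, show t ^ 7 = t * t * t * t * t * t * t by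
      simp only [pow_succ, pow_zero, one_mul]]
    exact e
  have t1 : t = 1 := by
    rwa [show (63 : ℕ) = 2 * 31 + 1 from rfl, pow_succ, pow_mul, t2, one_pow, one_mul] at e'
  have hall : ∀ x : Fi22.Gen, f (PresentedGroup.of x) = 1 := by
    intro x
    cases x
    · exact t1
    · exact hb.trans t1
    · exact hcc.trans t1
    · exact hd.trans t1
    · exact he.trans t1
    · exact hf.trans t1
    · exact hg.trans t1
    · exact hh.trans t1
    · exact hi.trans t1
  have h1 : f = 1 := PresentedGroup.ext fun x => by rw [hall x]; rfl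
  rw [h1]
  rfl

end CfsgLib.Fi22P
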