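import Cfsg.Agent.Lib.Fi22P.Perm

/-!
The printed subgroups of index 3510 and 14080.
-/

set_option autoImplicit false
set_option maxRecDepth 100000

namespace CfsgLib.Fi22P

open CfsgLib.PresCert Cfsg.Spor

attribute [local irreducible] levels

theorem index_o7 : (genGrp sO7 fiGen).index = 14080 := by
  haveI := card_fi.1
  refine le_antisymm index_o7_le ?_
  have h := (genGrp sO7 fiGen).card_mul_index
  rw [card_fi.2] at h
  have h2 := Nat.mul_le_mul_right (genGrp sO7 fiGen).index o7_le.2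
  rw [h] at h2
  omega

theorem printed_o7 :
    (Subgroup.closure ({Fi22.b, Fi22.c, Fi22.d, Fi22.e, Fi22.f, Fi22.g, Fi22.h, Fi22.i} :
      Set (FreeGroup Fi22.Gen))).map
      (PresentedGroup.mk (coxRelators Fi22.edges ∪ {r | r ∈ Fi22.extra})) = genGrp sO7 fiGen := by
  have hset : ({Fi22.b, Fi22.c, Fi22.d, Fi22.e, Fi22.f, Fi22.g, Fi22.h, Fi22.i} :
      Set (FreeGroup Fi22.Gen)) =
      {r | r ∈ ([.b, .c, .d, .e, .f, .g, .h, .i] : List Fi22.Gen).map FreeGroup.of} := by
    ext r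
    simp
  rw [hset]
  exact CoxData.map_closure (P := fiData) fi_ok [.b, .c, .d, .e, .f, .g, .h, .i]

theorem printed_h :
    (Subgroup.closure ({Fi22.a, Fi22.c, Fi22.d, Fi22.e, Fi22.f, Fi22.g, Fi22.h, Fi22.i,
      (Fi22.a * Fi22.b * Fi22.c * Fi22.d * Fi22.e * Fi22.h) ^ 5} :
      Set (FreeGroup Fi22.Gen))).map
      (PresentedGroup.mk (coxRelators Fi22.edges ∪ {r | r ∈ Fi22.extra})) = subH := by
  have one : ∀ x, PresentedGroup.mk (coxRelators Fi22.edges ∪ {r | r ∈ Fi22.extra})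
      (FreeGroup.of x) = act fiGen [genIx x] := fun x => by
    rw [act_cons, act_nil, one_mul]
    exact (CoxData.gen_ix (P := fiData) fi_ok x).symm
  have hw : PresentedGroup.mk (coxRelators Fi22.edges ∪ {r | r ∈ Fi22.extra})
      ((Fi22.a * Fi22.b * Fi22.c * Fi22.d * Fi22.e * Fi22.h) ^ 5) = act fiGen wordH := by
    simp only [map_pow, map_mul, one, wordH, genIx, act_cons, act_nil, one_mul, pow_succ,
      pow_zero, mul_assoc]
  rw [MonoidHom.map_closure, subH, genGrp]
  congr 1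
  ext m
  constructor
  · rintro ⟨r, hr, rfl⟩
    simp only [Set.mem_insert_iff, Set.mem_singleton_iff] at hr
    rcases hr with rfl | rfl | rfl | rfl | rfl | rfl | rfl | rfl | rfl
    all_goals first
      | exact ⟨_, by decide, (one _).symm⟩
      | exact ⟨_, by decide, hw.symm⟩
  · rintro ⟨w, hm, rfl⟩
    simp only [sH, List.mem_cons, List.not_mem_nil, or_false] at hm
    rcases hm with rfl | rfl | rfl | rfl | rfl | rfl | rfl | rfl | rfl
    · exact ⟨Fi22.a, by simp, one _⟩
    · exact ⟨Fi22.c, by simp, one _⟩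
    · exact ⟨Fi22.d, by simp, one _⟩
    · exact ⟨Fi22.e, by simp, one _⟩
    · exact ⟨Fi22.f, by simp, one _⟩
    · exact ⟨Fi22.g, by simp, one _⟩
    · exact ⟨Fi22.h, by simp, one _⟩
    · exact ⟨Fi22.i, by simp, one _⟩
    · exact ⟨_, by simp, hw⟩

theorem orbit_of_label {k : ℕ} (hk : k < 3) :
    ∃ q : Cfsg.Spor.Fi22 ⧸ subH,
      (MulAction.orbit subH q).ncard = [1, 693, 2816].getD k 0 := by
  have hk' : k < forest.roots.length := forest_counts.2.1.symm ▸ hk
  obtain ⟨h1, h2⟩ := forest_ok.root hk'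
  obtain ⟨q, hq, -⟩ := forest_ok.coset_orbit realised zero_lt subH_eq stab_le.1 ⟨_, h1⟩
  refine ⟨q, hq.trans ?_⟩
  simp only [h2]
  exact forest_count hk

end CfsgLib.Fi22P
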