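import Cfsg.Agent.Lib.Fi22P.U6Check

/-!
Kernel check that the matrices induce the action on 693 points.
-/

set_option autoImplicit false
set_option maxRecDepth 100000

namespace CfsgLib.Fi22P

open CfsgLib.PresCert Cfsg.Spor 

theorem img_block0 : imgBlock 0 = true := by decide +kernel

theorem img_block1 : imgBlock 1 = true := by decide +kernel

theorem img_block2 : imgBlock 2 = true := by decide +kernel

theorem img_block3 : imgBlock 3 = true := by decide +kernel

theorem img_blocks : fourBlocks imgBlock = true := by
  simp only [fourBlocks, img_block0, img_block1, img_block2, img_block3, Bool.and_true]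

end CfsgLib.Fi22P
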