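import Cfsg.Agent.Lib.Fi22P.Sub
import Cfsg.Agent.Lib.Fi22P.U6Img
import Cfsg.Agent.Lib.Classical.HermOrder
import Cfsg.Agent.Lib.Classical.UnitaryPSU
import Cfsg.Prelude.Def_SporadicB

/-!
The printed subgroup of index 3510 is a non-split double cover of a unitary group.
-/

set_option autoImplicit false
set_option maxRecDepth 100000

namespace CfsgLib.Fi22P

open CfsgLib.PresCert Cfsg.Spor Matrix CfsgLib.He CfsgLib.J3

attribute [local irreducible] levels aWord

variable {F : Type*} [Field F] (K : Fld F)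

/-- The 693 points. -/
abbrev Pt : Type := {p : Fin tab.n // forest.lab p.val = 1}

/-- The vector of a point. -/
def vec (p : Pt) : Fin 6 → F := fun i => cv K (crd p.1.val i)

theorem cv_cS (f : Fin 6 → Fin 4) : cv K (cS f) = ∑ i, cv K (f i) := by
  simp only [cS, cv_add, Fin.sum_univ_six]
  ring

theorem cv_cj (a : Fin 4) : cv K (cCj a) = cv K a ^ 2 := by rw [cCj, cv_mul, pow_two]

theorem cv_id (i j : Fin 6) : cv K (cId i j) = if i = j then 1 else 0 := by
  rw [cId]
  split_ifs
  exacts [cv_one K, cv_zero K]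

theorem cMul_one : ∀ a : Fin 4, cMul 1 a = a := by decide

theorem dig_enc (f : Fin 6 → Fin 4) (i : Fin 6) : dig (enc f) i = f i := by
  refine Fin.ext ?_
  rw [dig, Fin.val_ofNat]
  have h0 := (f 0).isLt
  have h1 := (f 1).isLt
  have h2 := (f 2).isLt
  have h3 := (f 3).isLt
  have h4 := (f 4).isLt
  have h5 := (f 5).isLt
  fin_cases i <;> simp [enc] <;> omega

theorem enc_lt (f : Fin 6 → Fin 4) : enc f < 4096 := by
  have h0 := (f 0).isLt
  have h1 := (f 1).isLt
  have h2 := (f 2).isLt
  have h3 := (f 3).isLt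
  have h4 := (f 4).isLt
  have h5 := (f 5).isLt
  simp only [enc]
  omega

theorem mem_three : ∀ s : Fin 4, s ≠ 0 → s ∈ ([1, 2, 3] : List (Fin 4)) := by decide

theorem three_ne : ∀ s ∈ ([1, 2, 3] : List (Fin 4)), s ≠ 0 := by decide

/-- The check at a point. -/
theorem sep_spec (p : Pt) : isoB (crd p.1.val) = true ∧ enc (crd p.1.val) ≠ 0 ∧
    ∀ s : Fin 4, s ≠ 0 → ptOf (enc fun i => cMul s (crd p.1.val i)) = p.1.val := by
  have hlt : p.1.val < 3510 := p.1.isLt
  have hb := four_blocks (b := p.1.val / 1000) sep_blocks (by omega)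
  simp only [sepBlock, List.all_eq_true, List.mem_range, Bool.or_eq_true, Bool.not_eq_true',
    Bool.and_eq_true, Bool.and_eq_false_iff, Nat.beq_eq] at hb
  have h' := hb (p.1.val % 1000) (Nat.mod_lt _ (by norm_num))
  rw [Nat.div_add_mod] at h'
  rcases h' with (h | h) | h
  · have : Nat.blt p.1.val 3510 = true := by rw [Nat.blt_eq]; exact hlt
    rw [this] at h
    exact Bool.noConfusion h
  · rw [p.2] at h
    exact Bool.noConfusion h
  · refine ⟨h.1.1, fun e => ?_, fun s hs => h.2 s (mem_three s hs)⟩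
    have h2 := h.1.2
    rw [e] at h2
    exact Bool.noConfusion h2

theorem vec_unique {p r : Pt} {c : F} (hc : c ≠ 0) (h : vec K p = c • vec K r) : p = r := by
  obtain ⟨s, rfl⟩ := cv_surj K c
  have hs : s ≠ 0 := fun e => hc (by rw [e, cv_zero])
  have h2 : (fun i => cMul 1 (crd p.1.val i)) = fun i => cMul s (crd r.1.val i) := funext fun i =>
    cv_inj K (by
      have h' := congrFun h i
      simp only [vec, Pi.smul_apply, smul_eq_mul] at h'
      rw [cMul_one, cv_mul, h'])
  refine Subtype.ext (Fin.ext ?_)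
  rw [← (sep_spec p).2.2 1 (by decide), h2, (sep_spec r).2.2 s hs]

theorem isoB_iff (f : Fin 6 → Fin 4) :
    isoB f = true ↔ Cfsg.hermForm 6 F 2 (fun i => cv K (f i)) (fun i => cv K (f i)) = 0 := by
  have e : Cfsg.hermForm 6 F 2 (fun i => cv K (f i)) (fun i => cv K (f i)) =
      cv K (cS fun i => cMul (f i) (cCj (f i))) := by
    simp only [Cfsg.hermForm, cv_cS, cv_mul, cv_cj]
  rw [e, isoB, Nat.beq_eq, ← cv_zero K]
  exact ⟨fun h => congrArg (cv K) (Fin.ext h), fun h => congrArg Fin.val (cv_inj K h)⟩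

theorem vec_iso (p : Pt) : Cfsg.hermForm 6 F 2 (vec K p) (vec K p) = 0 :=
  (isoB_iff K _).1 (sep_spec p).1

theorem vec_ne_zero (p : Pt) : vec K p ≠ 0 := by
  intro h
  refine (sep_spec p).2.1 ?_
  have h0 : ∀ i, crd p.1.val i = 0 := fun i => cv_inj K (by
    rw [cv_zero]; exact congrFun h i)
  simp [enc, h0]

theorem vec_cover {v : Fin 6 → F} (hv : v ≠ 0) (hi : Cfsg.hermForm 6 F 2 v v = 0) :
    ∃ p : Pt, ∃ c : F, c ≠ 0 ∧ v = c • vec K p := by
  choose f hf using fun i => cv_surj K (v i)
  have hf' : (fun i => cv K (f i)) = v := funext hf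
  have hiso : isoB f = true := (isoB_iff K f).2 (by rw [hf']; exact hi)
  have hne : enc f ≠ 0 := by
    intro e
    refine hv (funext fun i => ?_)
    rw [← hf i, ← dig_enc f i, e, Pi.zero_apply]
    simp [dig, cv_zero]
  have hb := cover_blocks (enc_lt f)
  simp only [coverBlock, List.all_eq_true, List.mem_range, Bool.or_eq_true, Bool.and_eq_true,
    Bool.not_eq_true', Nat.beq_eq, Nat.blt_eq, List.any_eq_true] at hb
  have h' := hb (enc f % 1024) (Nat.mod_lt _ (by norm_num))
  rw [Nat.div_add_mod] at h'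
  rcases h' with (h | h) | ⟨⟨h1, h2⟩, s, hs, h3⟩
  · exact absurd h hne
  · rw [show dig (enc f) = f from funext (dig_enc f), hiso] at h
    exact Bool.noConfusion h
  · refine ⟨⟨⟨ptOf (enc f), h1⟩, h2⟩, cv K s, cv_ne_zero K (three_ne s hs), funext fun i => ?_⟩
    have h4 := congrArg (fun c => dig c i) h3
    simp only [dig_enc] at h4
    rw [Pi.smul_apply, smul_eq_mul, vec, ← cv_mul, h4, hf]

/-- The matrix of an element of the unitary group. -/
abbrev toM (A : Cfsg.SU 6 F 2) : Matrix (Fin 6) (Fin 6) F := Cfsg.slToMat 6 F A.1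

/-- A matrix carries the points as a permutation says. -/
def MapsPts (A : Matrix (Fin 6) (Fin 6) F) (π : Equiv.Perm Pt) : Prop :=
  ∀ p, ∃ c : F, c ≠ 0 ∧ A *ᵥ vec K p = c • vec K (π p)

variable {K}

theorem MapsPts.unique {A : Matrix (Fin 6) (Fin 6) F} {π π' : Equiv.Perm Pt}
    (h : MapsPts K A π) (h' : MapsPts K A π') : π = π' := by
  refine Equiv.ext fun k => ?_
  obtain ⟨c, hc, e⟩ := h k
  obtain ⟨c', hc', e'⟩ := h' k
  refine vec_unique K (c := c⁻¹ * c') (mul_ne_zero (inv_ne_zero hc) hc') ?_
  rw [mul_smul, ← e', e, inv_smul_smul₀ hc]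

theorem MapsPts.mul {A B : Matrix (Fin 6) (Fin 6) F} {π π' : Equiv.Perm Pt}
    (h : MapsPts K A π) (h' : MapsPts K B π') : MapsPts K (A * B) (π * π') := fun k => by
  obtain ⟨c', hc', e'⟩ := h' k
  obtain ⟨c, hc, e⟩ := h (π' k)
  exact ⟨c' * c, mul_ne_zero hc' hc, by
    rw [← mulVec_mulVec, e', mulVec_smul, e, smul_smul, Equiv.Perm.mul_apply]⟩

theorem MapsPts.one : MapsPts K 1 1 := fun k => ⟨1, one_ne_zero, by simp⟩

variable (K)

theorem mapsPts_exists (A : Cfsg.SU 6 F 2) : ∃ π, MapsPts K (toM A) π := by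
  have hinj : ∀ v : Fin 6 → F, toM A *ᵥ v = 0 → v = 0 := fun v h => by
    have e := congrArg (fun w => toM A⁻¹ *ᵥ w) h
    simp only [mulVec_mulVec, mulVec_zero] at e
    rwa [toM, toM, ← map_mul, ← Subgroup.coe_mul, inv_mul_cancel, OneMemClass.coe_one, map_one,
      one_mulVec] at e
  choose f hf using fun k : Pt =>
    vec_cover K (fun h => vec_ne_zero K k (hinj _ h) : toM A *ᵥ vec K k ≠ 0)
      ((A.2 (vec K k) (vec K k)).trans (vec_iso K k))
  have hfi : Function.Injective f := fun i j e => by
    obtain ⟨c, hc, hi⟩ := hf i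
    obtain ⟨d, hd, hj⟩ := hf j
    refine vec_unique K (c := c * d⁻¹) (mul_ne_zero hc (inv_ne_zero hd))
      (sub_eq_zero.1 (hinj _ ?_))
    rw [mulVec_sub, mulVec_smul, hi, hj, e, smul_smul, inv_mul_cancel_right₀ hd, sub_self]
  exact ⟨Equiv.ofBijective f ⟨hfi, Finite.injective_iff_surjective.1 hfi⟩, hf⟩

/-- The action of the unitary group on the points. -/
noncomputable def sigma : Cfsg.SU 6 F 2 →* Equiv.Perm Pt where
  toFun A := (mapsPts_exists K A).choose
  map_one' := (mapsPts_exists K 1).choose_spec.unique (by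
    rw [toM, OneMemClass.coe_one, map_one]; exact MapsPts.one)
  map_mul' A B := (mapsPts_exists K (A * B)).choose_spec.unique (by
    rw [toM, Subgroup.coe_mul, map_mul]
    exact (mapsPts_exists K A).choose_spec.mul (mapsPts_exists K B).choose_spec)

theorem sigma_eq {A : Cfsg.SU 6 F 2} {π : Equiv.Perm Pt} (h : MapsPts K (toM A) π) :
    sigma K A = π :=
  (mapsPts_exists K A).choose_spec.unique h

/-- One of the matrices. -/
def mat (g : ℕ) : Matrix (Fin 6) (Fin 6) F := Matrix.of fun i j => cv K (ent g i j)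

theorem mat_mem {g : ℕ} (hg : g < 9) : ∃ A : Cfsg.SU 6 F 2, toM A = mat K g := by
  haveI : CharP F 2 := CharTwo.of_one_ne_zero_of_two_eq_zero one_ne_zero K.two
  have hsq : mat K g * mat K g = 1 := by
    refine Matrix.ext fun i j => ?_
    rw [Matrix.mul_apply, Matrix.one_apply, ← cv_id K, ← mats_ok.2.1 g hg i j, cv_cS]
    simp only [mat, Matrix.of_apply, cv_mul]
  have hdet : (mat K g).det = 1 := by
    have h := congrArg Matrix.det hsq
    rw [Matrix.det_mul, Matrix.det_one] at h
    have h2 : ((mat K g).det - 1) * ((mat K g).det - 1) = 0 := by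
      linear_combination h + (1 - (mat K g).det) * K.two
    exact sub_eq_zero.1 (mul_self_eq_zero.1 h2)
  refine ⟨⟨⟨mat K g, hdet⟩, fun u v => ?_⟩, rfl⟩
  change Cfsg.hermForm 6 F 2 (mat K g *ᵥ u) (mat K g *ᵥ v) = Cfsg.hermForm 6 F 2 u v
  have key : ∀ i j, ∑ r, mat K g r i * mat K g r j ^ 2 = if i = j then (1 : F) else 0 := by
    intro i j
    rw [← cv_id K, ← mats_ok.1 g hg i j, cv_cS]
    simp only [mat, Matrix.of_apply, cv_mul, cv_cj]
  calc Cfsg.hermForm 6 F 2 (mat K g *ᵥ u) (mat K g *ᵥ v)
      = ∑ r, ∑ i, ∑ j, (u i * v j ^ 2) * (mat K g r i * mat K g r j ^ 2) := by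
        simp only [Cfsg.hermForm, Matrix.mulVec, dotProduct, CharTwo.sum_sq, Finset.sum_mul_sum,
          mul_pow]
        refine Finset.sum_congr rfl fun r _ => Finset.sum_congr rfl fun i _ =>
          Finset.sum_congr rfl fun j _ => ?_
        ring
    _ = ∑ i, ∑ j, (u i * v j ^ 2) * ∑ r, mat K g r i * mat K g r j ^ 2 := by
        rw [Finset.sum_comm]
        refine Finset.sum_congr rfl fun i _ => ?_
        rw [Finset.sum_comm]
        simp only [Finset.mul_sum]
    _ = Cfsg.hermForm 6 F 2 u v := by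
        simp only [key, mul_ite, mul_one, mul_zero, Finset.sum_ite_eq, Finset.mem_univ, if_true,
          Cfsg.hermForm]

theorem subH_invariant (m : subH) (p : Fin tab.n) :
    forest.lab (phi m.1 p).val = forest.lab p.val :=
  forest_ok.invariant realised m.2 p

/-- The action of the stabiliser on the 693 points. -/
def tau : subH →* Equiv.Perm Pt where
  toFun m := (phi m.1).subtypePerm fun p => by rw [subH_invariant]
  map_one' := by ext p; simp
  map_mul' a b := Equiv.ext fun p => Subtype.ext (by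
    show phi (a * b).1 p.1 = phi a.1 (phi b.1 p.1)
    rw [Subgroup.coe_mul, map_mul, Equiv.Perm.mul_apply])

/-- A generator of the stabiliser. -/
def hGen (g : ℕ) : subH :=
  if h : g < 9 then ⟨act fiGen (sH.getD g []), Subgroup.subset_closure ⟨_, by
    rw [List.getD_eq_getElem _ _ (show g < sH.length from h)]; exact List.getElem_mem _, rfl⟩⟩
  else 1

theorem hGen_val {g : ℕ} (hg : g < 9) : (hGen g).1 = act fiGen (sH.getD g []) := by
  rw [hGen, dif_pos hg]

theorem tau_gen {g : ℕ} (hg : g < 9) {A : Cfsg.SU 6 F 2} (hA : toM A = mat K g) :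
    tau (hGen g) = sigma K A := by
  refine (sigma_eq K fun p => ?_).symm
  have hlt : p.1.val < 3510 := p.1.isLt
  have hb := four_blocks (b := p.1.val / 1000) img_blocks (by omega)
  simp only [imgBlock, List.all_eq_true, List.mem_range, Bool.or_eq_true, Bool.not_eq_true',
    Bool.and_eq_false_iff, List.any_eq_true, Nat.beq_eq] at hb
  have h' := hb (p.1.val % 1000) (Nat.mod_lt _ (by norm_num))
  rw [Nat.div_add_mod] at h'
  rcases h' with (h | h) | h
  · have : Nat.blt p.1.val 3510 = true := by rw [Nat.blt_eq]; exact hlt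
    rw [this] at h
    exact Bool.noConfusion h
  · rw [p.2] at h
    exact Bool.noConfusion h
  · obtain ⟨s, hs, e⟩ := h g hg
    refine ⟨cv K s, cv_ne_zero K (three_ne s hs), funext fun i => ?_⟩
    have e' := congrArg (fun c => cv K (dig c i)) e
    simp only [dig_enc, cv_mul, cv_cS] at e'
    have hw : ∀ a ∈ sH.getD g [], a < tab.ng := by
      have h := letters_fix
      simp only [List.all_eq_true, Bool.and_eq_true, Nat.blt_eq] at h
      have hl : g < sH.length := hg
      rw [List.getD_eq_getElem _ _ hl]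
      exact (h _ (List.getElem_mem hl)).2
    have hr : (tau (hGen g) p).1.val = tab.walk p.1.val (sH.getD g []) := by
      show ((phi (hGen g).1 p.1 : Fin tab.n) : ℕ) = _
      rw [hGen_val hg, realised.act_apply hw]
    rw [hA, Pi.smul_apply, smul_eq_mul, vec, hr, e']
    simp only [Matrix.mulVec, dotProduct, mat, Matrix.of_apply, vec]

theorem tau_range_le : tau.range ≤ (sigma K).range := by
  rintro _ ⟨m, rfl⟩
  suffices h : subH ≤ ((sigma K).range.comap tau).map subH.subtype by
    obtain ⟨x, hx, e⟩ := h m.2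
    rwa [show m = x from Subtype.ext e.symm]
  refine (Subgroup.closure_le _).2 ?_
  rintro _ ⟨w, hw, rfl⟩
  obtain ⟨g, hg, rfl⟩ := List.getElem_of_mem hw
  have hg9 : g < 9 := hg
  obtain ⟨A, hA⟩ := mat_mem K hg9
  refine ⟨hGen g, ⟨A, (tau_gen K hg9 hA).symm⟩, ?_⟩
  show (hGen g).1 = _
  rw [hGen_val hg9, List.getD_eq_getElem _ _ hg]

theorem first_ker : (⟨act fiGen [0], Subgroup.subset_closure ⟨[0], by decide, rfl⟩⟩ : subH) ∈
    tau.ker := by
  obtain ⟨A, hA⟩ := mat_mem fieldK (show 0 < 9 by norm_num)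
  have e : (⟨act fiGen [0], Subgroup.subset_closure ⟨[0], by decide, rfl⟩⟩ : subH) = hGen 0 :=
    Subtype.ext (hGen_val (show 0 < 9 by norm_num)).symm
  rw [MonoidHom.mem_ker, e, tau_gen fieldK (show 0 < 9 by norm_num) hA]
  refine sigma_eq fieldK ?_
  rw [hA, show mat fieldK 0 = (1 : Matrix (Fin 6) (Fin 6) _) from Matrix.ext fun i j => by
    rw [mat, Matrix.of_apply, mats_ok.2.2, cv_id, Matrix.one_apply]]
  exact MapsPts.one

theorem card_subH : Nat.card subH = 18393661440 := by rw [subH_eq, card_stab]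

theorem ker_tau_le : Nat.card tau.ker ≤ 2 := by
  haveI := fi_le.1
  set six := [lev 0, lev 1, lev 2, lev 3, lev 4, lev 5] with hsix
  have hok : levelsOk tab [0] six = true := by
    obtain ⟨e, h⟩ := fixed_eq
    rw [hsix, ← e]
    simp only [levelsOk, h 0 (by norm_num), h 1 (by norm_num), h 2 (by norm_num),
      h 3 (by norm_num), h 4 (by norm_num), lev_ok0, lev_ok1, lev_ok2, lev_ok3, lev_ok4, lev_ok5,
      Bool.and_true, Nat.reduceAdd]
  have hprod : (six.map fun l => l.pts.length).prod = 9196830720 ∧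
      six.all (fun l => Nat.beq (forest.lab l.base) 1) = true := by
    rw [hsix]
    decide +kernel
  have h := card_lower realised hok
  rw [hprod.1, card_stab] at h
  have hsmall : Nat.card (fixSub phi ([0] ++ six.map Level.base)) ≤ 2 := by omega
  refine le_trans ?_ hsmall
  refine Nat.card_le_card_of_injective (fun m => ⟨m.1.1, fun i hi => ?_⟩) fun a b e => ?_
  · rcases List.mem_append.1 hi with hi | hi
    · have hm : m.1.1 ∈ fixSub phi [0] := by rw [← subH_eq]; exact m.1.2
      exact hm i hi
    · obtain ⟨l, hl, hlb⟩ := List.mem_map.1 hi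
      have h1 := List.all_eq_true.1 hprod.2 l hl
      rw [Nat.beq_eq, hlb] at h1
      have h2 := congrArg Subtype.val (Equiv.congr_fun (MonoidHom.mem_ker.1 m.2) ⟨i, h1⟩)
      exact h2
  · simp only at e
    have e1 := Subtype.ext_iff.1 e
    exact Subtype.ext (Subtype.ext e1)

theorem first_ne_one : act fiGen [0] ≠ 1 := by
  intro h
  have e := Fin.ext_iff.1 (Equiv.congr_fun (congrArg phi h)
    ⟨forest.roots.getD 2 0, (forest_ok.root (by rw [forest_counts.2.1]; norm_num)).1⟩)
  rw [map_one, Equiv.Perm.one_apply, realised.act_apply (by decide)] at e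
  exact absurd e (by decide +kernel)

theorem card_ker_tau : Nat.card tau.ker = 2 := by
  haveI := fi_le.1
  refine le_antisymm ker_tau_le ?_
  rw [Nat.succ_le_iff, Finite.one_lt_card_iff_nontrivial, Subgroup.nontrivial_iff_exists_ne_one]
  exact ⟨_, first_ker, fun e => first_ne_one (congrArg Subtype.val e)⟩

/-- A scalar matrix in the unitary group. -/
theorem scalar_mem {s : Fin 4} (hs : s ≠ 0) :
    ∃ A : Cfsg.SU 6 F 2, toM A = cv K s • 1 := by
  have h3 : cv K s ^ 3 = 1 := by
    have e : ∀ z : Fin 4, z ≠ 0 → cMul z (cMul z z) = 1 := by decide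
    rw [← cv_one K, ← e s hs, cv_mul, cv_mul]
    ring
  have hdet : (cv K s • (1 : Matrix (Fin 6) (Fin 6) F)).det = 1 := by
    rw [Matrix.det_smul, Matrix.det_one, mul_one, Fintype.card_fin,
      show (6 : ℕ) = 3 * 2 from rfl, pow_mul, h3, one_pow]
  refine ⟨⟨⟨_, hdet⟩, fun u v => ?_⟩, rfl⟩
  change Cfsg.hermForm 6 F 2 ((cv K s • (1 : Matrix (Fin 6) (Fin 6) F)) *ᵥ u)
    ((cv K s • (1 : Matrix (Fin 6) (Fin 6) F)) *ᵥ v) = Cfsg.hermForm 6 F 2 u v
  simp only [smul_mulVec, one_mulVec, Cfsg.hermForm, Pi.smul_apply, smul_eq_mul]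
  refine Finset.sum_congr rfl fun i _ => ?_
  linear_combination (u i * v i ^ 2) * h3

variable [Fintype F]

theorem card_su_six (hF : Fintype.card F = 4) :
    Nat.card (Cfsg.SU 6 F 2) = 27590492160 ∧
      Nat.card (Subgroup.center (Cfsg.SU 6 F 2)) = 3 := by
  have hF2 : Fintype.card F = 2 ^ 2 := by rw [hF]; norm_num
  refine ⟨?_, ?_⟩
  · have h := CfsgLib.Classical.card_su (n := 6) hF2 (by norm_num)
    have e : CfsgLib.Classical.unitaryOrder 2 6 = 82771476480 := by
      simp only [CfsgLib.Classical.unitaryOrder, Finset.prod_range_succ, Finset.prod_range_zero]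
      decide
    omega
  · rw [CfsgLib.Classical.card_center_su hF2 (by norm_num)]
    rfl

/-- The kernel is the centre and the two images agree. -/
theorem sigma_spec (hF : Fintype.card F = 4) :
    (sigma K).ker = Subgroup.center (Cfsg.SU 6 F 2) ∧ tau.range = (sigma K).range := by
  haveI := fi_le.1
  obtain ⟨hc, hz⟩ := card_su_six hF
  haveI : Finite (Cfsg.SU 6 F 2) := Nat.finite_of_card_ne_zero (by rw [hc]; norm_num)
  choose A hA using fun s : {s : Fin 4 // s ≠ 0} => scalar_mem K s.2
  have hAker : ∀ s, A s ∈ (sigma K).ker ∧ A s ∈ Subgroup.center (Cfsg.SU 6 F 2) := by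
    intro s
    refine ⟨MonoidHom.mem_ker.2 (sigma_eq K fun p => ⟨cv K s.1, cv_ne_zero K s.2, ?_⟩),
      Subgroup.mem_center_iff.2 fun B => Subtype.ext (Subtype.ext ?_)⟩
    · rw [hA, smul_mulVec, one_mulVec]
      rfl
    · show toM B * toM (A s) = toM (A s) * toM B
      rw [hA, Matrix.mul_smul, Matrix.smul_mul, mul_one, one_mul]
  have hinj : Function.Injective A := fun a b e => by
    have h := congrArg toM e
    rw [hA, hA] at h
    have h2 := congrFun (congrFun h 0) 0
    simp only [Matrix.smul_apply, Matrix.one_apply_eq, smul_eq_mul, mul_one] at h2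
    exact Subtype.ext (cv_inj K h2)
  have h3 : Nat.card {s : Fin 4 // s ≠ 0} = 3 := by
    rw [Nat.card_eq_fintype_card]; decide
  have hk3 : 3 ≤ Nat.card (sigma K).ker := by
    rw [← h3]
    exact Nat.card_le_card_of_injective (fun s => ⟨A s, (hAker s).1⟩)
      fun a b e => hinj (congrArg Subtype.val e)
  have h1 := tau.ker.card_mul_index
  rw [Subgroup.index_ker, card_ker_tau, card_subH] at h1
  have h2 := (sigma K).ker.card_mul_index
  rw [Subgroup.index_ker, hc] at h2
  have h4 := Subgroup.card_le_of_le (tau_range_le K)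
  have hR : Nat.card (sigma K).range = 9196830720 := by
    have := Nat.mul_le_mul_right (Nat.card (sigma K).range) hk3
    omega
  have hk : Nat.card (sigma K).ker = 3 := by
    rw [hR] at h2
    omega
  refine ⟨?_, Subgroup.eq_of_le_of_card_ge (tau_range_le K) (by omega)⟩
  refine Subgroup.eq_of_le_of_card_ge (fun z hz' => ?_) (by rw [hk, hz])
  have hb : Function.Bijective (fun s => (⟨A s, (hAker s).1⟩ : (sigma K).ker)) :=
    (Nat.bijective_iff_injective_and_card _).2
      ⟨fun a b e => hinj (congrArg Subtype.val e), by rw [h3, hk]⟩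
  obtain ⟨s, hs⟩ := hb.2 ⟨z, hz'⟩
  rw [show z = A s from (congrArg Subtype.val hs).symm]
  exact (hAker s).2

theorem center_psu_six (hF : Fintype.card F = 4) :
    Subgroup.center (Cfsg.PSU 6 F 2) = ⊥ := by
  have hF2 : Fintype.card F = 2 ^ 2 := by rw [hF]; norm_num
  haveI : Group.IsPerfect (Cfsg.SU 6 F 2) := ⟨by
    refine eq_top_iff.2 ?_
    rw [← CfsgLib.Classical.Unitary.su_closure_transvections hF2 (by norm_num) (by norm_num),
      Subgroup.closure_le, commutator_eq_closure]
    rintro A ⟨v, t, hv, hA⟩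
    exact Subgroup.subset_closure (CfsgLib.Classical.Unitary.su_transvection_mem_commutatorSet
      hF2 (by norm_num) A v t hv hA)⟩
  exact Group.IsPerfect.center_quotient_center_eq_bot _

/-- The image is the projective unitary group. -/
noncomputable def rangeIso (hF : Fintype.card F = 4) : tau.range ≃* Cfsg.PSU 6 F 2 :=
  (MulEquiv.subgroupCongr (sigma_spec K hF).2).trans
    ((QuotientGroup.quotientKerEquivRange (sigma K)).symm.trans
      (QuotientGroup.quotientMulEquivOfEq (sigma_spec K hF).1))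

include K in
theorem center_subH (hF : Fintype.card F = 4) : Subgroup.center subH = tau.ker := by
  haveI := fi_le.1
  refine le_antisymm (fun z hz => ?_) ?_
  · have hc : rangeIso K hF (tau.rangeRestrict z) ∈ Subgroup.center (Cfsg.PSU 6 F 2) := by
      refine Subgroup.mem_center_iff.2 fun x => ?_
      obtain ⟨y, hy⟩ := tau.rangeRestrict_surjective ((rangeIso K hF).symm x)
      rw [show x = rangeIso K hF (tau.rangeRestrict y) by rw [hy, MulEquiv.apply_symm_apply],
        ← map_mul, ← map_mul, ← map_mul, ← map_mul, Subgroup.mem_center_iff.1 hz y]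
    rw [center_psu_six hF, Subgroup.mem_bot, EmbeddingLike.map_eq_one_iff] at hc
    exact MonoidHom.mem_ker.2 (congrArg Subtype.val hc)
  · intro z hz
    have hb : Function.Bijective (fun b : Bool => (if b then
        ⟨_, first_ker⟩ else 1 : tau.ker)) :=
      (Nat.bijective_iff_injective_and_card _).2 ⟨fun a b e => by
        have h := congrArg (fun x : tau.ker => x.1.1) e
        rcases a <;> rcases b <;> simp at h ⊢
        · exact first_ne_one h.symm
        · exact first_ne_one h, by rw [card_ker_tau]; simp⟩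
    obtain ⟨b, hb'⟩ := hb.2 ⟨z, hz⟩
    have e := congrArg (fun x : tau.ker => x.1) hb'
    simp only at e
    rw [← e]
    rcases b
    · simp
    · refine Subgroup.mem_center_iff.2 fun h => Subtype.ext ?_
      have := first_central h.2
      show h.1 * act fiGen [0] = act fiGen [0] * h.1
      rw [act_cons, act_nil, one_mul]
      exact this.symm

theorem expand_sum (χ : subH → ZMod 2) (hχ : ∀ a b, χ (a * b) = χ a + χ b) :
    ∀ w : List ℕ, χ ⟨act fiGen (expand w), expand_mem w⟩ = (w.map fun g => χ (hGen g)).sum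
  | [] => by
    have h1 : χ 1 = 0 := by
      have := hχ 1 1
      rw [mul_one] at this
      exact left_eq_add.1 this
    rw [List.map_nil, List.sum_nil, ← h1]
    rfl
  | g :: w => by
    have e : (⟨act fiGen (expand (g :: w)), expand_mem (g :: w)⟩ : subH) =
        ⟨act fiGen (expand w), expand_mem w⟩ * hGen g := by
      refine Subtype.ext ?_
      show act fiGen (expand (g :: w)) = act fiGen (expand w) * (hGen g).1
      rw [expand, List.flatMap_cons, act_append]
      congr 1
      by_cases hg : g < 9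
      · rw [hGen_val hg]
      · rw [hGen, dif_neg hg, List.getD_eq_default _ _ (Nat.le_of_not_lt hg), act_nil]
        rfl
    rw [e, hχ, expand_sum χ hχ w, List.map_cons, List.sum_cons, add_comm]

include K in
theorem no_complement (hF : Fintype.card F = 4) (L : Subgroup subH) :
    ¬ (Subgroup.center subH).IsComplement' L := by
  classical
  haveI := fi_le.1
  intro hL
  have hi : L.index = 2 := by
    rw [hL.index_eq_card, center_subH K hF, card_ker_tau]
  let χ : subH → ZMod 2 := fun a => if a ∈ L then 0 else 1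
  have hχ : ∀ a b, χ (a * b) = χ a + χ b := by
    intro a b
    have h := Subgroup.mul_mem_iff_of_index_two hi (a := a) (b := b)
    by_cases ha : a ∈ L <;> by_cases hb : b ∈ L <;> simp [χ, h, ha, hb]
    rfl
  have h := expand_sum χ hχ aWord
  rw [Finset.sum_list_map_count, Finset.sum_eq_zero] at h
  · have e : (⟨act fiGen (expand aWord), expand_mem aWord⟩ : subH) =
        ⟨act fiGen [0], Subgroup.subset_closure ⟨[0], by decide, rfl⟩⟩ :=
      Subtype.ext (eq_of_base a_word.1)
    rw [e] at h
    have ha : (⟨act fiGen [0], Subgroup.subset_closure ⟨[0], by decide, rfl⟩⟩ : subH) ∈ L := by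
      by_contra hn
      simp only [χ, if_neg hn] at h
      exact one_ne_zero h
    have hzc : (⟨act fiGen [0], Subgroup.subset_closure ⟨[0], by decide, rfl⟩⟩ : subH) ∈
        Subgroup.center subH := by
      rw [center_subH K hF]; exact first_ker
    have := Subgroup.disjoint_def.1 hL.disjoint hzc ha
    exact first_ne_one (congrArg Subtype.val this)
  · intro g hg
    have h2 := List.all_eq_true.1 a_word.2 g (List.mem_toFinset.1 hg)
    rw [Nat.beq_eq] at h2
    rw [nsmul_eq_mul, show ((List.count g aWord : ℕ) : ZMod 2) = 0 from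
      (ZMod.natCast_eq_zero_iff _ _).2 (Nat.dvd_of_mod_eq_zero h2), zero_mul]

/-- The printed subgroup is a non-split double cover of the unitary group. -/
theorem double_cover (K : Fld F) (hF : Fintype.card F = 4) :
    Cfsg.IsNonsplitDoubleCover subH (Cfsg.PSU 6 F 2) :=
  ⟨by rw [center_subH K hF, card_ker_tau],
    ⟨(QuotientGroup.quotientMulEquivOfEq (center_subH K hF)).trans
      ((QuotientGroup.quotientKerEquivRange tau).trans (rangeIso K hF))⟩,
    no_complement K hF⟩

theorem double_cover_congr {H H' : Type*} [Group H] [Finite H] [Group H'] {P : Type*} [Group P] (e : H ≃* H')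
    (h : Cfsg.IsNonsplitDoubleCover H' P) : Cfsg.IsNonsplitDoubleCover H P := by
  obtain ⟨h1, ⟨f⟩, h3⟩ := h
  haveI : Finite H' := Finite.of_equiv H e.toEquiv
  have he : (Subgroup.center H).map e.toMonoidHom = Subgroup.center H' := by
    ext z
    rw [Subgroup.mem_map_equiv, Subgroup.mem_center_iff, Subgroup.mem_center_iff]
    refine ⟨fun hz g => e.symm.injective ?_, fun hz g => e.injective ?_⟩
    · rw [map_mul, map_mul, hz]
    · rw [map_mul, map_mul, e.apply_symm_apply, hz]
  refine ⟨?_, ⟨(QuotientGroup.congr _ _ e he).trans f⟩, fun L hL => h3 (L.map e.toMonoidHom) ?_⟩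
  · rw [← h1, ← he, Subgroup.card_map_of_injective e.injective]
  · rw [← he]
    refine Subgroup.isComplement'_of_card_mul_and_disjoint ?_ ?_
    · rw [Subgroup.card_map_of_injective e.injective, Subgroup.card_map_of_injective e.injective,
        hL.card_mul, Nat.card_congr e.toEquiv]
    · exact Subgroup.disjoint_map e.injective hL.disjoint

end CfsgLib.Fi22P
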