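import Cfsg.Agent.Lib.He.Sp
import Cfsg.Agent.Lib.Fi22P.PermCheck
import Cfsg.Agent.Lib.Fi22P.U6Data

/-!
Kernel checks of coordinates for 693 points.
-/

set_option autoImplicit false
set_option maxRecDepth 100000

namespace CfsgLib.Fi22P

open CfsgLib.PresCert Cfsg.Spor
open CfsgLib.He (cAdd cMul)

/-- The square of a code. -/
def cCj (a : Fin 4) : Fin 4 := cMul a a

/-- A sum of six codes. -/
def cS (f : Fin 6 → Fin 4) : Fin 4 :=
  cAdd (cAdd (cAdd (f 0) (f 1)) (cAdd (f 2) (f 3))) (cAdd (f 4) (f 5))

/-- The identity, in codes. -/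
def cId (i j : Fin 6) : Fin 4 := if i = j then 1 else 0

/-- An entry of a matrix. -/
def ent (g : ℕ) (i j : Fin 6) : Fin 4 :=
  Fin.ofNat 4 (((u6Mats.getD g []).getD i.val []).getD j.val 0)

/-- A digit of a code of a vector. -/
def dig (c : ℕ) (i : Fin 6) : Fin 4 := Fin.ofNat 4 (c / 4 ^ i.val)

/-- The code of a vector. -/
def enc (f : Fin 6 → Fin 4) : ℕ :=
  (f 0).val + 4 * (f 1).val + 16 * (f 2).val + 64 * (f 3).val + 256 * (f 4).val + 1024 * (f 5).val

/-- The point of a code. -/
def ptOf (c : ℕ) : ℕ := look u6Points 256 12 c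

/-- The coordinates of a point. -/
def crd (p : ℕ) (i : Fin 6) : Fin 4 := dig (look u6Coords 256 12 p) i

/-- The vector is singular, in codes. -/
def isoB (f : Fin 6 → Fin 4) : Bool := Nat.beq (cS fun i => cMul (f i) (cCj (f i))).val 0

/-- Each singular code is a multiple of the coordinates of a point, on a block of codes. -/
def coverBlock (b : ℕ) : Bool :=
  (List.range 1024).all fun j =>
    let c := 1024 * b + j
    Nat.beq c 0 || !(isoB (dig c)) || (Nat.blt (ptOf c) 3510 &&
      Nat.beq (forest.lab (ptOf c)) 1 &&
      ([1, 2, 3] : List (Fin 4)).any fun s => Nat.beq (enc fun i => cMul s (crd (ptOf c) i)) c)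

/-- The coordinates of a point are singular and determine it, on a block of points. -/
def sepBlock (b : ℕ) : Bool :=
  (List.range 1000).all fun j =>
    let p := 1000 * b + j
    !(Nat.blt p 3510 && Nat.beq (forest.lab p) 1) || (isoB (crd p) &&
      !(Nat.beq (enc (crd p)) 0) &&
      ([1, 2, 3] : List (Fin 4)).all fun s => Nat.beq (ptOf (enc fun i => cMul s (crd p i))) p)

/-- A generator of the stabiliser moves the coordinates as its matrix says, on a block. -/
def imgBlock (b : ℕ) : Bool :=
  (List.range 1000).all fun j =>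
    let p := 1000 * b + j
    !(Nat.blt p 3510 && Nat.beq (forest.lab p) 1) || (List.range 9).all fun g =>
      let r := tab.walk p (sH.getD g [])
      let v := enc fun i => cS fun k => cMul (ent g i k) (crd p k)
      ([1, 2, 3] : List (Fin 4)).any fun s => Nat.beq (enc fun i => cMul s (crd r i)) v

theorem cover_block0 : coverBlock 0 = true := by decide +kernel

theorem cover_block1 : coverBlock 1 = true := by decide +kernel

theorem cover_block2 : coverBlock 2 = true := by decide +kernel

theorem cover_block3 : coverBlock 3 = true := by decide +kernel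

theorem cover_blocks {c : ℕ} (hc : c < 4096) : coverBlock (c / 1024) = true := by
  obtain h | h | h | h : c / 1024 = 0 ∨ c / 1024 = 1 ∨ c / 1024 = 2 ∨ c / 1024 = 3 := by omega
  all_goals rw [h]
  exacts [cover_block0, cover_block1, cover_block2, cover_block3]

theorem sep_blocks : fourBlocks sepBlock = true := by decide +kernel

theorem mats_ok : (∀ g < 9, ∀ i j : Fin 6,
    cS (fun r => cMul (ent g r i) (cCj (ent g r j))) = cId i j) ∧
    (∀ g < 9, ∀ i j : Fin 6, cS (fun r => cMul (ent g i r) (ent g r j)) = cId i j) ∧
    (∀ i j : Fin 6, ent 0 i j = cId i j) := by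
  decide +kernel

theorem a_word : sameBase (expand aWord) [0] = true ∧
    aWord.all (fun g => Nat.beq (aWord.count g % 2) 0) = true := by
  decide +kernel

/-- Words carrying the first point to the roots of the suborbits. -/
def rootWord (k : ℕ) : List ℕ := ([[], [1, 0, 2, 1], [1]] : List (List ℕ)).getD k []

/-- The product of the first generator with a conjugate. -/
def prodWord (k : ℕ) : List ℕ := (rootWord k).reverse ++ [0] ++ rootWord k ++ [0]

theorem root_words : (List.range 3).all (fun k =>
      Nat.beq (tab.walk 0 (rootWord k)) (forest.roots.getD k 0) &&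
      (rootWord k).all (fun g => Nat.blt g 9)) = true ∧
    sameBase (prodWord 1 ++ prodWord 1) [] = true ∧
    sameBase (prodWord 2 ++ prodWord 2 ++ prodWord 2) [] = true ∧
    (sameBase (prodWord 1) [] || sameBase (prodWord 2) []) = false := by
  decide +kernel

end CfsgLib.Fi22P
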